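import Mathlib
import Cfsg.Agent.H341.ThreeList_m3
import Cfsg.Agent.H262.Rx.RedSL
import Cfsg.Agent.S0145
import Cfsg.Agent.H178.RG.Defs
import Cfsg.Agent.H876.SpGen
import Cfsg.Agent.S0749
import Cfsg.Agent.H514.DP.Cyc_m3
import Cfsg.Agent.H912.CrossList_m3
import Cfsg.Agent.H122.OrthPlus
import Cfsg.Agent.H122.OrthMinus
import Cfsg.Agent.H117.OmegaOdd
import Cfsg.Agent.H540.ClassNum
import Cfsg.Agent.LieClassical.OmegaReindex
import Cfsg.Agent.S0788
import Cfsg.Agent.S0789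
import Cfsg.Agent.S2558
import Cfsg.Agent.S2560
import Cfsg.Agent.H170.EvenUpper
import Cfsg.Agent.S0713
import Mathlib.GroupTheory.Perm.DomMulAct
import Mathlib.GroupTheory.GroupAction.Primitive
import Cfsg.Agent.Characters.Core
import Cfsg.Agent.Characters.Central
import Cfsg.Agent.H686.CharKit
import Cfsg.Agent.H716.Rg.ExcIn_m3
import Cfsg.Agent.FastGrp
import Cfsg.Agent.Prune
set_option linter.all false

section
prune_inst 0x7ffeadf8abad39dedfff7e3fffd8ddf833808fffa4dff943ffe069bf3b9f238009c563a501e090fe0e17c01410a87843f97eceffe06bdc7ff3fd57b45ffbee0ff5f7bd0011948c340e2c0ffe63f0770e6f3fffff7fffdfffffffffffffffffbeffbfefffffff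

-- part: H835/Rg/Reg_mg
section
prune_inst 0x4206040284010000000000220204484460001b200630000c8200c0605c1252209c0afe0b690050602aaa80540390000021000900000000000840000011c00800020960421000019000010000008010000000800020000000000000000000004010000000
set_option linter.all false
open scoped Cfsg.Agent.FastGrp

-- part: H835/Rg/Num
section
/-!
# S5714: numerical lemmas for the two regimes (bounded and unbounded rank)

`u = ⌊n ^ (1/4)⌋ = Nat.sqrt (Nat.sqrt n)` is the bound `L` for the degree, `s0 = Nat.sqrt n / 4`.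
-/

set_option autoImplicit false

namespace Cfsg.Agent.H835.Rg

open Filter Topology

/-- the degree bound -/
def Lf (n : ℕ) : ℕ := Nat.sqrt (Nat.sqrt n)

/-- the dimension bound -/
def sf (n : ℕ) : ℕ := Nat.sqrt n / 4

theorem le_Lf {u n : ℕ} (h : u ^ 4 ≤ n) : u ≤ Lf n := by
  unfold Lf
  rw [Nat.le_sqrt', Nat.le_sqrt', ← pow_mul]
  exact h

theorem Lf_pow_le (n : ℕ) : Lf n ^ 4 ≤ n := by
  have h1 : Lf n ^ 2 ≤ Nat.sqrt n := Nat.sqrt_le' _
  calc Lf n ^ 4 = (Lf n ^ 2) ^ 2 := by rw [← pow_mul]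
    _ ≤ Nat.sqrt n ^ 2 := Nat.pow_le_pow_left h1 2
    _ ≤ n := Nat.sqrt_le' _

theorem lt_Lf_pow (n : ℕ) : n < (Lf n + 1) ^ 4 := by
  have h1 : Nat.sqrt n < (Lf n + 1) ^ 2 := Nat.lt_succ_sqrt' _
  have h2 : n < (Nat.sqrt n + 1) ^ 2 := Nat.lt_succ_sqrt' _
  calc n < (Nat.sqrt n + 1) ^ 2 := h2
    _ ≤ ((Lf n + 1) ^ 2) ^ 2 := Nat.pow_le_pow_left h1 2
    _ = _ := by rw [← pow_mul]

theorem sf_sq_le (n : ℕ) : 16 * sf n ^ 2 ≤ n := by
  have h1 : 4 * sf n ≤ Nat.sqrt n := Nat.mul_div_le _ _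
  calc 16 * sf n ^ 2 = (4 * sf n) ^ 2 := by ring
    _ ≤ Nat.sqrt n ^ 2 := Nat.pow_le_pow_left h1 2
    _ ≤ n := Nat.sqrt_le' _

theorem Lf_sq_le (n : ℕ) : Lf n ^ 2 ≤ 4 * (sf n + 1) := by
  have h1 : Lf n ^ 2 ≤ Nat.sqrt n := Nat.sqrt_le' _
  have h2 : Nat.sqrt n < 4 * (sf n + 1) := by
    unfold sf
    omega
  omega

/-- powers of the logarithm are bounded by small powers -/
theorem log_bound (a : ℕ) {δ : ℝ} (hδ : 0 < δ) : ∃ B : ℝ, 1 ≤ B ∧ ∀ n Q : ℝ, 0 ≤ n → 1 ≤ Q →
    ((n ^ 2 * Real.log Q) ^ a + 1) ≤ B * (n + 1) ^ (2 * a) * Q ^ δ := by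
  have hd : 0 < δ / (a + 1) := by positivity
  refine ⟨(δ / (a + 1))⁻¹ ^ a + 1, by have : 0 ≤ (δ / (a + 1))⁻¹ ^ a := by positivity
                                      linarith, fun n Q hn hQ => ?_⟩
  have h0 : 0 ≤ Real.log Q := Real.log_nonneg hQ
  have h1 : Real.log Q ≤ Q ^ (δ / (a + 1)) / (δ / (a + 1)) := Real.log_le_rpow_div (by linarith) hd
  have h2 : (n ^ 2 * Real.log Q) ^ a ≤ ((n + 1) ^ 2 * (Q ^ (δ / (a + 1)) / (δ / (a + 1)))) ^ a := by
    apply pow_le_pow_left₀ (by positivity)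
    apply mul_le_mul _ h1 h0 (by positivity)
    apply pow_le_pow_left₀ hn (by linarith)
  have h3 : (Q ^ (δ / (a + 1))) ^ a ≤ Q ^ δ := by
    rw [← Real.rpow_natCast, ← Real.rpow_mul (by linarith)]
    apply Real.rpow_le_rpow_of_exponent_le hQ
    rw [div_mul_eq_mul_div, div_le_iff₀ (by positivity)]
    linarith only [hδ]
  have h4 : 1 ≤ Q ^ δ := Real.one_le_rpow hQ hδ.le
  have h5 : (1 : ℝ) ≤ (n + 1) ^ (2 * a) := one_le_pow₀ (by linarith only [hn])
  have h6 : ((n + 1) ^ 2 * (Q ^ (δ / (a + 1)) / (δ / (a + 1)))) ^ a =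
      (δ / (a + 1))⁻¹ ^ a * (n + 1) ^ (2 * a) * (Q ^ (δ / (a + 1))) ^ a := by
    rw [mul_pow, div_pow, ← pow_mul, inv_pow]
    field_simp
  have h7 : (δ / (a + 1))⁻¹ ^ a * (n + 1) ^ (2 * a) * (Q ^ (δ / (a + 1))) ^ a ≤
      (δ / (a + 1))⁻¹ ^ a * (n + 1) ^ (2 * a) * Q ^ δ :=
    mul_le_mul_of_nonneg_left h3 (by (clear * - hδ hn; positivity))
  have h8 : 1 ≤ (n + 1) ^ (2 * a) * Q ^ δ := one_le_mul_of_one_le_of_one_le h5 h4
  calc (n ^ 2 * Real.log Q) ^ a + 1 ≤ (δ / (a + 1))⁻¹ ^ a * (n + 1) ^ (2 * a) * Q ^ δ + (n + 1) ^ (2 * a) * Q ^ δ := by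
        linarith
    _ = _ := by ring

/-- polynomials in `u` are beaten by `2 ^ (- u / 16)` -/
theorem poly_exp (B : ℝ) (j : ℕ) {δ : ℝ} (hδ : 0 < δ) :
    ∃ u0 : ℕ, ∀ u : ℕ, u0 ≤ u → B * ((u : ℝ) + 1) ^ j * (2 : ℝ) ^ (-(u : ℝ) / 16) ≤ δ := by
  have hr : |(2 : ℝ) ^ (-(1 : ℝ) / 16)| < 1 := by
    rw [abs_of_pos (by positivity)]
    apply Real.rpow_lt_one_of_one_lt_of_neg (by norm_num) (by norm_num)
  have h1 := tendsto_pow_const_mul_const_pow_of_abs_lt_one j hr
  have h2 : Tendsto (fun u : ℕ => B * ((2 : ℝ) ^ (-(1 : ℝ) / 16))⁻¹ * ((((u + 1 : ℕ) : ℝ)) ^ j *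
      ((2 : ℝ) ^ (-(1 : ℝ) / 16)) ^ (u + 1))) atTop (𝓝 (B * ((2 : ℝ) ^ (-(1 : ℝ) / 16))⁻¹ * 0)) :=
    (h1.comp (tendsto_add_atTop_nat 1)).const_mul _
  rw [mul_zero] at h2
  obtain ⟨u0, hu⟩ := eventually_atTop.1 (h2.eventually_le_const hδ)
  refine ⟨u0, fun u hle => ?_⟩
  have h3 := hu u hle
  have h4 : (2 : ℝ) ^ (-(u : ℝ) / 16) = ((2 : ℝ) ^ (-(1 : ℝ) / 16)) ^ u := by
    rw [← Real.rpow_natCast, ← Real.rpow_mul (by norm_num)]
    congr 1
    ring
  have h5 : ((2 : ℝ) ^ (-(1 : ℝ) / 16)) ≠ 0 := by positivity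
  have h6 : B * ((2 : ℝ) ^ (-(1 : ℝ) / 16))⁻¹ * ((((u + 1 : ℕ) : ℝ)) ^ j * ((2 : ℝ) ^ (-(1 : ℝ) / 16)) ^ (u + 1)) =
      B * ((u : ℝ) + 1) ^ j * ((2 : ℝ) ^ (-(1 : ℝ) / 16)) ^ u := by
    rw [pow_succ ((2 : ℝ) ^ (-(1 : ℝ) / 16)) u]
    push_cast
    field_simp
  rw [h4, ← h6]
  exact h3

/-- **first estimate** (unbounded rank) -/
theorem num_one (a : ℕ) (B : ℝ) (hB : 0 ≤ B) {ε : ℝ} (hε : 0 < ε) : ∃ u0 : ℕ, ∀ n : ℕ, u0 ≤ Lf n → ∀ Q : ℝ, 2 ≤ Q →
    B * (((n : ℝ) ^ 2 * Real.log Q) ^ a + 1) ^ 3 * ((n : ℝ) + 1) ^ 3 * Q ^ (-(Lf n : ℝ) / 16) ≤ ε := by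
  obtain ⟨B1, hB1, hb⟩ := log_bound a (δ := 1 / 48) (by norm_num)
  obtain ⟨u0, hu⟩ := poly_exp (B * B1 ^ 3 * 2 ^ (1 / 16 : ℝ)) (24 * a + 12) hε
  refine ⟨max u0 1, fun n hn Q hQ => ?_⟩
  have hu1 : (1 : ℝ) ≤ Lf n := by exact_mod_cast (le_max_right u0 1).trans hn
  have h1 := hb n Q (by positivity) (by linarith)
  have h2 : ((n : ℝ) + 1) ≤ ((Lf n : ℝ) + 1) ^ 4 := by exact_mod_cast lt_Lf_pow n
  have h3 : Q ^ (1 / 16 - (Lf n : ℝ) / 16) ≤ (2 : ℝ) ^ (1 / 16 - (Lf n : ℝ) / 16) :=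
    Real.rpow_le_rpow_of_nonpos (by norm_num) hQ (by linarith only [hu1])
  have hQ0 : (0 : ℝ) < Q := by linarith only [hQ]
  have hl : 0 ≤ Real.log Q := Real.log_nonneg (by linarith only [hQ])
  calc B * (((n : ℝ) ^ 2 * Real.log Q) ^ a + 1) ^ 3 * ((n : ℝ) + 1) ^ 3 * Q ^ (-(Lf n : ℝ) / 16)
      ≤ B * (B1 * ((n : ℝ) + 1) ^ (2 * a) * Q ^ (1 / 48 : ℝ)) ^ 3 * ((n : ℝ) + 1) ^ 3 * Q ^ (-(Lf n : ℝ) / 16) := by
        gcongr
    _ = B * B1 ^ 3 * ((n : ℝ) + 1) ^ (6 * a + 3) * Q ^ (1 / 16 - (Lf n : ℝ) / 16) := by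
        have e1 : (Q ^ (1 / 48 : ℝ)) ^ 3 = Q ^ (1 / 16 : ℝ) := by
          rw [← Real.rpow_natCast, ← Real.rpow_mul hQ0.le]
          norm_num
        have e2 : Q ^ (1 / 16 - (Lf n : ℝ) / 16) = Q ^ (1 / 16 : ℝ) * Q ^ (-(Lf n : ℝ) / 16) := by
          rw [← Real.rpow_add hQ0]
          congr 1
          ring
        rw [e2, mul_pow, mul_pow, e1, ← pow_mul]
        ring
    _ ≤ B * B1 ^ 3 * (((Lf n : ℝ) + 1) ^ 4) ^ (6 * a + 3) * (2 : ℝ) ^ (1 / 16 - (Lf n : ℝ) / 16) := by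
        gcongr
    _ = B * B1 ^ 3 * 2 ^ (1 / 16 : ℝ) * ((Lf n : ℝ) + 1) ^ (24 * a + 12) * (2 : ℝ) ^ (-(Lf n : ℝ) / 16) := by
        have e2 : (2 : ℝ) ^ (1 / 16 - (Lf n : ℝ) / 16) = 2 ^ (1 / 16 : ℝ) * 2 ^ (-(Lf n : ℝ) / 16) := by
          rw [← Real.rpow_add (by norm_num)]
          congr 1
          ring
        rw [e2, ← pow_mul]
        ring
    _ ≤ ε := hu _ ((le_max_left _ _).trans hn)

/-- **second estimate** (unbounded rank) -/
theorem num_two (B : ℝ) {ε : ℝ} (hε : 0 < ε) : ∃ u0 : ℕ, ∀ n : ℕ, u0 ≤ Lf n →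
    B * (Lf n : ℝ) / ((sf n : ℝ) + 1) ≤ ε := by
  refine ⟨⌈4 * B / ε⌉₊ + 1, fun n hn => ?_⟩
  have h1 : (Lf n : ℝ) ^ 2 ≤ 4 * ((sf n : ℝ) + 1) := by exact_mod_cast Lf_sq_le n
  have h2 : 4 * B / ε ≤ Lf n := by
    refine (Nat.le_ceil _).trans ?_
    exact_mod_cast (Nat.le_succ _).trans hn
  have h3 : 4 * B ≤ Lf n * ε := (div_le_iff₀ hε).1 h2
  rw [div_le_iff₀ (by positivity)]
  have h4 : (0 : ℝ) ≤ Lf n := by positivity
  have h5 : B * Lf n * 4 ≤ Lf n ^ 2 * ε := by nlinarith only [h3]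
  nlinarith only [hε, h1, h5]

/-- **third estimate** (unbounded rank) -/
theorem num_three (a : ℕ) (B : ℝ) (hB : 0 ≤ B) : ∃ u0 : ℕ, ∀ n : ℕ, u0 ≤ Lf n → ∀ Q : ℝ, 2 ≤ Q →
    Q ^ ((sf n : ℝ) ^ 2) * B * (((n : ℝ) ^ 2 * Real.log Q) ^ a) ^ 2 ≤ Q ^ ((n : ℝ) / 4) := by
  obtain ⟨u0, hu⟩ := num_one (2 * a) B hB one_pos
  refine ⟨max u0 1, fun n hn Q hQ => ?_⟩
  have hQ0 : (0 : ℝ) < Q := by linarith only [hQ]
  have hl : 0 ≤ Real.log Q := Real.log_nonneg (by linarith)
  have h1 := hu n ((le_max_left _ _).trans hn) Q hQ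
  have hu1 : (1 : ℝ) ≤ Lf n := by exact_mod_cast (le_max_right u0 1).trans hn
  have h2 : (Lf n : ℝ) ≤ n := by
    have : Lf n ≤ n := (Nat.le_self_pow (by norm_num) _).trans (Lf_pow_le n)
    exact_mod_cast this
  have h3 : 16 * (sf n : ℝ) ^ 2 ≤ n := by exact_mod_cast sf_sq_le n
  have h4 : (((n : ℝ) ^ 2 * Real.log Q) ^ a) ^ 2 ≤ (((n : ℝ) ^ 2 * Real.log Q) ^ (2 * a) + 1) ^ 3 * ((n : ℝ) + 1) ^ 3 := by
    have e : (((n : ℝ) ^ 2 * Real.log Q) ^ a) ^ 2 = ((n : ℝ) ^ 2 * Real.log Q) ^ (2 * a) := by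
      rw [← pow_mul, mul_comm a 2]
    rw [e]
    have h5 : 0 ≤ ((n : ℝ) ^ 2 * Real.log Q) ^ (2 * a) := by (clear * - hl; positivity)
    have h6 : (1 : ℝ) ≤ ((n : ℝ) + 1) ^ 3 := one_le_pow₀ (by linarith only [hu1, h2])
    have h7 : ((n : ℝ) ^ 2 * Real.log Q) ^ (2 * a) + 1 ≤ (((n : ℝ) ^ 2 * Real.log Q) ^ (2 * a) + 1) ^ 3 :=
      le_self_pow₀ (by linarith only [h5]) (by norm_num)
    nlinarith only [e, h6, h7]
  have h5 : Q ^ ((sf n : ℝ) ^ 2) ≤ Q ^ ((n : ℝ) / 4) * Q ^ (-(Lf n : ℝ) / 16) := by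
    rw [← Real.rpow_add hQ0]
    apply Real.rpow_le_rpow_of_exponent_le (by linarith only [hQ])
    linarith only [h2, h3]
  calc Q ^ ((sf n : ℝ) ^ 2) * B * (((n : ℝ) ^ 2 * Real.log Q) ^ a) ^ 2
      ≤ (Q ^ ((n : ℝ) / 4) * Q ^ (-(Lf n : ℝ) / 16)) * B * ((((n : ℝ) ^ 2 * Real.log Q) ^ (2 * a) + 1) ^ 3 *
          ((n : ℝ) + 1) ^ 3) := by gcongr
    _ = Q ^ ((n : ℝ) / 4) * (B * (((n : ℝ) ^ 2 * Real.log Q) ^ (2 * a) + 1) ^ 3 * ((n : ℝ) + 1) ^ 3 *
          Q ^ (-(Lf n : ℝ) / 16)) := by ring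
    _ ≤ Q ^ ((n : ℝ) / 4) * 1 := by gcongr
    _ = _ := mul_one _

/-- **the estimate for bounded rank** -/
theorem num_bd (a N : ℕ) (B : ℝ) (hB : 0 ≤ B) {ε : ℝ} (hε : 0 < ε) : ∃ Q0 : ℕ, ∀ n : ℕ, n ≤ N → ∀ Q : ℝ, (Q0 : ℝ) ≤ Q →
    1 ≤ Q ∧ B * (((n : ℝ) ^ 2 * Real.log Q) ^ a + 1) ^ 3 * Q ^ (-(1 : ℝ) / 16) ≤ ε := by
  obtain ⟨B1, hB1, hb⟩ := log_bound a (δ := 1 / 96) (by norm_num)
  have h1 : Tendsto (fun Q : ℝ => B * B1 ^ 3 * (((N : ℝ) + 1) ^ (2 * a)) ^ 3 * Q ^ (-(1 / 32 : ℝ))) atTop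
      (𝓝 (B * B1 ^ 3 * (((N : ℝ) + 1) ^ (2 * a)) ^ 3 * 0)) :=
    (tendsto_rpow_neg_atTop (by norm_num)).const_mul _
  rw [mul_zero] at h1
  obtain ⟨R, hR⟩ := eventually_atTop.1 (h1.eventually_le_const hε)
  refine ⟨max ⌈R⌉₊ 1, fun n hn Q hQ => ?_⟩
  have hQ1 : 1 ≤ Q := by
    refine le_trans ?_ hQ
    exact_mod_cast le_max_right _ _
  have hQR : R ≤ Q := by
    refine ((Nat.le_ceil R).trans ?_).trans hQ
    exact_mod_cast le_max_left _ _
  have hQ0 : (0 : ℝ) < Q := by linarith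
  have hl : 0 ≤ Real.log Q := Real.log_nonneg hQ1
  have hnN : (n : ℝ) ≤ N := by exact_mod_cast hn
  refine ⟨hQ1, ?_⟩
  calc B * (((n : ℝ) ^ 2 * Real.log Q) ^ a + 1) ^ 3 * Q ^ (-(1 : ℝ) / 16)
      ≤ B * (B1 * ((n : ℝ) + 1) ^ (2 * a) * Q ^ (1 / 96 : ℝ)) ^ 3 * Q ^ (-(1 : ℝ) / 16) := by
        gcongr
        exact hb n Q (by positivity) hQ1
    _ ≤ B * (B1 * ((N : ℝ) + 1) ^ (2 * a) * Q ^ (1 / 96 : ℝ)) ^ 3 * Q ^ (-(1 : ℝ) / 16) := by gcongr
    _ = B * B1 ^ 3 * (((N : ℝ) + 1) ^ (2 * a)) ^ 3 * Q ^ (-(1 / 32 : ℝ)) := by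
        have e1 : (Q ^ (1 / 96 : ℝ)) ^ 3 = Q ^ (1 / 32 : ℝ) := by
          rw [← Real.rpow_natCast, ← Real.rpow_mul hQ0.le]
          norm_num
        have e2 : Q ^ (-(1 / 32 : ℝ)) = Q ^ (1 / 32 : ℝ) * Q ^ (-(1 : ℝ) / 16) := by
          rw [← Real.rpow_add hQ0]
          norm_num
        rw [e2, mul_pow, mul_pow, e1]
        ring
    _ ≤ ε := hR Q hQR

end Cfsg.Agent.H835.Rg
end

-- part: H835/Rg/Reg
section
/-!
# S5714: the two regimes (bounded and unbounded rank) for the classical groups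

* `CoreSt`, `SmallSt`, `BadSt` : the statements of `core`, `small_le`, `badN_le`;
* `Dat` : the data;
* `unb` : unbounded rank; `bdd` : bounded rank; `famP_of` : the glue.
-/

set_option autoImplicit false

namespace Cfsg.Agent.H835.Rg

open Cfsg Cfsg.Agent.OrdDiv Cfsg.Agent.H436 Cfsg.Agent.H141.Rg Polynomial Module

/-- the statement of `core` -/
def CoreSt : Prop := ∃ A : ℝ, 0 < A ∧ ∀ (K V : Type) [Field K] [Finite K] [AddCommGroup V] [Module K V] [Finite V] (X : Type) [Group X]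
    [Finite X] (σ : K →+* K), (∀ x, σ (σ x) = x) → ∀ (τ : X →* (V →ₗ[K] V)) (s : K[X]), (s = 1 ∨ s = Polynomial.X ^ 2 - 1) →
    ∀ (c : ℕ → ℝ), (∀ D, 1 ≤ c D) → EL σ τ s c → ∀ (k L : ℕ) (M : ℝ), 0 ≤ M → 1 ≤ k → 1 ≤ L →
    (∀ D, L ≤ D → D ≤ finrank K V → c D * (Nat.card K : ℝ) ^ (-(D : ℝ) / 16) ≤ M) →
    (Nat.card {x : X // ¬ GoodPow (τ x) (smallP (τ x) (Sml L s)) k} : ℝ) ≤
      A * k ^ 3 * ((finrank K V : ℝ) + 1) ^ 3 * M * Nat.card X

/-- the statement of `small_le` -/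
def SmallSt : Prop := ∃ A : ℝ, 0 < A ∧ ∀ (K V : Type) [Field K] [Finite K] [AddCommGroup V] [Module K V] [Finite V] (X : Type) [Group X]
    [Finite X] (σ : K →+* K), (∀ x, σ (σ x) = x) → ∀ (τ : X →* (V →ₗ[K] V)) (s : K[X]), (s = 1 ∨ s = Polynomial.X ^ 2 - 1) →
    ∀ (c : ℕ → ℝ) (c1 : ℝ), 1 ≤ c1 → (∀ D, 2 * D < finrank K V → c D ≤ c1) → (∀ D, c D ≤ c1 * Nat.card K) →
    EL σ τ s c → (s ≠ 1 → ELpm τ c) → ∀ L : ℕ, 1 ≤ L → 16 * L ≤ finrank K V →
    (∑ᶠ x : X, (finrank K (smallP (τ x) (Sml L s)) : ℝ)) ≤ A * c1 * L * Nat.card X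

/-- the statement of `badN_le` -/
def BadSt : Prop := ∀ {K V : Type} [Field K] [Finite K] [AddCommGroup V] [Module K V] [Finite V] {X : Type} [Group X] [Finite X]
    {T : Type} [Group T] [Finite T] (π : X →* T) (_ : Function.Surjective π) (_ : π.ker ≤ Subgroup.center X)
    {τ : X →* (V →ₗ[K] V)} (_ : Function.Injective τ) {d ρ w : ℝ} {s0 k : ℕ} (_ : 0 < w) (_ : 0 ≤ d)
    (_ : ∀ χ : T → ℂ, IsIrrCharacter T χ → (∃ g, χ g ≠ 1) → d ≤ (χ 1).re) (_ : 0 ≤ ρ)
    (_ : (Nat.card K : ℝ) ^ (s0 ^ 2) * (w * Nat.card (ConjClasses X)) ≤ (ρ * d) ^ 2),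
    (badN T k ρ : ℝ) * Nat.card X ≤
      (Nat.card {x : X // ¬ ∃ A : Submodule K V, finrank K A ≤ s0 ∧ GoodPow (τ x) A (k + 1)} + Nat.card X / w) * Nat.card T

/-- the data of a classical group: `T = X / Z`, `X` acts on `V`, `d` is a lower bound for the degrees of `T` -/
structure Dat (K V X T : Type) [Field K] [AddCommGroup V] [Module K V] [Group X] [Group T]
    (τ : X →* (V →ₗ[K] V)) (π : X →* T) (d : ℝ) : Prop where
  surj : Function.Surjective π
  ker : π.ker ≤ Subgroup.center X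
  inj : Function.Injective τ
  d0 : 0 ≤ d
  deg : ∀ χ : T → ℂ, IsIrrCharacter T χ → (∃ g, χ g ≠ 1) → d ≤ (χ 1).re

section

variable {K V X T : Type} [Field K] [Finite K] [AddCommGroup V] [Module K V] [Finite V] [Group X] [Finite X] [Group T]
  [Finite T] {τ : X →* (V →ₗ[K] V)} {π : X →* T} {d : ℝ}

omit [Finite K] [Finite T] in
theorem Dat.card_le (h : Dat K V X T τ π d) : Nat.card T ≤ Nat.card K ^ (finrank K V ^ 2) := by
  have : Module.Finite K V := inferInstance
  have : Finite (V →ₗ[K] V) := Finite.of_injective (fun f => (f : V → V)) DFunLike.coe_injective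
  have h1 : Nat.card T ≤ Nat.card X := Nat.card_le_card_of_surjective _ h.surj
  have h2 : Nat.card X ≤ Nat.card (V →ₗ[K] V) := Nat.card_le_card_of_injective _ h.inj
  have h3 : Nat.card (V →ₗ[K] V) = Nat.card K ^ (finrank K V ^ 2) := by
    rw [Module.natCard_eq_pow_finrank (K := K), Module.finrank_linearMap, sq]
  omega

omit [Finite K] in
theorem Dat.lg_le (h : Dat K V X T τ π d) : lg T ≤ (finrank K V : ℝ) ^ 2 * Real.log (Nat.card K) := by
  unfold lg
  have h1 : (Nat.card T : ℝ) ≤ (Nat.card K : ℝ) ^ (finrank K V ^ 2) := by exact_mod_cast h.card_le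
  have h2 := Real.log_le_log (by exact_mod_cast Nat.card_pos) h1
  rw [Real.log_pow] at h2
  exact_mod_cast h2

omit [Finite T] [Group T] in
theorem lg_nonneg : 0 ≤ lg T := Real.log_natCast_nonneg _

omit [Finite T] in
/-- `badN` for a real bound -/
theorem badN_floor {r ρ : ℝ} (hr : 0 ≤ r) : badN T r ρ = badN T (⌊r⌋₊ : ℝ) ρ := by
  unfold badN
  congr 2
  ext y
  constructor
  · rintro ⟨m, h1, h2, h3⟩
    exact ⟨m, h1, by exact_mod_cast Nat.le_floor h2, h3⟩
  · rintro ⟨m, h1, h2, h3⟩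
    exact ⟨m, h1, (h2.trans (Nat.floor_le hr)), h3⟩

/-- the common part: a count of bad elements and the numerical condition -/
theorem key (hb : BadSt) (h : Dat K V X T τ π d) (a s0 : ℕ) {ε : ℝ} (hε : 0 < ε)
    (hbad : ∀ k : ℕ, (k : ℝ) ≤ ((finrank K V : ℝ) ^ 2 * Real.log (Nat.card K)) ^ a →
      (Nat.card {x : X // ¬ ∃ A : Submodule K V, finrank K A ≤ s0 ∧ GoodPow (τ x) A (k + 1)} : ℝ) ≤ ε / 2 * Nat.card X)
    (hnum : (Nat.card K : ℝ) ^ (s0 ^ 2) * (2 / ε * Nat.card (ConjClasses X)) *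
      (((finrank K V : ℝ) ^ 2 * Real.log (Nat.card K)) ^ a) ^ 2 ≤ d ^ 2) :
    (badN T (lg T ^ a) ((lg T ^ a)⁻¹) : ℝ) ≤ ε * Nat.card T := by
  have hl : 0 ≤ lg T ^ a := pow_nonneg lg_nonneg a
  have hR : lg T ^ a ≤ ((finrank K V : ℝ) ^ 2 * Real.log (Nat.card K)) ^ a := pow_le_pow_left₀ lg_nonneg h.lg_le a
  have hT : (0 : ℝ) < Nat.card T := by exact_mod_cast Nat.card_pos
  have hX : (0 : ℝ) < Nat.card X := by exact_mod_cast Nat.card_pos
  rw [badN_floor hl]
  rcases hl.eq_or_lt with h0 | h0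
  · have e : badN T ((⌊lg T ^ a⌋₊ : ℕ) : ℝ) ((lg T ^ a)⁻¹) = 0 := by
      unfold badN
      rw [← h0, Nat.floor_zero]
      have : IsEmpty {y : T // ∃ m : ℕ, 1 ≤ m ∧ (m : ℝ) ≤ ((0 : ℕ) : ℝ) ∧ ¬ Rat (0 : ℝ)⁻¹ (y ^ m)} := by
        constructor
        rintro ⟨y, m, h1, h2, -⟩
        have : m ≤ 0 := by exact_mod_cast h2
        omega
      exact Nat.card_of_isEmpty
    rw [e]
    push_cast
    positivity
  · have h1 := hb (w := 2 / ε) (ρ := (lg T ^ a)⁻¹) (s0 := s0) (k := ⌊lg T ^ a⌋₊) π h.surj h.ker h.inj (by positivity) h.d0 h.deg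
      (by positivity) (by
        rw [mul_pow, inv_pow, inv_mul_eq_div, le_div_iff₀ (by positivity)]
        refine le_trans ?_ hnum
        gcongr)
    have h2 := hbad ⌊lg T ^ a⌋₊ ((Nat.floor_le hl).trans hR)
    have h3 : (Nat.card X : ℝ) / (2 / ε) = ε / 2 * Nat.card X := by
      field_simp
    rw [h3] at h1
    have h4 : (badN T (⌊lg T ^ a⌋₊ : ℝ) ((lg T ^ a)⁻¹) : ℝ) * Nat.card X ≤ (ε * Nat.card T) * Nat.card X := by
      refine h1.trans ?_
      calc _ ≤ (ε / 2 * Nat.card X + ε / 2 * Nat.card X) * (Nat.card T : ℝ) := by gcongr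
        _ = _ := by ring
    exact le_of_mul_le_mul_right h4 hX

omit [Group X] in
/-- Markov's inequality -/
theorem markov (f : X → ℕ) (s0 : ℕ) :
    (Nat.card {x : X // s0 < f x} : ℝ) * ((s0 : ℝ) + 1) ≤ ∑ᶠ x : X, (f x : ℝ) := by
  classical
  have : Fintype X := Fintype.ofFinite X
  rw [finsum_eq_sum_of_fintype, Nat.card_eq_fintype_card, Fintype.card_subtype]
  calc ((Finset.univ.filter fun x => s0 < f x).card : ℝ) * ((s0 : ℝ) + 1)
      = ∑ x ∈ Finset.univ.filter (fun x => s0 < f x), ((s0 : ℝ) + 1) := by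
        rw [Finset.sum_const, nsmul_eq_mul]
    _ ≤ ∑ x ∈ Finset.univ.filter (fun x => s0 < f x), (f x : ℝ) := by
        apply Finset.sum_le_sum
        intro x hx
        have : s0 + 1 ≤ f x := (Finset.mem_filter.1 hx).2
        exact_mod_cast this
    _ ≤ ∑ x, (f x : ℝ) := Finset.sum_le_sum_of_subset_of_nonneg (Finset.filter_subset _ _) fun _ _ _ => Nat.cast_nonneg _

end

/-- **Unbounded rank.** -/
theorem unb (hc : CoreSt) (hs : SmallSt) (hb : BadSt) (a : ℕ) {ε C c1 : ℝ} (hε : 0 < ε) (hC : 0 ≤ C) (hc1 : 1 ≤ c1) :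
    ∃ N : ℕ, ∀ (K V X T : Type) [Field K] [Finite K] [AddCommGroup V] [Module K V] [Finite V] [Group X] [Finite X] [Group T]
      [Finite T] (τ : X →* (V →ₗ[K] V)) (π : X →* T) (d : ℝ) (σ : K →+* K) (s : K[X]) (c : ℕ → ℝ), Dat K V X T τ π d →
      (∀ x, σ (σ x) = x) → (s = 1 ∨ s = Polynomial.X ^ 2 - 1) → (∀ D, 1 ≤ c D) → (∀ D, 2 * D < finrank K V → c D ≤ c1) →
      (∀ D, c D ≤ c1 * Nat.card K) → EL σ τ s c → (s ≠ 1 → ELpm τ c) →
      (Nat.card K : ℝ) ^ ((finrank K V : ℝ) / 4) * Nat.card (ConjClasses X) ≤ C * d ^ 2 → N ≤ finrank K V →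
      (badN T (lg T ^ a) ((lg T ^ a)⁻¹) : ℝ) ≤ ε * Nat.card T := by
  obtain ⟨A, hA, hc⟩ := hc
  obtain ⟨A', hA', hs⟩ := hs
  obtain ⟨u1, hu1⟩ := num_one a (A * c1) (by positivity) (ε := ε / 4) (by positivity)
  obtain ⟨u2, hu2⟩ := num_two (A' * c1) (ε := ε / 4) (by positivity)
  obtain ⟨u3, hu3⟩ := num_three a (2 / ε * C) (by positivity)
  refine ⟨(max (max u1 u2) (max u3 10)) ^ 4, ?_⟩
  intro K V X T _ _ _ _ _ _ _ _ _ τ π d σ s c h hσ hs1 hc0 hc2 hc3 hEL hpm hnum hN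
  have hu : max (max u1 u2) (max u3 10) ≤ Lf (finrank K V) := le_Lf hN
  have e1 : u1 ≤ Lf (finrank K V) := ((le_max_left u1 u2).trans (le_max_left _ _)).trans hu
  have e2 : u2 ≤ Lf (finrank K V) := ((le_max_right u1 u2).trans (le_max_left _ _)).trans hu
  have e3 : u3 ≤ Lf (finrank K V) := ((le_max_left u3 10).trans (le_max_right _ _)).trans hu
  have e4 : 10 ≤ Lf (finrank K V) := ((le_max_right u3 10).trans (le_max_right _ _)).trans hu
  have hLn := Lf_pow_le (finrank K V)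
  generalize hn : finrank K V = n at *
  have hLn2 : 16 * Lf n + 64 ≤ n := by
    have h1 : 1000 * Lf n ≤ Lf n ^ 4 := by
      calc 1000 * Lf n = 10 ^ 3 * Lf n := by norm_num
        _ ≤ Lf n ^ 3 * Lf n := by gcongr
        _ = Lf n ^ 4 := by ring
    omega
  have hQ : (2 : ℝ) ≤ Nat.card K := by exact_mod_cast Finite.one_lt_card (α := K)
  have hQ0 : (0 : ℝ) < Nat.card K := by linarith only [hQ]
  have hX : (0 : ℝ) < Nat.card X := by exact_mod_cast Nat.card_pos
  apply key hb h a (sf n) hε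
  · intro k hk
    rw [hn] at hk
    have h1 := hc K V X σ hσ τ s hs1 c hc0 hEL (k + 1) (Lf n) (c1 * (Nat.card K : ℝ) ^ (-(Lf n : ℝ) / 16)) (by (clear * - hc1 hQ; positivity)) (by omega) (by omega)
      (by
        intro D hD1 hD2
        by_cases hD : 2 * D < n
        · apply mul_le_mul (hc2 D hD) _ (by (clear * - hQ; positivity)) (by positivity)
          apply Real.rpow_le_rpow_of_exponent_le (by linarith only [hQ])
          have : (Lf n : ℝ) ≤ D := by exact_mod_cast hD1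
          linarith only [this]
        · calc c D * (Nat.card K : ℝ) ^ (-(D : ℝ) / 16) ≤ (c1 * Nat.card K) * (Nat.card K : ℝ) ^ (-(D : ℝ) / 16) := by
                gcongr
                exact hc3 D
            _ = c1 * (Nat.card K : ℝ) ^ (1 - (D : ℝ) / 16) := by
                rw [mul_assoc]
                congr 1
                rw [sub_eq_add_neg, Real.rpow_add hQ0, Real.rpow_one, neg_div]
            _ ≤ c1 * (Nat.card K : ℝ) ^ (-(Lf n : ℝ) / 16) := by
                gcongr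
                · linarith only [hQ]
                · have : (Lf n : ℝ) + 16 ≤ D := by
                    have : Lf n + 16 ≤ D := by omega
                    exact_mod_cast this
                  linarith only [this])
    have h2 := hs K V X σ hσ τ s hs1 c c1 hc1 (by rw [hn]; exact hc2) hc3 hEL hpm (Lf n) (by omega) (by omega)
    have h3 := (markov (fun x : X => finrank K (smallP (τ x) (Sml (Lf n) s))) (sf n)).trans h2
    rw [hn] at h1
    have h4 : (Nat.card {x : X // ¬ ∃ A : Submodule K V, finrank K A ≤ sf n ∧ GoodPow (τ x) A (k + 1)} : ℝ) ≤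
        Nat.card {x : X // ¬ GoodPow (τ x) (smallP (τ x) (Sml (Lf n) s)) (k + 1)} +
        Nat.card {x : X // sf n < finrank K (smallP (τ x) (Sml (Lf n) s))} := by
      have h5 : {x : X | ¬ ∃ A : Submodule K V, finrank K A ≤ sf n ∧ GoodPow (τ x) A (k + 1)} ⊆
          {x : X | ¬ GoodPow (τ x) (smallP (τ x) (Sml (Lf n) s)) (k + 1)} ∪
          {x : X | sf n < finrank K (smallP (τ x) (Sml (Lf n) s))} := by
        intro x hx
        by_contra hcon
        rw [Set.mem_union, not_or] at hcon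
        exact hx ⟨_, not_lt.1 hcon.2, not_not.1 hcon.1⟩
      have h6 := (Nat.card_mono (Set.toFinite _) h5).trans (Set.card_union_le _ _)
      exact_mod_cast h6
    have h7 : (Nat.card {x : X // ¬ GoodPow (τ x) (smallP (τ x) (Sml (Lf n) s)) (k + 1)} : ℝ) ≤ ε / 4 * Nat.card X := by
      refine h1.trans (mul_le_mul_of_nonneg_right ?_ hX.le)
      refine le_trans ?_ (hu1 n e1 (Nat.card K) hQ)
      push_cast
      calc A * ((k : ℝ) + 1) ^ 3 * ((n : ℝ) + 1) ^ 3 * (c1 * (Nat.card K : ℝ) ^ (-(Lf n : ℝ) / 16))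
          ≤ A * (((n : ℝ) ^ 2 * Real.log (Nat.card K)) ^ a + 1) ^ 3 * ((n : ℝ) + 1) ^ 3 *
            (c1 * (Nat.card K : ℝ) ^ (-(Lf n : ℝ) / 16)) := by gcongr
        _ = _ := by ring
    have h8 : (Nat.card {x : X // sf n < finrank K (smallP (τ x) (Sml (Lf n) s))} : ℝ) ≤ ε / 4 * Nat.card X := by
      have h9 := hu2 n e2
      rw [div_le_iff₀ (by (clear * -; positivity))] at h9
      have h10 : (0 : ℝ) < (sf n : ℝ) + 1 := by (clear * -; positivity)
      refine le_of_mul_le_mul_right (h3.trans ?_) h10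
      calc A' * c1 * Lf n * Nat.card X ≤ ε / 4 * ((sf n : ℝ) + 1) * Nat.card X := mul_le_mul_of_nonneg_right h9 hX.le
        _ = _ := by ring
    linarith only [h4, h7, h8]
  · rw [hn]
    have h1 := hu3 n e3 (Nat.card K) hQ
    have h2 : (Nat.card K : ℝ) ^ ((sf n : ℝ) ^ 2) = (Nat.card K : ℝ) ^ (sf n ^ 2) := by
      have h3 := Real.rpow_natCast (Nat.card K : ℝ) (sf n ^ 2)
      push_cast at h3
      exact h3
    rw [h2] at h1
    have hk0 : (0 : ℝ) ≤ Nat.card (ConjClasses X) := Nat.cast_nonneg _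
    have hl0 : 0 ≤ Real.log (Nat.card K : ℝ) := Real.log_nonneg (by linarith only [hQ])
    rcases hC.eq_or_lt with hC0 | hC0
    · rw [← hC0, zero_mul] at hnum
      have h3 : (0 : ℝ) < (Nat.card K : ℝ) ^ ((n : ℝ) / 4) := by (clear * - hQ; positivity)
      have h4 : (Nat.card (ConjClasses X) : ℝ) = 0 := by
        by_contra hne
        have : (0 : ℝ) < Nat.card (ConjClasses X) := lt_of_le_of_ne hk0 (Ne.symm hne)
        have := mul_pos h3 this
        linarith only [hnum, this]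
      rw [h4]
      simp only [mul_zero, zero_mul]
      (clear * -; positivity)
    · refine le_of_mul_le_mul_left ?_ hC0
      calc C * ((Nat.card K : ℝ) ^ (sf n ^ 2) * (2 / ε * Nat.card (ConjClasses X)) *
            (((n : ℝ) ^ 2 * Real.log (Nat.card K)) ^ a) ^ 2)
          = ((Nat.card K : ℝ) ^ (sf n ^ 2) * (2 / ε * C) * (((n : ℝ) ^ 2 * Real.log (Nat.card K)) ^ a) ^ 2) *
            Nat.card (ConjClasses X) := by ring
        _ ≤ (Nat.card K : ℝ) ^ ((n : ℝ) / 4) * Nat.card (ConjClasses X) := mul_le_mul_of_nonneg_right h1 hk0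
        _ ≤ C * d ^ 2 := hnum

/-- **Bounded rank.** -/
theorem bdd (hb : BadSt) (a N s0 : ℕ) {ε C B : ℝ} (hε : 0 < ε) (hC : 0 ≤ C) (hB : 0 ≤ B) :
    ∃ Q0 : ℕ, ∀ (K V X T : Type) [Field K] [Finite K] [AddCommGroup V] [Module K V] [Finite V] [Group X] [Finite X] [Group T]
      [Finite T] (τ : X →* (V →ₗ[K] V)) (π : X →* T) (d : ℝ), Dat K V X T τ π d → finrank K V ≤ N →
      (∀ k : ℕ, (Nat.card {x : X // ¬ ∃ A : Submodule K V, finrank K A ≤ s0 ∧ GoodPow (τ x) A (k + 1)} : ℝ) ≤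
        B * ((k : ℝ) + 1) ^ 3 * (Nat.card K : ℝ) ^ (-(1 : ℝ) / 16) * Nat.card X) →
      (Nat.card K : ℝ) ^ (s0 ^ 2) * ((Nat.card K : ℝ) ^ ((1 : ℝ) / 16) * Nat.card (ConjClasses X)) ≤ C * d ^ 2 →
      Q0 ≤ Nat.card K → (badN T (lg T ^ a) ((lg T ^ a)⁻¹) : ℝ) ≤ ε * Nat.card T := by
  obtain ⟨Q1, hQ1⟩ := num_bd a N B hB (ε := ε / 2) (by positivity)
  obtain ⟨Q2, hQ2⟩ := num_bd (2 * a) N (2 / ε * C) (by positivity) (ε := 1) one_pos
  refine ⟨max Q1 Q2, ?_⟩
  intro K V X T _ _ _ _ _ _ _ _ _ τ π d h hN hbad hnum hQ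
  have hX : (0 : ℝ) < Nat.card X := by exact_mod_cast Nat.card_pos
  obtain ⟨h1, h2⟩ := hQ1 (finrank K V) hN (Nat.card K) (by exact_mod_cast (le_max_left _ _).trans hQ)
  obtain ⟨-, h3⟩ := hQ2 (finrank K V) hN (Nat.card K) (by exact_mod_cast (le_max_right _ _).trans hQ)
  generalize hn : finrank K V = n at *
  have hQ0 : (0 : ℝ) < Nat.card K := by linarith only [h1]
  have hl0 : 0 ≤ Real.log (Nat.card K : ℝ) := Real.log_nonneg (by linarith only [h1])
  apply key hb h a s0 hε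
  · intro k hk
    rw [hn] at hk
    refine (hbad k).trans (mul_le_mul_of_nonneg_right ?_ hX.le)
    refine le_trans ?_ h2
    gcongr
  · rw [hn]
    have hk0 : (0 : ℝ) ≤ Nat.card (ConjClasses X) := Nat.cast_nonneg _
    have h4 : (((n : ℝ) ^ 2 * Real.log (Nat.card K)) ^ a) ^ 2 ≤ (((n : ℝ) ^ 2 * Real.log (Nat.card K)) ^ (2 * a) + 1) ^ 3 := by
      have e : (((n : ℝ) ^ 2 * Real.log (Nat.card K)) ^ a) ^ 2 = ((n : ℝ) ^ 2 * Real.log (Nat.card K)) ^ (2 * a) := by
        rw [← pow_mul, mul_comm a 2]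
      rw [e]
      have h5 : 0 ≤ ((n : ℝ) ^ 2 * Real.log (Nat.card K)) ^ (2 * a) := by (clear * -; positivity)
      have h7 : ((n : ℝ) ^ 2 * Real.log (Nat.card K)) ^ (2 * a) + 1 ≤ (((n : ℝ) ^ 2 * Real.log (Nat.card K)) ^ (2 * a) + 1) ^ 3 :=
        le_self_pow₀ (by linarith only [h5]) (by norm_num)
      linarith only [h7]
    have h5 : 2 / ε * C * (((n : ℝ) ^ 2 * Real.log (Nat.card K)) ^ a) ^ 2 ≤ (Nat.card K : ℝ) ^ ((1 : ℝ) / 16) := by
      have e : (Nat.card K : ℝ) ^ (-(1 : ℝ) / 16) * (Nat.card K : ℝ) ^ ((1 : ℝ) / 16) = 1 := by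
        rw [← Real.rpow_add hQ0]
        norm_num only [_root_.Real.rpow_zero]
      have h6 : (0 : ℝ) < (Nat.card K : ℝ) ^ ((1 : ℝ) / 16) := by positivity
      calc 2 / ε * C * (((n : ℝ) ^ 2 * Real.log (Nat.card K)) ^ a) ^ 2
          ≤ 2 / ε * C * (((n : ℝ) ^ 2 * Real.log (Nat.card K)) ^ (2 * a) + 1) ^ 3 := by gcongr
        _ = (2 / ε * C * (((n : ℝ) ^ 2 * Real.log (Nat.card K)) ^ (2 * a) + 1) ^ 3 * (Nat.card K : ℝ) ^ (-(1 : ℝ) / 16)) *
            (Nat.card K : ℝ) ^ ((1 : ℝ) / 16) := by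
              rw [mul_assoc _ ((Nat.card K : ℝ) ^ (-(1 : ℝ) / 16)), e, mul_one]
        _ ≤ 1 * (Nat.card K : ℝ) ^ ((1 : ℝ) / 16) := mul_le_mul_of_nonneg_right h3 h6.le
        _ = _ := one_mul _
    rcases hC.eq_or_lt with hC0 | hC0
    · rw [← hC0, zero_mul] at hnum
      have h6 : (0 : ℝ) < (Nat.card K : ℝ) ^ (s0 ^ 2) * (Nat.card K : ℝ) ^ ((1 : ℝ) / 16) := by (clear * - h1; positivity)
      have h7 : (Nat.card (ConjClasses X) : ℝ) = 0 := by
        by_contra hne
        have : (0 : ℝ) < Nat.card (ConjClasses X) := lt_of_le_of_ne hk0 (Ne.symm hne)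
        have := mul_pos h6 this
        linarith only [hnum, this]
      rw [h7]
      simp only [mul_zero, zero_mul]
      (clear * -; positivity)
    · refine le_of_mul_le_mul_left ?_ hC0
      calc C * ((Nat.card K : ℝ) ^ (s0 ^ 2) * (2 / ε * Nat.card (ConjClasses X)) *
            (((n : ℝ) ^ 2 * Real.log (Nat.card K)) ^ a) ^ 2)
          = (Nat.card K : ℝ) ^ (s0 ^ 2) * ((2 / ε * C * (((n : ℝ) ^ 2 * Real.log (Nat.card K)) ^ a) ^ 2) *
            Nat.card (ConjClasses X)) := by ring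
        _ ≤ (Nat.card K : ℝ) ^ (s0 ^ 2) * ((Nat.card K : ℝ) ^ ((1 : ℝ) / 16) * Nat.card (ConjClasses X)) := by gcongr
        _ ≤ C * d ^ 2 := hnum

/-- **The glue.** `R T n Q` : a property of a group `T` of "rank" `n` over the field with `Q` elements. -/
theorem famP_of {P : Grp → Prop} (R : (T : Type) → [Group T] → ℕ → ℕ → Prop)
    (hR : ∀ (g : Grp) (T : Type) [Group T] [Finite T] [IsSimpleGroup T], IsNamed g T → P g →
      ∃ n Q, R T n Q ∧ Nat.card T ≤ Q ^ (n ^ 2))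
    (hu : ∀ (a : ℕ) (ε : ℝ), 0 < ε → ∃ N : ℕ, ∀ (T : Type) [Group T] [Finite T] [IsSimpleGroup T] (n Q : ℕ), R T n Q →
      N ≤ n → (badN T (lg T ^ a) ((lg T ^ a)⁻¹) : ℝ) ≤ ε * Nat.card T)
    (hb : ∀ (a N : ℕ) (ε : ℝ), 0 < ε → ∃ Q0 : ℕ, ∀ (T : Type) [Group T] [Finite T] [IsSimpleGroup T] (n Q : ℕ), R T n Q →
      n ≤ N → Q0 ≤ Q → (badN T (lg T ^ a) ((lg T ^ a)⁻¹) : ℝ) ≤ ε * Nat.card T) : FamP P := by
  intro a ε hε
  obtain ⟨N, hN⟩ := hu a ε hε
  obtain ⟨Q0, hQ0⟩ := hb a N ε hε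
  refine ⟨(Q0 + 1) ^ (N ^ 2) + 1, fun g T _ _ _ hT hg hD => ?_⟩
  obtain ⟨n, Q, hr, hc⟩ := hR g T hT hg
  by_cases h1 : N ≤ n
  · exact hN T n Q hr h1
  · by_cases h2 : Q0 ≤ Q
    · exact hQ0 T n Q hr (by omega) h2
    · exfalso
      have h3 : Q ^ (n ^ 2) ≤ (Q0 + 1) ^ (N ^ 2) := by
        calc Q ^ (n ^ 2) ≤ (Q0 + 1) ^ (n ^ 2) := Nat.pow_le_pow_left (by omega) _
          _ ≤ (Q0 + 1) ^ (N ^ 2) := Nat.pow_le_pow_right (by omega) (Nat.pow_le_pow_left (by omega) 2)
      omega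

end Cfsg.Agent.H835.Rg
end

-- part: H342/Rg/Cent
section
/-!
# S5714, C10: centralisers of the powers of a random element (helper342)

* `card_cent_le` : `|C(x^m)| ≤ |K| ^ (dim A)^2 |C(x)|` in the situation `GoodPow`;
* `badN_le` : few elements have a power at which some character ratio is large.
-/

set_option autoImplicit false

namespace Cfsg.Agent.H342.Rg

open Cfsg Cfsg.Agent.H141.Rg Polynomial Module

section lin

variable {K V : Type} [Field K] [AddCommGroup V] [Module K V] {X : Type} [Group X]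

/-- elements of the centraliser of `x ^ m` with the same restriction to `A` differ by an element of the centraliser
of `x` -/
theorem cent_aux {τ : X →* (V →ₗ[K] V)} (hτ : Function.Injective τ) {x : X} {A : Submodule K V} {k : ℕ}
    (h : GoodPow (τ x) A k) {m : ℕ} (h1 : 1 ≤ m) (h2 : m < k) {g g' : X} (hg : Commute g (x ^ m))
    (hg' : Commute g' (x ^ m)) (he : ∀ a ∈ A, τ g a = τ g' a) : g⁻¹ * g' ∈ Subgroup.centralizer ({x} : Set X) := by
  obtain ⟨B, hAB, hA, hB, hm⟩ := h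
  have hc : Commute (g⁻¹ * g') (x ^ m) := (hg.inv_left).mul_left hg'
  have hc' : Commute (τ (g⁻¹ * g')) (τ x ^ m) := by
    rw [← map_pow]
    exact hc.map τ
  obtain ⟨-, -, h3⟩ := hm m h1 h2 _ hc'
  have h4 : ∀ a ∈ A, τ (g⁻¹ * g') a = a := by
    intro a ha
    rw [map_mul, Module.End.mul_apply, ← he a ha, ← Module.End.mul_apply, ← map_mul, inv_mul_cancel, map_one]
    rfl
  rw [Subgroup.mem_centralizer_singleton_iff]
  generalize g⁻¹ * g' = u at h3 h4
  apply hτ
  rw [map_mul, map_mul]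
  apply LinearMap.ext
  intro v
  have hv : v ∈ A ⊔ B := by rw [hAB.sup_eq_top]; trivial
  obtain ⟨a, ha, b, hb, rfl⟩ := Submodule.mem_sup.1 hv
  rw [Module.End.mul_apply, Module.End.mul_apply, map_add, map_add, map_add, map_add, h3 b hb, h4 a ha,
    h4 _ (hA a ha)]

theorem card_cent_le [Finite X] [Finite K] [Finite V] {τ : X →* (V →ₗ[K] V)} (hτ : Function.Injective τ) {x : X}
    {A : Submodule K V} {k : ℕ}
    (h : GoodPow (τ x) A k) {m : ℕ} (h1 : 1 ≤ m) (h2 : m < k) :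
    Nat.card (Subgroup.centralizer ({x ^ m} : Set X)) ≤
      Nat.card K ^ (finrank K A ^ 2) * Nat.card (Subgroup.centralizer ({x} : Set X)) := by
  classical
  have hpres : ∀ g : Subgroup.centralizer ({x ^ m} : Set X), ∀ a ∈ A, τ g a ∈ A := by
    intro g
    obtain ⟨B, hAB, hA, hB, hm⟩ := h
    have hc : Commute (τ g) (τ x ^ m) := by
      rw [← map_pow]
      exact Commute.map (Subgroup.mem_centralizer_singleton_iff.1 g.2) τ
    exact (hm m h1 h2 _ hc).1
  let φ : Subgroup.centralizer ({x ^ m} : Set X) → (A →ₗ[K] A) := fun g => (τ g).restrict (hpres g)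
  have hφ : ∀ g g', φ g = φ g' → (g : X)⁻¹ * g' ∈ Subgroup.centralizer ({x} : Set X) := by
    intro g g' he
    refine cent_aux hτ h h1 h2 (Subgroup.mem_centralizer_singleton_iff.1 g.2)
      (Subgroup.mem_centralizer_singleton_iff.1 g'.2) fun a ha => ?_
    have := congrArg (fun f : A →ₗ[K] A => ((f ⟨a, ha⟩ : A) : V)) he
    exact this
  -- choose a preimage
  let r : (A →ₗ[K] A) → Subgroup.centralizer ({x ^ m} : Set X) := Function.invFun φ
  have hr : ∀ g, φ (r (φ g)) = φ g := fun g => Function.invFun_eq ⟨g, rfl⟩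
  let ψ : Subgroup.centralizer ({x ^ m} : Set X) → (A →ₗ[K] A) × Subgroup.centralizer ({x} : Set X) :=
    fun g => (φ g, ⟨(r (φ g) : X)⁻¹ * g, hφ _ _ (hr g)⟩)
  have hψ : Function.Injective ψ := by
    intro g g' he
    have e1 : φ g = φ g' := congrArg Prod.fst he
    have e2 : (r (φ g) : X)⁻¹ * g = (r (φ g') : X)⁻¹ * g' := 
      Subtype.ext_iff.1 (congrArg Prod.snd he)
    rw [e1] at e2
    exact Subtype.ext (mul_left_cancel e2)
  have : Finite (A →ₗ[K] A) := Module.finite_of_finite K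
  have hcard := Nat.card_le_card_of_injective ψ hψ
  rw [Nat.card_prod] at hcard
  have hE : Nat.card (A →ₗ[K] A) = Nat.card K ^ (finrank K A ^ 2) := by
    rw [Module.natCard_eq_pow_finrank (K := K) (V := A →ₗ[K] A), Module.finrank_linearMap, pow_two]
  rwa [hE] at hcard

end lin

/-! ### general facts -/

section gen

variable {X T : Type} [Group X] [Group T]

/-- the order of a group and of an image -/
theorem card_eq [Finite X] (π : X →* T) (hπ : Function.Surjective π) :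
    Nat.card X = Nat.card π.ker * Nat.card T := by
  rw [← Subgroup.card_mul_index π.ker, Subgroup.index_ker, MonoidHom.range_eq_top.2 hπ, Subgroup.card_top]

theorem card_class_le [Finite X] [Finite T] (π : X →* T) (hπ : Function.Surjective π) (z : X) :
    Nat.card {x : X // IsConj x z} ≤ Nat.card π.ker * Nat.card {y : T // IsConj y (π z)} := by
  rw [← Nat.card_prod]
  let s : T → X := Function.surjInv hπ
  have hs : ∀ t, π (s t) = t := Function.surjInv_eq hπ
  refine Nat.card_le_card_of_injective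
    (fun x : {x : X // IsConj x z} => ((⟨(x : X) * (s (π x))⁻¹, by
        rw [MonoidHom.mem_ker, map_mul, map_inv, hs, mul_inv_cancel]⟩ : π.ker),
      (⟨π x, π.map_isConj x.2⟩ : {y : T // IsConj y (π z)}))) ?_
  intro x x' he
  have e1 : π x = π x' := Subtype.ext_iff.1 (congrArg Prod.snd he)
  have e2 : (x : X) * (s (π x))⁻¹ = (x' : X) * (s (π x'))⁻¹ := Subtype.ext_iff.1 (congrArg Prod.fst he)
  rw [e1] at e2
  exact Subtype.ext (mul_right_cancel e2)

theorem card_cent_mul [Finite X] (z : X) :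
    Nat.card (Subgroup.centralizer ({z} : Set X)) * Nat.card {x : X // IsConj x z} = Nat.card X := by
  classical
  have := Fintype.ofFinite X
  rw [← Cfsg.Agent.S0145.card_centralizer_mul_card_class z, Nat.card_eq_fintype_card (α := {x : X // IsConj x z}),
    Fintype.card_subtype]

theorem card_cent_map_le [Finite X] [Finite T] (π : X →* T) (hπ : Function.Surjective π) (z : X) :
    Nat.card (Subgroup.centralizer ({π z} : Set T)) ≤ Nat.card (Subgroup.centralizer ({z} : Set X)) := by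
  have h1 := card_cent_mul z
  have h2 := card_cent_mul (π z)
  have h3 := card_class_le π hπ z
  have h4 := card_eq π hπ
  have : Nonempty {y : T // IsConj y (π z)} := ⟨⟨π z, IsConj.refl _⟩⟩
  have h5 : 0 < Nat.card {y : T // IsConj y (π z)} := Nat.card_pos
  have h6 : 0 < Nat.card π.ker := Nat.card_pos
  refine Nat.le_of_mul_le_mul_right ?_ (Nat.mul_pos h6 h5)
  calc Nat.card (Subgroup.centralizer ({π z} : Set T)) * (Nat.card π.ker * Nat.card {y : T // IsConj y (π z)})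
      = Nat.card π.ker * (Nat.card (Subgroup.centralizer ({π z} : Set T)) * Nat.card {y : T // IsConj y (π z)}) := by
        ring
    _ = Nat.card X := by rw [h2, h4]
    _ = Nat.card (Subgroup.centralizer ({z} : Set X)) * Nat.card {x : X // IsConj x z} := h1.symm
    _ ≤ _ := Nat.mul_le_mul_left _ h3

/-- `|χ(g)|² ≤ |C(g)|` -/
theorem normSq_le_card [Finite T] {χ : T → ℂ} (hχ : IsIrrCharacter T χ) (g : T) :
    ‖χ g‖ ^ 2 ≤ Nat.card (Subgroup.centralizer ({g} : Set T)) := by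
  classical
  have := Cfsg.Agent.Characters.Core.finite_irr (G := T)
  have := Fintype.ofFinite (IrrCharacter T)
  have := Fintype.ofFinite T
  have h := Cfsg.Agent.S0145.sum_irr_mul_conj g g
  rw [if_pos (IsConj.refl g)] at h
  have h1 : (((∑ χ : IrrCharacter T, Complex.normSq ((χ : T → ℂ) g) : ℝ)) : ℂ)
      = (Nat.card (Subgroup.centralizer ({g} : Set T)) : ℂ) := by
    rw [← h, Complex.ofReal_sum]
    exact Finset.sum_congr rfl fun χ _ => by rw [Complex.mul_conj]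
  have h2 : (∑ χ : IrrCharacter T, Complex.normSq ((χ : T → ℂ) g)) =
      (Nat.card (Subgroup.centralizer ({g} : Set T)) : ℝ) := by exact_mod_cast h1
  rw [← h2, ← Complex.normSq_eq_norm_sq]
  exact Finset.single_le_sum (f := fun χ : IrrCharacter T => Complex.normSq ((χ : T → ℂ) g))
    (fun χ _ => Complex.normSq_nonneg _) (Finset.mem_univ (⟨χ, hχ⟩ : IrrCharacter T))

/-- few elements have a large centraliser -/
theorem card_large_cent [Finite X] {w : ℝ} (hw : 0 < w) :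
    (Nat.card {x : X // w * Nat.card (ConjClasses X) < Nat.card (Subgroup.centralizer ({x} : Set X))} : ℝ) ≤
      Nat.card X / w := by
  classical
  have := Fintype.ofFinite X
  have hk : (0 : ℝ) < Nat.card (ConjClasses X) := by
    have : Nonempty (ConjClasses X) := ⟨ConjClasses.mk 1⟩
    exact_mod_cast Nat.card_pos
  have h1 : (∑ x : X, (Nat.card (Subgroup.centralizer ({x} : Set X)) : ℝ)) = Nat.card (ConjClasses X) * Nat.card X := by
    rw [← Nat.cast_mul, ← card_comm_eq_card_conjClasses_mul_card, ← Nat.cast_sum]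
    congr 1
    have e : {p : X × X // Commute p.1 p.2} ≃ Σ x : X, Subgroup.centralizer ({x} : Set X) :=
      { toFun := fun p => ⟨p.1.2, ⟨p.1.1, Subgroup.mem_centralizer_singleton_iff.2 p.2⟩⟩
        invFun := fun p => ⟨(p.2, p.1), Subgroup.mem_centralizer_singleton_iff.1 p.2.2⟩
        left_inv := fun p => rfl
        right_inv := fun p => rfl }
    rw [Nat.card_congr e, Nat.card_sigma]
  rw [le_div_iff₀ hw]
  have h2 : (Nat.card {x : X // w * Nat.card (ConjClasses X) < Nat.card (Subgroup.centralizer ({x} : Set X))} : ℝ) *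
      (w * Nat.card (ConjClasses X)) ≤ ∑ x : X, (Nat.card (Subgroup.centralizer ({x} : Set X)) : ℝ) := by
    rw [Nat.card_eq_fintype_card, Fintype.card_subtype, ← nsmul_eq_mul, ← Finset.sum_const]
    refine (Finset.sum_le_sum fun x hx => ?_).trans (Finset.sum_le_sum_of_subset_of_nonneg (Finset.filter_subset _ _)
      fun x _ _ => Nat.cast_nonneg _)
    exact ((Finset.mem_filter.1 hx).2).le
  rw [h1, ← mul_assoc, mul_comm (Nat.card (ConjClasses X) : ℝ)] at h2
  exact le_of_mul_le_mul_right h2 hk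

end gen

section lin

variable {K V : Type} [Field K] [AddCommGroup V] [Module K V] {X : Type} [Group X]

theorem badN_le' [Finite X] [Finite K] [Finite V] {T : Type} [Group T] [Finite T] (π : X →* T)
    (hπ : Function.Surjective π)
    {τ : X →* (V →ₗ[K] V)} (hτ : Function.Injective τ) {d ρ w : ℝ} {s0 k : ℕ} (hw : 0 < w) (hd : 0 ≤ d)
    (hdeg : ∀ χ : T → ℂ, IsIrrCharacter T χ → (∃ g, χ g ≠ 1) → d ≤ (χ 1).re) (hρ : 0 ≤ ρ)
    (hnum : (Nat.card K : ℝ) ^ (s0 ^ 2) * (w * Nat.card (ConjClasses X)) ≤ (ρ * d) ^ 2) :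
    (badN T k ρ : ℝ) * Nat.card X ≤
      (Nat.card {x : X // ¬ ∃ A : Submodule K V, finrank K A ≤ s0 ∧ GoodPow (τ x) A (k + 1)} + Nat.card X / w) *
        Nat.card T := by
  classical
  have := Fintype.ofFinite X
  -- the lift of the bad set
  have hbad : ∀ x : X, (∃ m : ℕ, 1 ≤ m ∧ (m : ℝ) ≤ k ∧ ¬ Rat ρ (π x ^ m)) →
      (¬ ∃ A : Submodule K V, finrank K A ≤ s0 ∧ GoodPow (τ x) A (k + 1)) ∨
        w * Nat.card (ConjClasses X) < Nat.card (Subgroup.centralizer ({x} : Set X)) := by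
    rintro x ⟨m, h1, hmk, hbad⟩
    by_contra hcon
    push Not at hcon
    obtain ⟨⟨A, hA, hgood⟩, hc⟩ := hcon
    apply hbad
    intro χ hχ hne
    have hmk' : m < k + 1 := by
      have : m ≤ k := by exact_mod_cast hmk
      omega
    have e1 : ((Nat.card (Subgroup.centralizer ({x ^ m} : Set X)) : ℕ) : ℝ) ≤
        ((Nat.card K : ℝ) ^ (finrank K A ^ 2)) * Nat.card (Subgroup.centralizer ({x} : Set X)) := by
      exact_mod_cast card_cent_le hτ hgood h1 hmk'
    have hK : (1 : ℝ) ≤ Nat.card K := by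
      exact_mod_cast Nat.card_pos
    have e2 : ((Nat.card K : ℝ) ^ (finrank K A ^ 2)) ≤ (Nat.card K : ℝ) ^ (s0 ^ 2) :=
      pow_le_pow_right₀ hK (Nat.pow_le_pow_left hA 2)
    have e3 : ‖χ (π x ^ m)‖ ^ 2 ≤ (ρ * d) ^ 2 := by
      calc ‖χ (π x ^ m)‖ ^ 2 ≤ Nat.card (Subgroup.centralizer ({π x ^ m} : Set T)) := normSq_le_card hχ _
        _ ≤ Nat.card (Subgroup.centralizer ({x ^ m} : Set X)) := by
            rw [← map_pow]
            exact_mod_cast card_cent_map_le π hπ (x ^ m)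
        _ ≤ _ := e1
        _ ≤ (Nat.card K : ℝ) ^ (s0 ^ 2) * (w * Nat.card (ConjClasses X)) := by
            gcongr
        _ ≤ _ := hnum
    have e4 : ‖χ (π x ^ m)‖ ≤ ρ * d := by
      have h0 : 0 ≤ ρ * d := mul_nonneg hρ hd
      exact le_of_sq_le_sq e3 h0
    exact e4.trans (mul_le_mul_of_nonneg_left (hdeg χ hχ hne) hρ)
  have hN : Nat.card {x : X // ∃ m : ℕ, 1 ≤ m ∧ (m : ℝ) ≤ k ∧ ¬ Rat ρ (π x ^ m)} ≤
      Nat.card {x : X // ¬ ∃ A : Submodule K V, finrank K A ≤ s0 ∧ GoodPow (τ x) A (k + 1)} +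
      Nat.card {x : X // w * Nat.card (ConjClasses X) < Nat.card (Subgroup.centralizer ({x} : Set X))} := by
    rw [Nat.card_eq_fintype_card, Nat.card_eq_fintype_card, Nat.card_eq_fintype_card, Fintype.card_subtype,
      Fintype.card_subtype, Fintype.card_subtype]
    refine (Finset.card_le_card (t := _ ∪ _) ?_).trans (Finset.card_union_le _ _)
    intro x hx
    rw [Finset.mem_union, Finset.mem_filter, Finset.mem_filter]
    rcases hbad x (Finset.mem_filter.1 hx).2 with h | h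
    · exact Or.inl ⟨Finset.mem_univ _, h⟩
    · exact Or.inr ⟨Finset.mem_univ _, h⟩
  have hlift : badN T k ρ * Nat.card π.ker ≤
      Nat.card {x : X // ∃ m : ℕ, 1 ≤ m ∧ (m : ℝ) ≤ k ∧ ¬ Rat ρ (π x ^ m)} := by
    unfold badN
    rw [← Nat.card_prod]
    let s : T → X := Function.surjInv hπ
    have hs : ∀ t, π (s t) = t := Function.surjInv_eq hπ
    have hπ' : ∀ (t : T) (n : π.ker), π (s t * n) = t := by
      intro t n
      rw [map_mul, hs, MonoidHom.mem_ker.1 n.2, mul_one]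
    refine Nat.card_le_card_of_injective (fun p => ⟨s p.1 * p.2, by
      obtain ⟨m, h1, h2, h3⟩ := p.1.2
      exact ⟨m, h1, h2, by rw [hπ']; exact h3⟩⟩) ?_
    intro p p' he
    have e0 : s p.1 * p.2 = s p'.1 * p'.2 := Subtype.ext_iff.1 he
    have e1 : (p.1 : T) = p'.1 := by rw [← hπ' p.1 p.2, e0, hπ']
    rw [e1] at e0
    exact Prod.ext (Subtype.ext e1) (Subtype.ext (mul_left_cancel e0))
  have hL := card_large_cent (X := X) hw
  have hX := card_eq π hπ
  have h1 : (badN T k ρ : ℝ) * Nat.card π.ker ≤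
      Nat.card {x : X // ¬ ∃ A : Submodule K V, finrank K A ≤ s0 ∧ GoodPow (τ x) A (k + 1)} + Nat.card X / w := by
    have h2 : (badN T k ρ : ℝ) * Nat.card π.ker ≤
        (Nat.card {x : X // ∃ m : ℕ, 1 ≤ m ∧ (m : ℝ) ≤ k ∧ ¬ Rat ρ (π x ^ m)} : ℝ) := by exact_mod_cast hlift
    have h3 : (Nat.card {x : X // ∃ m : ℕ, 1 ≤ m ∧ (m : ℝ) ≤ k ∧ ¬ Rat ρ (π x ^ m)} : ℝ) ≤
        Nat.card {x : X // ¬ ∃ A : Submodule K V, finrank K A ≤ s0 ∧ GoodPow (τ x) A (k + 1)} +
        Nat.card {x : X // w * Nat.card (ConjClasses X) < Nat.card (Subgroup.centralizer ({x} : Set X))} := by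
      exact_mod_cast hN
    linarith only [hL, h2, h3]
  calc (badN T k ρ : ℝ) * Nat.card X = (badN T k ρ : ℝ) * Nat.card π.ker * Nat.card T := by
        rw [hX]; push_cast; ring
    _ ≤ _ := mul_le_mul_of_nonneg_right h1 (Nat.cast_nonneg _)

/-- the general assembly (the kernel of `π` need not be central) -/
theorem badN_le [Finite X] [Finite K] [Finite V] {T : Type} [Group T] [Finite T] (π : X →* T)
    (hπ : Function.Surjective π) (_hker : π.ker ≤ Subgroup.center X)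
    {τ : X →* (V →ₗ[K] V)} (hτ : Function.Injective τ) {d ρ w : ℝ} {s0 k : ℕ} (hw : 0 < w) (hd : 0 ≤ d)
    (hdeg : ∀ χ : T → ℂ, IsIrrCharacter T χ → (∃ g, χ g ≠ 1) → d ≤ (χ 1).re) (hρ : 0 ≤ ρ)
    (hnum : (Nat.card K : ℝ) ^ (s0 ^ 2) * (w * Nat.card (ConjClasses X)) ≤ (ρ * d) ^ 2) :
    (badN T k ρ : ℝ) * Nat.card X ≤
      (Nat.card {x : X // ¬ ∃ A : Submodule K V, finrank K A ≤ s0 ∧ GoodPow (τ x) A (k + 1)} + Nat.card X / w) *
        Nat.card T :=
  badN_le' π hπ hτ hw hd hdeg hρ hnum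

end lin

end Cfsg.Agent.H342.Rg
end
end

-- part: H640/RG/FmsSp
section
prune_inst 0x1100750124621000001c0000320040810100000000008000000400000101804000408800020005040020000008000028131000a0420000c00a840000000400000000040000000019020000000088010000000800000000000000000000000000010000000
set_option linter.all false
open scoped Cfsg.Agent.FastGrp

-- part: H680/RG/FmCore
section
/-!
# S5714, TEAM RG, B1: the first moment bound from Gram data (helper680, task 4536)
-/

set_option autoImplicit false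

namespace Cfsg.Agent.H178.RG

open Cfsg Polynomial

/-- `fm_core` for a function defined on `P` only -/
theorem fm_core' {I V S : Type*} [Group I] [Finite I] [MulAction I V] [Finite S] (P : Set (I × V))
    (Γ : P → S)
    (h : ∀ a b : P, Γ a = Γ b → ∃ g : I, ∀ i : ℕ, g • (a.1.1 ^ i • a.1.2) = b.1.1 ^ i • b.1.2) :
    Nat.card P ≤ Nat.card I * Nat.card S := by
  classical
  let sq : I × V → ℕ → V := fun a i => a.1 ^ i • a.2
  let base : S → Option P := fun s => if h0 : ∃ a : P, Γ a = s then some h0.choose else none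
  let G : S → (ℕ → V) → I := fun s σ => match base s with
    | some b => if hσ : ∃ g : I, ∀ i, g • sq b.1 i = σ i then hσ.choose else 1
    | none => 1
  have hG : ∀ a : P, ∃ b : P, base (Γ a) = some b ∧ ∀ i, G (Γ a) (sq a.1) • sq b.1 i = sq a.1 i := by
    intro a
    have h0 : ∃ b : P, Γ b = Γ a := ⟨a, rfl⟩
    have hb : base (Γ a) = some h0.choose := dif_pos h0
    refine ⟨h0.choose, hb, ?_⟩
    have hσ : ∃ g : I, ∀ i, g • sq h0.choose.1 i = sq a.1 i := h _ _ h0.choose_spec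
    have h1 : G (Γ a) (sq a.1) = hσ.choose := by
      simp only [G, hb]
      exact dif_pos hσ
    rw [h1]
    exact hσ.choose_spec
  rw [← Nat.card_prod]
  apply Nat.card_le_card_of_injective (fun a : P => (a.1.1 * G (Γ a) (sq a.1), Γ a))
  intro a a' haa
  obtain ⟨h1, h2⟩ := Prod.mk.inj haa
  obtain ⟨b, hb, hba⟩ := hG a
  obtain ⟨b', hb', hba'⟩ := hG a'
  have hbb : b = b' := by
    rw [h2, hb'] at hb
    exact (Option.some.inj hb).symm
  subst hbb
  have key : ∀ i : ℕ, sq a.1 (i + 1) = sq a'.1 (i + 1) := by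
    intro i
    have h3 : (a.1.1 * G (Γ a) (sq a.1)) • sq b.1 i = (a'.1.1 * G (Γ a') (sq a'.1)) • sq b.1 i := by rw [h1]
    rw [mul_smul, hba, mul_smul, hba'] at h3
    change a.1.1 ^ (i + 1) • a.1.2 = a'.1.1 ^ (i + 1) • a'.1.2
    rw [pow_succ', mul_smul, pow_succ', mul_smul]
    exact h3
  have hv : a.1.2 = a'.1.2 := by
    have hpos : 0 < Nat.card I := Nat.card_pos
    obtain ⟨m, hm⟩ : ∃ m, Nat.card I = m + 1 := ⟨Nat.card I - 1, by omega⟩
    have h3 := key m
    change a.1.1 ^ (m + 1) • a.1.2 = a'.1.1 ^ (m + 1) • a'.1.2 at h3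
    rwa [← hm, pow_card_eq_one', pow_card_eq_one', one_smul, one_smul] at h3
  have hsq : sq a.1 = sq a'.1 := by
    funext i
    cases i with
    | zero =>
      change a.1.1 ^ 0 • a.1.2 = a'.1.1 ^ 0 • a'.1.2
      rw [pow_zero, pow_zero, one_smul, one_smul, hv]
    | succ i => exact key i
  have hx : a.1.1 = a'.1.1 := by
    rw [h2, hsq] at h1
    exact mul_right_cancel h1
  exact Subtype.ext (Prod.ext hx hv)

theorem fm_form {F : Type} [Field F] [Fintype F] {ι : Type} [Fintype ι] [DecidableEq ι] {G : Type} [Group G] [Finite G]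
    (ρ : G →* Matrix ι ι F)
    {B : (ι → F) → (ι → F) → F} {Q : (ι → F) → F} (hW : WittP ρ B Q) (f : F[X]) (S : Set ((ℤ → F) × F)) (hS : S.Finite)
    (h : ∀ (x : G) (v : ι → F), Ann (ρ x) v f → ((fun i : ℤ => B ((ρ (x ^ i)).mulVec v) v), Q v) ∈ S) :
    FM ρ f S.ncard := by
  let act : MulAction G (ι → F) :=
    { smul := fun g v => (ρ g).mulVec v
      one_smul := fun v => by
        change (ρ 1).mulVec v = v
        rw [map_one, Matrix.one_mulVec]
      mul_smul := fun g g' v => by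
        change (ρ (g * g')).mulVec v = (ρ g).mulVec ((ρ g').mulVec v)
        rw [map_mul, Matrix.mulVec_mulVec] }
  have hfin : Finite S := hS
  have h1 := fm_core' (I := G) (V := ι → F) (S := S) {xv : G × (ι → F) | Ann (ρ xv.1) xv.2 f}
    (fun a => ⟨((fun i : ℤ => B ((ρ (a.1.1 ^ i)).mulVec a.1.2) a.1.2), Q a.1.2), h a.1.1 a.1.2 a.2⟩) (by
    intro a b hab
    have h2 := congrArg Subtype.val hab
    obtain ⟨h3, h4⟩ := Prod.mk.inj h2
    obtain ⟨g, hg⟩ := hW f a.1.1 b.1.1 a.1.2 b.1.2 a.2 b.2 h4 (fun i => congrFun h3 i)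
    exact ⟨g, fun i => hg i⟩)
  unfold FM
  rw [Nat.card_coe_set_eq S] at h1
  have h2 : (Nat.card {xv : G × (ι → F) // Ann (ρ xv.1) xv.2 f} : ℝ) ≤ ((Nat.card G * S.ncard : ℕ) : ℝ) := by
    exact_mod_cast h1
  rw [Nat.cast_mul, mul_comm] at h2
  exact h2

end Cfsg.Agent.H178.RG
end

-- part: H689/RG/Dual
section
/-!
# S5714, TEAM RG, B2': the Gram sequence of a pair is symmetric, the characteristic polynomial is selfdual
-/

set_option autoImplicit false

namespace Cfsg.Agent.H689.RG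

open Cfsg Cfsg.Agent.OrdDiv Cfsg.Agent.H436 Cfsg.Agent.H178.RG
open Polynomial

variable {F : Type} [Field F] [Fintype F]

section

variable {ι : Type} [Fintype ι] [DecidableEq ι] {s : ℕ} {ε : F} {B : (ι → F) → (ι → F) → F}

theorem B_zero_left (hB : IsForm s ε B) (w : ι → F) : B 0 w = 0 := by
  have := hB.smul_left 0 0 w
  simpa using this

theorem B_sum_left (hB : IsForm s ε B) {κ : Type} (t : Finset κ) (a : κ → F) (u : κ → ι → F) (w : ι → F) :
    B (∑ i ∈ t, a i • u i) w = ∑ i ∈ t, a i * B (u i) w := by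
  classical
  induction t using Finset.induction_on with
  | empty => simp [B_zero_left hB]
  | insert i t hi ih => rw [Finset.sum_insert hi, Finset.sum_insert hi, hB.add_left, hB.smul_left, ih]

end

theorem symSeq_of {ι : Type} [Fintype ι] [DecidableEq ι] {G : Type} [Group G] (ρ : G →* Matrix ι ι F)
    {s : ℕ} {ε : F} {B : (ι → F) → (ι → F) → F} (hB : IsForm s ε B)
    (hρ : ∀ g v w, B ((ρ g).mulVec v) ((ρ g).mulVec w) = B v w) {f : F[X]} {x : G} {v : ι → F} (h : Ann (ρ x) v f) :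
    (fun i : ℤ => B ((ρ (x ^ i)).mulVec v) v) ∈ SymSeq s ε f := by
  refine ⟨fun m => ?_, fun i => ?_⟩
  · have h0 : (aeval (ρ x) f).mulVec v = 0 := (h f).2 dvd_rfl
    have h1 : (ρ (x ^ m)).mulVec ((aeval (ρ x) f).mulVec v) =
        ∑ i ∈ f.support, f.coeff i • (ρ (x ^ (m + i))).mulVec v := by
      rw [aeval_def, eval₂_eq_sum, Polynomial.sum, Matrix.sum_mulVec, Matrix.mulVec_sum]
      refine Finset.sum_congr rfl fun i _ => ?_
      rw [← Algebra.smul_def, Matrix.smul_mulVec, Matrix.mulVec_smul, Matrix.mulVec_mulVec, ← map_pow, ← map_mul,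
        zpow_add, zpow_natCast]
    rw [h0, Matrix.mulVec_zero] at h1
    have h2 := congrArg (fun u => B u v) h1
    simp only [B_zero_left hB, B_sum_left hB] at h2
    exact h2.symm
  · have h1 := hρ (x ^ i) ((ρ (x ^ (-i))).mulVec v) v
    rw [Matrix.mulVec_mulVec, ← map_mul, ← zpow_add, add_neg_cancel, zpow_zero, map_one, Matrix.one_mulVec] at h1
    show B ((ρ (x ^ (-i))).mulVec v) v = ε * B ((ρ (x ^ i)).mulVec v) v ^ s
    rw [← h1]
    exact hB.symm _ _

section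

variable {ι : Type} [Fintype ι] [DecidableEq ι] {s : ℕ} {ε : F} {B : (ι → F) → (ι → F) → F}

end

end Cfsg.Agent.H689.RG
end

-- part: H127/Rg/SymSeq
section
/-!
# S5714, TEAM RG, B3: the number of symmetric sequences with a given recurrence
-/

set_option autoImplicit false

namespace Cfsg.Agent.H127.Rg

open Polynomial Cfsg.Agent.H178.RG

section Shift

variable {F : Type} [Field F]

/-- the shift -/
def shift (F : Type) [Field F] : Module.End F (ℤ → F) where
  toFun c := fun m => c (m + 1)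
  map_add' _ _ := rfl
  map_smul' _ _ := rfl

theorem shift_apply (c : ℤ → F) (m : ℤ) : shift F c m = c (m + 1) := rfl

theorem shift_pow (i : ℕ) (c : ℤ → F) (m : ℤ) : (shift F ^ i) c m = c (m + i) := by
  induction i generalizing m with
  | zero => simp
  | succ i ih =>
    rw [pow_succ', Module.End.mul_apply, shift_apply, ih]
    congr 1
    push_cast
    ring

theorem aeval_shift (f : F[X]) (c : ℤ → F) (m : ℤ) :
    (aeval (shift F) f) c m = f.sum fun i a => a * c (m + i) := by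
  rw [aeval_def, eval₂_eq_sum, Polynomial.sum_def, Polynomial.sum_def, LinearMap.sum_apply, Finset.sum_apply]
  refine Finset.sum_congr rfl fun i _ => ?_
  rw [Module.End.mul_apply, Module.algebraMap_end_apply, Pi.smul_apply, shift_pow, smul_eq_mul]

theorem rec_iff (f : F[X]) (c : ℤ → F) :
    (∀ m : ℤ, (f.sum fun i a => a * c (m + i)) = 0) ↔ (aeval (shift F) f) c = 0 := by
  constructor
  · intro h
    funext m
    rw [aeval_shift, h, Pi.zero_apply]
  · intro h m
    rw [← aeval_shift, h, Pi.zero_apply]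

/-- a sequence with recurrence `g` which vanishes at `0, ..., deg g - 1` is zero -/
theorem eq_zero_of_init {g : F[X]} (hg : g ≠ 0) (h0 : g.coeff 0 ≠ 0) {c : ℤ → F} (hc : (aeval (shift F) g) c = 0)
    (hi : ∀ i : ℕ, i < g.natDegree → c i = 0) : c = 0 := by
  have hrec : ∀ m : ℤ, ∑ i ∈ Finset.range (g.natDegree + 1), g.coeff i * c (m + i) = 0 := by
    intro m
    have h1 := (rec_iff g c).2 hc m
    have h2 := Polynomial.sum_over_range g (f := fun (i : ℕ) (a : F) => a * c (m + i)) (fun i => zero_mul _)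
    rw [h2] at h1
    exact h1
  have hlead : g.coeff g.natDegree ≠ 0 := leadingCoeff_ne_zero.2 hg
  have hpos : ∀ n : ℕ, c n = 0 := by
    intro n
    induction n using Nat.strong_induction_on with
    | _ n ih =>
      rcases Nat.lt_or_ge n g.natDegree with h | h
      · exact hi n h
      · have h1 := hrec ((n : ℤ) - g.natDegree)
        rw [Finset.sum_range_succ, Finset.sum_eq_zero, zero_add] at h1
        · have e : (n : ℤ) - g.natDegree + g.natDegree = n := by ring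
          rw [e] at h1
          exact (mul_eq_zero.1 h1).resolve_left hlead
        · intro i hi
          rw [Finset.mem_range] at hi
          have e : (n : ℤ) - g.natDegree + i = ((n - g.natDegree + i : ℕ) : ℤ) := by
            push_cast [h]
            ring
          rw [e, ih _ (by omega), mul_zero]
  have hneg : ∀ n : ℕ, c (-(n : ℤ)) = 0 := by
    intro n
    induction n using Nat.strong_induction_on with
    | _ n ih =>
      have h1 := hrec (-(n : ℤ))
      rw [Finset.sum_range_succ', Finset.sum_eq_zero, zero_add] at h1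
      · rw [Nat.cast_zero, add_zero] at h1
        exact (mul_eq_zero.1 h1).resolve_left h0
      · intro i _
        rcases Nat.lt_or_ge i n with h | h
        · have e : -(n : ℤ) + ((i + 1 : ℕ) : ℤ) = -((n - (i + 1) : ℕ) : ℤ) := by
            have : i + 1 ≤ n := h
            push_cast [this]
            ring
          rw [e, ih _ (by omega), mul_zero]
        · have e : -(n : ℤ) + ((i + 1 : ℕ) : ℤ) = ((i + 1 - n : ℕ) : ℤ) := by
            have : n ≤ i + 1 := by omega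
            push_cast [this]
            ring
          rw [e, hpos, mul_zero]
  funext m
  rw [Pi.zero_apply]
  rcases Int.eq_nat_or_neg m with ⟨n, rfl | rfl⟩
  · exact hpos n
  · exact hneg n

/-- the space of the sequences with recurrence `g` -/
noncomputable def recS (g : F[X]) : Submodule F (ℤ → F) := LinearMap.ker (aeval (shift F) g)

theorem mem_recS {g : F[X]} {c : ℤ → F} : c ∈ recS g ↔ (aeval (shift F) g) c = 0 := LinearMap.mem_ker

theorem recS_mono {f g : F[X]} (h : f ∣ g) {c : ℤ → F} (hc : c ∈ recS f) : c ∈ recS g := by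
  obtain ⟨k, rfl⟩ := h
  rw [mem_recS, mul_comm, map_mul, Module.End.mul_apply, mem_recS.1 hc, map_zero]

theorem recS_bezout {f g d : F[X]} (h : ∃ u v, u * f + v * g = d) {c : ℤ → F} (hf : c ∈ recS f) (hg : c ∈ recS g) :
    c ∈ recS d := by
  obtain ⟨u, v, rfl⟩ := h
  rw [mem_recS, map_add, map_mul, map_mul, LinearMap.add_apply, Module.End.mul_apply, Module.End.mul_apply,
    mem_recS.1 hf, mem_recS.1 hg, map_zero, map_zero, add_zero]

theorem shift_recS {g : F[X]} {c : ℤ → F} (hc : c ∈ recS g) : shift F c ∈ recS g := by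
  have h1 : (aeval (shift F) g) * (aeval (shift F) (X : F[X])) = (aeval (shift F) (X : F[X])) * (aeval (shift F) g) := by
    rw [← map_mul, ← map_mul, mul_comm]
  rw [aeval_X] at h1
  rw [mem_recS, ← Module.End.mul_apply, h1, Module.End.mul_apply, mem_recS.1 hc, map_zero]

end Shift

section Sym

variable {F : Type} [Field F] [Fintype F]

/-- `s` is a power of the characteristic -/
theorem exists_char {s : ℕ} (hs : s ^ 2 = Fintype.card F ∨ s = 1) :
    ∃ (p k : ℕ) (_ : Fact p.Prime) (_ : CharP F p), s = p ^ k := by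
  obtain ⟨p, hp⟩ := CharP.exists F
  obtain ⟨n, hpp, hn⟩ := FiniteField.card F p
  rcases hs with hs | rfl
  · obtain ⟨k, -, hk⟩ := (Nat.dvd_prime_pow hpp).1 (show s ∣ p ^ (n : ℕ) by rw [← hn, ← hs]; exact dvd_pow_self s two_ne_zero)
    exact ⟨p, k, ⟨hpp⟩, hp, hk⟩
  · exact ⟨p, 0, ⟨hpp⟩, hp, (pow_zero p).symm⟩

theorem sum_pow_s {s : ℕ} (hs : s ^ 2 = Fintype.card F ∨ s = 1) {κ : Type} (t : Finset κ) (a : κ → F) :
    (∑ i ∈ t, a i) ^ s = ∑ i ∈ t, a i ^ s := by
  obtain ⟨p, k, h1, h2, rfl⟩ := exists_char hs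
  exact sum_pow_char_pow p k t a

theorem s_pos {s : ℕ} (hs : s ^ 2 = Fintype.card F ∨ s = 1) : 0 < s := by
  rcases hs with hs | rfl
  · rw [Nat.pos_iff_ne_zero]
    rintro rfl
    rw [zero_pow two_ne_zero] at hs
    exact Fintype.card_ne_zero hs.symm
  · exact one_pos

/-- the symmetric sequences have the dual recurrence -/
theorem mem_dual {s : ℕ} (hs : s ^ 2 = Fintype.card F ∨ s = 1) {ε : F} (hε : ε ≠ 0) {f : F[X]} {c : ℤ → F}
    (hc : c ∈ SymSeq s ε f) : c ∈ recS (dualP s f) := by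
  obtain ⟨h1, h2⟩ := hc
  have h3 : ∀ j : ℤ, c j ^ s = ε⁻¹ * c (-j) := by
    intro j
    rw [h2 j, ← mul_assoc, inv_mul_cancel₀ hε, one_mul]
  have h4 : ∀ m : ℤ, ∑ i ∈ f.support, f.coeff i ^ s * c (m + (f.natDegree - i : ℕ)) = 0 := by
    intro m
    have h5 := h1 (-m - f.natDegree)
    rw [Polynomial.sum_def] at h5
    have h6 : ε * (∑ i ∈ f.support, f.coeff i * c (-m - f.natDegree + i)) ^ s = ε * (0 : F) ^ s := by rw [h5]
    rw [zero_pow (s_pos hs).ne', mul_zero, sum_pow_s hs, Finset.mul_sum] at h6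
    rw [← h6]
    refine Finset.sum_congr rfl fun i hi => ?_
    have h7 : i ≤ f.natDegree := le_natDegree_of_mem_supp i hi
    rw [mul_pow, h3]
    have e : -(-m - (f.natDegree : ℤ) + i) = m + (f.natDegree - i : ℕ) := by
      push_cast [h7]
      ring
    rw [e]
    field_simp
  rw [mem_recS, dualP, map_mul, Module.End.mul_apply]
  have h5 : (aeval (shift F) (f.sum fun i a => C (a ^ s) * X ^ (f.natDegree - i))) c = 0 := by
    funext m
    rw [Polynomial.sum_def, map_sum, LinearMap.sum_apply, Finset.sum_apply, Pi.zero_apply, ← h4 m]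
    refine Finset.sum_congr rfl fun i _ => ?_
    rw [map_mul, aeval_C, aeval_X_pow, Module.End.mul_apply, Module.algebraMap_end_apply, Pi.smul_apply,
      shift_pow, smul_eq_mul]
  rw [h5, map_zero]

end Sym

end Cfsg.Agent.H127.Rg
end

-- part: H388/RG/SymSeq
section
/-!
# S5714, TEAM RG, node B3': the number of symmetric sequences
-/

set_option autoImplicit false

namespace Cfsg.Agent.H388.RG

open Cfsg Cfsg.Agent.H178.RG
open Polynomial

variable {F : Type} [Field F]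

/-- the recurrence -/
def Rec (f : F[X]) (c : ℤ → F) : Prop := ∀ m : ℤ, (∑ i ∈ Finset.range (f.natDegree + 1), f.coeff i * c (m + i)) = 0

theorem rec_iff (f : F[X]) (c : ℤ → F) : (∀ m : ℤ, (f.sum fun i a => a * c (m + i)) = 0) ↔ Rec f c := by
  unfold Rec
  refine forall_congr' fun m => ?_
  rw [sum_over_range _ (fun n => by simp)]

variable [Fintype F]

/-! ### the special sequences -/

end Cfsg.Agent.H388.RG
end

-- part: H513/RG/WittGen
section
/-!
# TEAM RG (S5714): cyclic subspaces with the same annihilator and the same Gram data (helper513)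

* `ev x v` : the linear map `g ↦ g(x) v`;
* `gram` : the Gram matrices of the sequences `x ^ i v` determine the form on `F[x] v`;
* `exists_equiv` : the same annihilator: `x ^ i v ↦ x' ^ i v'` is an isomorphism `F[x] v → F[x'] v'`;
* `main` : the combination for an invariant form: an isometry `F[x] v → F[x'] v'`.
-/

set_option autoImplicit false

namespace Cfsg.Agent.H513.RG

open Cfsg Polynomial Cfsg.Agent.H178.RG

variable {F ι : Type} [Field F] [Fintype ι] [DecidableEq ι]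

/-- evaluation -/
noncomputable def ev (x : Matrix ι ι F) (v : ι → F) : F[X] →ₗ[F] (ι → F) where
  toFun g := (aeval x g).mulVec v
  map_add' g h := by rw [map_add, Matrix.add_mulVec]
  map_smul' c g := by rw [map_smul, Matrix.smul_mulVec]; rfl

theorem ev_apply (x : Matrix ι ι F) (v : ι → F) (g : F[X]) : ev x v g = (aeval x g).mulVec v := rfl

theorem ev_X_pow (x : Matrix ι ι F) (v : ι → F) (i : ℕ) : ev x v (X ^ i) = (x ^ i).mulVec v := by
  rw [ev_apply, map_pow, aeval_X]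

theorem mem_ker {x : Matrix ι ι F} {v : ι → F} {f : F[X]} (h : Ann x v f) (g : F[X]) :
    g ∈ LinearMap.ker (ev x v) ↔ f ∣ g := by
  rw [LinearMap.mem_ker, ev_apply]
  exact h g

/-- **the same annihilator** -/
theorem exists_equiv {x x' : Matrix ι ι F} {v v' : ι → F} {f : F[X]} (h : Ann x v f) (h' : Ann x' v' f) :
    ∃ φ : LinearMap.range (ev x v) ≃ₗ[F] LinearMap.range (ev x' v'),
      ∀ g, (φ ⟨ev x v g, LinearMap.mem_range_self _ g⟩ : ι → F) = ev x' v' g := by
  have hk : LinearMap.ker (ev x v) = LinearMap.ker (ev x' v') := by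
    ext g
    rw [mem_ker h, mem_ker h']
  refine ⟨((ev x v).quotKerEquivRange.symm).trans ((Submodule.quotEquivOfEq _ _ hk).trans (ev x' v').quotKerEquivRange),
    fun g => ?_⟩
  have h1 : (ev x v).quotKerEquivRange.symm ⟨ev x v g, LinearMap.mem_range_self _ g⟩ = Submodule.Quotient.mk g := by
    rw [LinearEquiv.symm_apply_eq]
    rfl
  rw [LinearEquiv.trans_apply, h1]
  rfl

/-- the Gram data of the two sequences determine the forms -/
theorem gram {x x' : Matrix ι ι F} {v v' : ι → F} {B : (ι → F) → (ι → F) → F} {σ : F → F}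
    (hal : ∀ u v w, B (u + v) w = B u w + B v w) (hsl : ∀ (a : F) u w, B (a • u) w = a * B u w)
    (har : ∀ u v w, B w (u + v) = B w u + B w v) (hsr : ∀ (a : F) u w, B w (a • u) = σ a * B w u)
    (h : ∀ i j : ℕ, B ((x ^ i).mulVec v) ((x ^ j).mulVec v) = B ((x' ^ i).mulVec v') ((x' ^ j).mulVec v'))
    (g k : F[X]) : B (ev x v g) (ev x v k) = B (ev x' v' g) (ev x' v' k) := by
  have hm : ∀ (y : Matrix ι ι F) (w : ι → F) (i : ℕ) (a : F),
      ev y w (monomial i a) = a • (y ^ i).mulVec w := by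
    intro y w i a
    rw [← smul_X_eq_monomial, map_smul, ev_X_pow]
  induction g using Polynomial.induction_on' with
  | add g₁ g₂ h₁ h₂ => rw [map_add, map_add, hal, hal, h₁, h₂]
  | monomial i a =>
    induction k using Polynomial.induction_on' with
    | add g₁ g₂ h₁ h₂ => rw [map_add, map_add, har, har, h₁, h₂]
    | monomial j b => rw [hm, hm, hm, hm, hsl, hsl, hsr, hsr, h]

/-- **an invariant form**: the Gram data `B (x ^ i v, v)`, `i : ℤ`, and the annihilator determine the cyclic subspace -/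
theorem main {G : Type} [Group G] (ρ : G →* Matrix ι ι F) {B : (ι → F) → (ι → F) → F} {σ : F → F}
    (hal : ∀ u v w, B (u + v) w = B u w + B v w) (hsl : ∀ (a : F) u w, B (a • u) w = a * B u w)
    (har : ∀ u v w, B w (u + v) = B w u + B w v) (hsr : ∀ (a : F) u w, B w (a • u) = σ a * B w u)
    (hρ : ∀ g v w, B ((ρ g).mulVec v) ((ρ g).mulVec w) = B v w) {f : F[X]} {x x' : G} {v v' : ι → F}
    (h : Ann (ρ x) v f) (h' : Ann (ρ x') v' f)
    (hg : ∀ i : ℤ, B ((ρ (x ^ i)).mulVec v) v = B ((ρ (x' ^ i)).mulVec v') v') :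
    ∃ φ : LinearMap.range (ev (ρ x) v) ≃ₗ[F] LinearMap.range (ev (ρ x') v'),
      (∀ g, (φ ⟨ev (ρ x) v g, LinearMap.mem_range_self _ g⟩ : ι → F) = ev (ρ x') v' g) ∧
      ∀ a b : LinearMap.range (ev (ρ x) v), B (φ a : ι → F) (φ b : ι → F) = B (a : ι → F) (b : ι → F) := by
  obtain ⟨φ, hφ⟩ := exists_equiv h h'
  refine ⟨φ, hφ, ?_⟩
  rintro ⟨_, g, rfl⟩ ⟨_, k, rfl⟩
  rw [hφ, hφ]
  have key : ∀ (y : G) (w : ι → F) (i j : ℕ), B (((ρ y) ^ i).mulVec w) (((ρ y) ^ j).mulVec w) =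
      B ((ρ (y ^ ((i : ℤ) - j))).mulVec w) w := by
    intro y w i j
    rw [← hρ (y ^ j) ((ρ (y ^ ((i : ℤ) - j))).mulVec w) w, Matrix.mulVec_mulVec, ← map_mul, ← map_pow, ← map_pow]
    congr 3
    rw [← zpow_natCast, ← zpow_natCast, ← zpow_add]
    congr 1
    ring
  symm
  exact gram hal hsl har hsr (fun i j => by rw [key, key, hg]) g k

end Cfsg.Agent.H513.RG
end

-- part: H513/RG/WittSp
section
/-!
# TEAM RG (S5714) B4: Witt's theorem for cyclic subspaces, symplectic groups (helper513)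
-/

set_option autoImplicit false

namespace Cfsg.Agent.H513.RG

open Cfsg Polynomial Cfsg.Agent.H178.RG
open Cfsg.Agent.ClassicalGeometry.SympBasic

variable {F : Type} [Field F]

theorem rho_apply (m : ℕ) (x : Matrix.symplecticGroup (Fin m) F) :
    ((Units.coeHom (Matrix (Fin m ⊕ Fin m) (Fin m ⊕ Fin m) F)).comp (Cfsg.Agent.H876.spToGL m F)) x =
      (x : Matrix (Fin m ⊕ Fin m) (Fin m ⊕ Fin m) F) := rfl

theorem witt_sp (m : ℕ) (_hm : 1 ≤ m) :
    WittP ((Units.coeHom (Matrix (Fin m ⊕ Fin m) (Fin m ⊕ Fin m) F)).comp (Cfsg.Agent.H876.spToGL m F))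
      (sympForm m F) (fun _ => 0) := by
  intro f x x' v v' h h' _ hg
  set ρ := (Units.coeHom (Matrix (Fin m ⊕ Fin m) (Fin m ⊕ Fin m) F)).comp (Cfsg.Agent.H876.spToGL m F) with hρdef
  obtain ⟨φ, hφ, hiso⟩ := main ρ (B := sympForm m F) (σ := id) (fun u v w => sympForm_add_left u v w)
    (fun a u w => sympForm_smul_left a u w) (fun u v w => sympForm_add_right w u v)
    (fun a u w => sympForm_smul_right a w u) (fun g v w => sympForm_mulVec g.2 v w) h h' hg
  obtain ⟨g, hg1, hg2⟩ := Cfsg.Agent.S0749.result (sympBilin m F) sympBilin_nondegenerate sympBilin_isAlt _ _ φ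
    (fun a b => hiso a b)
  have hmem : LinearMap.toMatrix' (g : (Fin m ⊕ Fin m → F) →ₗ[F] (Fin m ⊕ Fin m → F)) ∈
      Matrix.symplecticGroup (Fin m) F := by
    rw [mem_symplecticGroup_iff]
    intro u w
    rw [LinearMap.toMatrix'_mulVec, LinearMap.toMatrix'_mulVec]
    exact hg1 u w
  refine ⟨⟨_, hmem⟩, fun i => ?_⟩
  rw [hρdef, rho_apply, ← hρdef]
  simp only [LinearMap.toMatrix'_mulVec]
  have h1 := hg2 ⟨ev (ρ x) v (X ^ i), LinearMap.mem_range_self _ _⟩
  rw [hφ] at h1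
  simp only [ev_X_pow, ← map_pow] at h1
  exact h1

end Cfsg.Agent.H513.RG
end

-- part: H640/RG/FmsSp
section
/-!
# TEAM RG (S5714): first moment bounds for the symplectic groups

`fms_sp`: the number of pairs `(x, v)`, `x ∈ Sp_{2m}(F)`, with annihilator `f`.
-/

set_option autoImplicit false

namespace Cfsg.Agent.H640.RG

open Cfsg Cfsg.Agent.H178.RG Polynomial
open Cfsg.Agent.ClassicalGeometry.SympBasic

set_option linter.unusedSectionVars false

variable {F : Type} [Field F] [Fintype F]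

/-- the natural representation of the symplectic group -/
noncomputable abbrev rhoSp (m : ℕ) (F : Type) [Field F] :
    Matrix.symplecticGroup (Fin m) F →* Matrix (Fin m ⊕ Fin m) (Fin m ⊕ Fin m) F :=
  (Units.coeHom (Matrix (Fin m ⊕ Fin m) (Fin m ⊕ Fin m) F)).comp (Cfsg.Agent.H876.spToGL m F)

theorem isForm_symp (m : ℕ) : IsForm 1 (-1 : F) (sympForm m F) where
  hs := Or.inl rfl
  add_left := sympForm_add_left
  smul_left := sympForm_smul_left
  symm := fun v w => by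
    rw [sympForm_swap, pow_one]
    ring
  nondeg := fun v h => by
    refine eq_zero_of_forall_sympForm_left fun w => ?_
    first
      | exact h w
      | (rw [sympForm_swap, h w, neg_zero])

theorem rhoSp_inv (m : ℕ) (g : Matrix.symplecticGroup (Fin m) F) (v w : Fin m ⊕ Fin m → F) :
    sympForm m F ((rhoSp m F g).mulVec v) ((rhoSp m F g).mulVec w) = sympForm m F v w :=
  sympForm_mulVec g.2 v w

/-- `FM` is monotone in the bound -/
theorem fm_mono {ι : Type} [Fintype ι] [DecidableEq ι] {G : Type} [Group G] {ρ : G →* Matrix ι ι F} {f : F[X]}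
    {c d : ℝ} (h : FM ρ f c) (hcd : c ≤ d) : FM ρ f d :=
  h.trans (mul_le_mul_of_nonneg_right hcd (Nat.cast_nonneg _))

/-- the Gram data of a symplectic pair are `(c, 0)` with `c` a symmetric sequence -/
theorem fm_of_symSeq (m : ℕ) (hm : 1 ≤ m) {f : F[X]} {T : Set (ℤ → F)} (hT : T.Finite)
    (h : ∀ c ∈ SymSeq 1 (-1 : F) f, c 0 = 0 → c ∈ T) {b : ℝ} (hb : (T.ncard : ℝ) ≤ b) :
    FM (rhoSp m F) f b := by
  classical
  have h1 : FM (rhoSp m F) f (((T ×ˢ ({0} : Set F)).ncard : ℕ) : ℝ) := by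
    refine fm_form (rhoSp m F) (Cfsg.Agent.H513.RG.witt_sp m hm) f _ (hT.prod (Set.finite_singleton _)) ?_
    intro x v hxv
    refine ⟨h _ (Cfsg.Agent.H689.RG.symSeq_of (rhoSp m F) (isForm_symp m) (rhoSp_inv m) hxv) ?_, rfl⟩
    show sympForm m F ((rhoSp m F (x ^ (0 : ℤ))).mulVec v) v = 0
    rw [zpow_zero, map_one, Matrix.one_mulVec, sympForm_self]
  refine fm_mono h1 (le_trans (le_of_eq ?_) hb)
  rw [Set.ncard_prod, Set.ncard_singleton, mul_one]

end Cfsg.Agent.H640.RG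
end

private theorem dce_7d01e9fb24c5 : _root_.True := by
  try have : _root_.True := by simp only [_root_.Cfsg.Agent.H178.RG.Ann.congr_simp]
  try have : _root_.True := by simp only [_root_.Cfsg.Agent.H178.RG.dualP.eq_1]
  exact _root_.True.intro
end

-- part: H746/Rg/Index_mg
section
prune_inst 0x4000400282010000000000220206000400000b2004000004020080409412002098000c006800002002200810001000000000030000000c00a840000000000000000940430100c19000010000008000000000000020000000000000000000000010000000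
set_option linter.all false
open scoped Cfsg.Agent.FastGrp

-- part: H746/Rg/Index
section
/-!
# S5714: the index trick

* `index_trick` : if a set of bad elements of a finite group `Y` is invariant under the multiplication by the elements
  `ζ c` (`c` in a finite group `C`), then `|C| |bad (S)| ≤ |{c | ζ c ∈ S}| |bad (Y)|` for every subgroup `S`;
* `goodPow_smul` : `GoodPow` is invariant under scalars;
* `smallP_one` : there are no small polynomials of degree less than one.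
-/

set_option autoImplicit false

namespace Cfsg.Agent.H746.Rg

open Cfsg Cfsg.Agent.H141.Rg Polynomial Module

theorem index_trick {Y C : Type*} [Group Y] [Finite Y] [Group C] [Finite C] (ζ : C →* Y) (S : Subgroup Y)
    (P : Y → Prop) (hP : ∀ c y, P y → P (ζ c * y)) :
    Nat.card C * Nat.card {x : S // P x} ≤ Nat.card {c : C // ζ c ∈ S} * Nat.card {y : Y // P y} := by
  classical
  rw [← Nat.card_prod, ← Nat.card_prod]
  -- choose a base point in every fibre
  let f : C × {x : S // P x} → {y : Y // P y} := fun p => ⟨ζ p.1 * (p.2.1 : Y), hP _ _ p.2.2⟩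
  let b : {y : Y // P y} → C × {x : S // P x} → C := fun y p =>
    if h : ∃ r : C × {x : S // P x}, f r = y then h.choose.1 else p.1
  have hb : ∀ p, ζ ((b (f p) p)⁻¹ * p.1) ∈ S := by
    intro p
    have h : ∃ r : C × {x : S // P x}, f r = f p := ⟨p, rfl⟩
    have h1 : b (f p) p = h.choose.1 := dif_pos h
    have h2 := congrArg Subtype.val h.choose_spec
    change ζ h.choose.1 * (h.choose.2.1 : Y) = ζ p.1 * (p.2.1 : Y) at h2
    rw [h1, map_mul, map_inv]
    have h3 : (ζ h.choose.1)⁻¹ * ζ p.1 = (h.choose.2.1 : Y) * (p.2.1 : Y)⁻¹ := by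
      rw [eq_mul_inv_iff_mul_eq, mul_assoc, ← h2, inv_mul_cancel_left]
    rw [h3]
    exact S.mul_mem h.choose.2.1.2 (S.inv_mem p.2.1.2)
  have hbc : ∀ p p', f p = f p' → b (f p) p = b (f p') p' := by
    intro p p' he
    have h : ∃ r : C × {x : S // P x}, f r = f p := ⟨p, rfl⟩
    have h' : ∃ r : C × {x : S // P x}, f r = f p' := ⟨p', rfl⟩
    have h1 : b (f p) p = h.choose.1 := dif_pos h
    have h2 : b (f p') p' = h'.choose.1 := dif_pos h'
    rw [h1, h2]
    simp only [he]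
  refine Nat.card_le_card_of_injective (fun p => ((⟨(b (f p) p)⁻¹ * p.1, hb p⟩ : {c : C // ζ c ∈ S}), f p)) ?_
  intro p p' he
  have h1 := congrArg Prod.snd he
  have h2 := congrArg (fun t => t.1.1) he
  change f p = f p' at h1
  change (b (f p) p)⁻¹ * p.1 = (b (f p') p')⁻¹ * p'.1 at h2
  rw [hbc p p' h1] at h2
  have h3 : p.1 = p'.1 := mul_left_cancel h2
  have h4 := congrArg Subtype.val h1
  change ζ p.1 * (p.2.1 : Y) = ζ p'.1 * (p'.2.1 : Y) at h4
  rw [h3] at h4
  exact Prod.ext h3 (Subtype.ext (Subtype.ext (mul_left_cancel h4)))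

section

variable {K V : Type*} [Field K] [AddCommGroup V] [Module K V]

theorem goodPow_smul {y : V →ₗ[K] V} {A : Submodule K V} {k : ℕ} (h : GoodPow y A k) {a : K} (ha : a ≠ 0) :
    GoodPow (a • y) A k := by
  obtain ⟨B, hAB, hA, hB, hc⟩ := h
  refine ⟨B, hAB, fun v hv => A.smul_mem a (hA v hv), fun v hv => B.smul_mem a (hB v hv), ?_⟩
  intro m hm hmk f hf
  have hf' : Commute f (y ^ m) := by
    rw [_root_.smul_pow] at hf
    have h1 : f * (a ^ m • y ^ m) = (a ^ m • y ^ m) * f := hf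
    rw [mul_smul_comm, smul_mul_assoc] at h1
    exact smul_right_injective _ (pow_ne_zero m ha) h1
  obtain ⟨h1, h2, h3⟩ := hc m hm hmk f hf'
  refine ⟨h1, h2, fun b hb => ?_⟩
  rw [LinearMap.smul_apply, LinearMap.smul_apply, map_smul, h3 b hb]

theorem goodPow_smul_iff {y : V →ₗ[K] V} {A : Submodule K V} {k : ℕ} {a : K} (ha : a ≠ 0) :
    GoodPow (a • y) A k ↔ GoodPow y A k := by
  refine ⟨fun h => ?_, fun h => goodPow_smul h ha⟩
  have := goodPow_smul h (inv_ne_zero ha)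
  rwa [inv_smul_smul₀ ha] at this

theorem Sml_one_one : Sml 1 (1 : K[X]) = ∅ := by
  rw [Set.eq_empty_iff_forall_notMem]
  rintro f ⟨⟨hm, hi, -⟩, h | h⟩
  · exact hi.not_isUnit ((hm.natDegree_eq_zero.1 (by omega)) ▸ isUnit_one)
  · exact hi.not_isUnit (isUnit_of_dvd_one h)

theorem smallP_one (y : V →ₗ[K] V) : smallP y (Sml 1 1) = ⊥ := by
  unfold smallP
  rw [Sml_one_one]
  simp only [_root_.Set.mem_empty_iff_false, _root_.map_pow, _root_.not_false_eq_true, _root_.iSup_neg, _root_.iSup_bot]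

end

end Cfsg.Agent.H746.Rg
end

-- part: H1/Rg/Num
section
/-!
# S5714: the numerical part of the two regimes (helper1)

* `numU`: unbounded rank;
* `numB`: bounded rank.
-/

set_option autoImplicit false

namespace Cfsg.Agent.H1.Rg

open Filter

/-- powers are at most exponentials -/
theorem pow_le_exp (C : ℝ) (b : ℕ) {δ : ℝ} (hδ : 0 < δ) : ∃ x0 : ℝ, ∀ x : ℝ, x0 ≤ x → C * x ^ b ≤ Real.exp (δ * x) := by
  have h := (isLittleO_pow_exp_pos_mul_atTop b hδ).bound (c := (|C| + 1)⁻¹) (by positivity)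
  obtain ⟨x0, hx0⟩ := eventually_atTop.1 h
  refine ⟨x0, fun x hx => ?_⟩
  have h1 := hx0 x hx
  have hc : 0 < |C| + 1 := by positivity
  rw [Real.norm_of_nonneg (Real.exp_pos _).le, inv_mul_eq_div, le_div_iff₀ hc, Real.norm_eq_abs] at h1
  calc C * x ^ b ≤ |C * x ^ b| := le_abs_self _
    _ = |C| * |x ^ b| := abs_mul _ _
    _ ≤ |x ^ b| * (|C| + 1) := by linarith only [abs_nonneg (x ^ b)]
    _ ≤ _ := h1

theorem log_two_half : (1 / 2 : ℝ) ≤ Real.log 2 := by
  have := Real.log_two_gt_d9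
  linarith

/-- the numbers for unbounded rank -/
theorem numU (a : ℕ) (A c1 w η : ℝ) (hA : 0 ≤ A) (hc1 : 0 ≤ c1) (hw : 0 ≤ w) (hη : 0 < η) :
    ∃ t0 : ℕ, ∀ t : ℕ, t0 ≤ t → ∀ Q : ℝ, 2 ≤ Q → ∀ n : ℕ, n + 1 ≤ (t + 1) ^ 4 → ∀ l : ℝ, 0 ≤ l →
      l ≤ (n : ℝ) ^ 2 * Real.log Q →
      A * (l ^ a + 1) ^ 3 * ((n : ℝ) + 1) ^ 3 * (c1 * Q ^ (-(t : ℝ) / 16)) ≤ η ∧ w * (l ^ a) ^ 2 ≤ Q ^ t := by
  let B : ℝ := 66048
  obtain ⟨x1, h1⟩ := pow_le_exp (A * (2 * B ^ a) ^ 3 * 4 ^ 12 * c1 / η) ((9 * a) * 3 + 12) (δ := 1 / 16) (by norm_num)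
  obtain ⟨x2, h2⟩ := pow_le_exp (w * (2 * B ^ a) ^ 2) ((9 * a) * 2) (δ := 1) (by norm_num)
  refine ⟨⌈2 * max x1 x2⌉₊ + 1, fun t ht Q hQ n hn l hl hl2 => ?_⟩
  have hQ0 : 0 < Q := by linarith only [hQ]
  have hlog : 1 / 2 ≤ Real.log Q := log_two_half.trans (Real.log_le_log (by norm_num) hQ)
  have ht1 : 1 ≤ t := by omega
  have ht1' : (1 : ℝ) ≤ t := by exact_mod_cast ht1
  set Y : ℝ := t * Real.log Q with hY
  have hYt : (t : ℝ) ≤ 2 * Y := by rw [hY]; nlinarith only [hlog]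
  have hYl : Real.log Q ≤ Y := by rw [hY]; nlinarith only [hlog, ht1']
  have hY1 : 1 ≤ 2 * Y := by linarith only [ht1', hYt]
  have hY0 : 0 < Y := by linarith only [ht1', hYt]
  have hYx : max x1 x2 ≤ Y := by
    have h3 : 2 * max x1 x2 ≤ ⌈2 * max x1 x2⌉₊ := Nat.le_ceil _
    have h4 : ((⌈2 * max x1 x2⌉₊ + 1 : ℕ) : ℝ) ≤ t := by exact_mod_cast ht
    push_cast at h4
    linarith only [hYt, h3, h4]
  have hn4 : (n : ℝ) + 1 ≤ (4 * Y) ^ 4 := by
    have h3 : ((n + 1 : ℕ) : ℝ) ≤ (((t + 1) ^ 4 : ℕ) : ℝ) := by exact_mod_cast hn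
    push_cast at h3
    exact h3.trans (pow_le_pow_left₀ (by positivity) (by linarith only [ht1', hYt]) 4)
  have hn0 : (0 : ℝ) ≤ n := Nat.cast_nonneg _
  have hlB : l + 1 ≤ B * Y ^ 9 := by
    have h3 : (n : ℝ) ^ 2 ≤ ((4 * Y) ^ 4) ^ 2 := pow_le_pow_left₀ hn0 (by linarith only [hn4]) 2
    have h4 : (n : ℝ) ^ 2 * Real.log Q ≤ ((4 * Y) ^ 4) ^ 2 * Y :=
      mul_le_mul h3 hYl (by linarith only [hlog]) (by positivity)
    have h5 : (1 : ℝ) ≤ (2 * Y) ^ 9 := one_le_pow₀ hY1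
    have h6 : ((4 * Y) ^ 4) ^ 2 * Y = 65536 * Y ^ 9 := by ring
    have h7 : (2 * Y) ^ 9 = 512 * Y ^ 9 := by ring
    change l + 1 ≤ (66048 : ℝ) * Y ^ 9
    rw [h6] at h4
    rw [h7] at h5
    linarith only [hl2, h4, h5]
  have hla : l ^ a + 1 ≤ 2 * B ^ a * Y ^ (9 * a) := by
    have h3 : l ^ a ≤ (l + 1) ^ a := pow_le_pow_left₀ hl (by linarith only []) a
    have h4 : (1 : ℝ) ≤ (l + 1) ^ a := one_le_pow₀ (by linarith only [hl])
    have h5 : (l + 1) ^ a ≤ (B * Y ^ 9) ^ a := pow_le_pow_left₀ (by linarith only [hl]) hlB a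
    rw [mul_pow, ← pow_mul] at h5
    linarith only [h3, h4, h5]
  have hla0 : 0 ≤ l ^ a := pow_nonneg hl a
  have hQt : Q ^ (-(t : ℝ) / 16) = (Real.exp (1 / 16 * Y))⁻¹ := by
    rw [Real.rpow_def_of_pos hQ0, ← Real.exp_neg, hY]
    congr 1
    ring
  have hQt2 : Q ^ t = Real.exp (1 * Y) := by
    rw [hY, one_mul, ← Real.exp_log hQ0, ← Real.exp_nat_mul, Real.log_exp]
  constructor
  · have h3 := h1 Y ((le_max_left _ _).trans hYx)
    rw [hQt]
    have he : 0 < Real.exp (1 / 16 * Y) := Real.exp_pos _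
    rw [← mul_assoc, ← div_eq_mul_inv, div_le_iff₀ he]
    have h4 : A * (l ^ a + 1) ^ 3 * ((n : ℝ) + 1) ^ 3 * c1 ≤
        A * (2 * B ^ a * Y ^ (9 * a)) ^ 3 * ((4 * Y) ^ 4) ^ 3 * c1 := by gcongr
    refine h4.trans ?_
    have h5 : A * (2 * B ^ a * Y ^ (9 * a)) ^ 3 * ((4 * Y) ^ 4) ^ 3 * c1 =
        η * (A * (2 * B ^ a) ^ 3 * 4 ^ 12 * c1 / η * Y ^ ((9 * a) * 3 + 12)) := by
      have h6 : η * (A * (2 * B ^ a) ^ 3 * 4 ^ 12 * c1 / η * Y ^ ((9 * a) * 3 + 12)) =
        (η / η) * (A * (2 * B ^ a) ^ 3 * 4 ^ 12 * c1 * Y ^ ((9 * a) * 3 + 12)) := by ring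
      rw [h6, div_self hη.ne', pow_add, pow_mul]
      ring
    rw [h5]
    exact mul_le_mul_of_nonneg_left h3 hη.le
  · have h3 := h2 Y ((le_max_right _ _).trans hYx)
    rw [hQt2]
    refine le_trans ?_ h3
    have h4 : w * (l ^ a) ^ 2 ≤ w * (2 * B ^ a * Y ^ (9 * a)) ^ 2 := by
      gcongr
      linarith only [hla]
    refine h4.trans (le_of_eq ?_)
    rw [mul_pow, ← pow_mul Y]
    ring

/-- the numbers for bounded rank -/
theorem numB (a n1 : ℕ) (A w η : ℝ) (hA : 0 ≤ A) (hw : 0 ≤ w) (hη : 0 < η) :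
    ∃ q0 : ℕ, ∀ Q : ℕ, q0 ≤ Q → ∀ l : ℝ, 0 ≤ l → l ≤ (n1 : ℝ) ^ 2 * Real.log Q →
      A * (l ^ a + 1) ^ 3 * (Q : ℝ) ^ (-(1 : ℝ) / 16) ≤ η ∧ w * (l ^ a) ^ 2 ≤ Real.sqrt Q := by
  let B : ℝ := (n1 : ℝ) ^ 2 + 1
  have hB : 0 ≤ B := by positivity
  obtain ⟨x1, h1⟩ := pow_le_exp (A * (2 * B ^ a) ^ 3 / η) (a * 3) (δ := 1 / 16) (by norm_num)
  obtain ⟨x2, h2⟩ := pow_le_exp (w * (2 * B ^ a) ^ 2) (a * 2) (δ := 1 / 2) (by norm_num)
  refine ⟨⌈Real.exp (max 1 (max x1 x2))⌉₊ + 1, fun Q hQ l hl hl2 => ?_⟩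
  have h3 : Real.exp (max 1 (max x1 x2)) ≤ Q := by
    have h4 : Real.exp (max 1 (max x1 x2)) ≤ ⌈Real.exp (max 1 (max x1 x2))⌉₊ := Nat.le_ceil _
    have h5 : ((⌈Real.exp (max 1 (max x1 x2))⌉₊ + 1 : ℕ) : ℝ) ≤ Q := by exact_mod_cast hQ
    push_cast at h5
    linarith only [h4, h5]
  have hQ0 : (0 : ℝ) < Q := (Real.exp_pos _).trans_le h3
  set Y : ℝ := Real.log Q with hY
  have hYx : max 1 (max x1 x2) ≤ Y := by
    rw [hY, ← Real.log_exp (max 1 (max x1 x2))]
    exact Real.log_le_log (Real.exp_pos _) h3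
  have hY1 : 1 ≤ Y := (le_max_left _ _).trans hYx
  have hY0 : 0 < Y := by linarith
  have hlB : l + 1 ≤ B * Y := by
    change l + 1 ≤ ((n1 : ℝ) ^ 2 + 1) * Y
    linarith only [hl2, hY1]
  have hla : l ^ a + 1 ≤ 2 * B ^ a * Y ^ a := by
    have h3 : l ^ a ≤ (l + 1) ^ a := pow_le_pow_left₀ hl (by linarith) a
    have h4 : (1 : ℝ) ≤ (l + 1) ^ a := one_le_pow₀ (by linarith)
    have h5 : (l + 1) ^ a ≤ (B * Y) ^ a := pow_le_pow_left₀ (by linarith only [hl]) hlB a
    rw [mul_pow] at h5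
    linarith only [h3, h4, h5]
  have hla0 : 0 ≤ l ^ a := pow_nonneg hl a
  have hQt : (Q : ℝ) ^ (-(1 : ℝ) / 16) = (Real.exp (1 / 16 * Y))⁻¹ := by
    rw [Real.rpow_def_of_pos hQ0, ← Real.exp_neg, hY]
    congr 1
    ring
  have hQt2 : Real.sqrt Q = Real.exp (1 / 2 * Y) := by
    rw [Real.sqrt_eq_rpow, Real.rpow_def_of_pos hQ0, hY]
    congr 1
    ring
  constructor
  · have h3 := h1 Y ((le_max_left _ _).trans ((le_max_right _ _).trans hYx))
    rw [hQt]
    have he : 0 < Real.exp (1 / 16 * Y) := Real.exp_pos _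
    rw [← div_eq_mul_inv, div_le_iff₀ he]
    have h4 : A * (l ^ a + 1) ^ 3 ≤ A * (2 * B ^ a * Y ^ a) ^ 3 := by gcongr
    refine h4.trans ?_
    have h5 : A * (2 * B ^ a * Y ^ a) ^ 3 = η * (A * (2 * B ^ a) ^ 3 / η * Y ^ (a * 3)) := by
      have h6 : η * (A * (2 * B ^ a) ^ 3 / η * Y ^ (a * 3)) =
        (η / η) * (A * (2 * B ^ a) ^ 3 * Y ^ (a * 3)) := by ring
      rw [h6, div_self hη.ne', pow_mul]
      ring
    rw [h5]
    exact mul_le_mul_of_nonneg_left h3 hη.le
  · have h3 := h2 Y ((le_max_right _ _).trans ((le_max_right _ _).trans hYx))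
    rw [hQt2]
    refine le_trans ?_ h3
    have h4 : w * (l ^ a) ^ 2 ≤ w * (2 * B ^ a * Y ^ a) ^ 2 := by
      gcongr
      linarith only [hla]
    refine h4.trans (le_of_eq ?_)
    rw [mul_pow, ← pow_mul Y]
    ring

end Cfsg.Agent.H1.Rg
end

-- part: H1/Rg/Two
section
/-!
# S5714: the two regimes (helper1)

`CoreS`, `SmallS`, `SmallOS`, `BadS`: the statements `core`, `small_le`, `small_o`, `badN_le` of
`tools/plans/S5714_stubs.lean.txt` as propositions.

* `unb`: unbounded rank;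
* `bdd`: bounded rank.
-/

set_option autoImplicit false

namespace Cfsg.Agent.H1.Rg

open Cfsg Cfsg.Agent.OrdDiv Cfsg.Agent.H436 Cfsg.Agent.H141.Rg Polynomial Module

/-- the statement `core` -/
def CoreS : Prop :=
  ∃ A : ℝ, 0 < A ∧ ∀ (K V : Type) [Field K] [Finite K] [AddCommGroup V] [Module K V] [Finite V] (X : Type) [Group X]
    [Finite X] (σ : K →+* K), (∀ x, σ (σ x) = x) → ∀ (τ : X →* (V →ₗ[K] V)) (s : K[X]), (s = 1 ∨ s = Polynomial.X ^ 2 - 1) →
    ∀ (c : ℕ → ℝ), (∀ D, 1 ≤ c D) → EL σ τ s c → ∀ (k L : ℕ) (M : ℝ), 0 ≤ M → 1 ≤ k → 1 ≤ L →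
    (∀ D, L ≤ D → D ≤ finrank K V → c D * (Nat.card K : ℝ) ^ (-(D : ℝ) / 16) ≤ M) →
    (Nat.card {x : X // ¬ GoodPow (τ x) (smallP (τ x) (Sml L s)) k} : ℝ) ≤
      A * k ^ 3 * ((finrank K V : ℝ) + 1) ^ 3 * M * Nat.card X

/-- the statement `small_le` -/
def SmallS : Prop :=
  ∃ A : ℝ, 0 < A ∧ ∀ (K V : Type) [Field K] [Finite K] [AddCommGroup V] [Module K V] [Finite V] (X : Type) [Group X]
    [Finite X] (σ : K →+* K), (∀ x, σ (σ x) = x) → ∀ (τ : X →* (V →ₗ[K] V)) (s : K[X]), (s = 1 ∨ s = Polynomial.X ^ 2 - 1) →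
    ∀ (c : ℕ → ℝ) (c1 : ℝ), 1 ≤ c1 → (∀ D, 2 * D < finrank K V → c D ≤ c1) → (∀ D, c D ≤ c1 * Nat.card K) →
    EL σ τ s c → (s ≠ 1 → ELpm τ c) → ∀ L : ℕ, 1 ≤ L → 16 * L ≤ finrank K V →
    (∑ᶠ x : X, (finrank K (smallP (τ x) (Sml L s)) : ℝ)) ≤ A * c1 * L * Nat.card X

/-- the statement `small_o` -/
def SmallOS : Prop :=
  ∃ A : ℝ, 0 < A ∧ ∀ (K V : Type) [Field K] [Finite K] [AddCommGroup V] [Module K V] [Finite V] (X : Type) [Group X]
    [Finite X] (τ : X →* (V →ₗ[K] V)) (c : ℝ), 1 ≤ c → ELsh τ c →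
    (Nat.card {x : X // 2 < finrank K (smallP (τ x) (Sml 1 (Polynomial.X ^ 2 - 1)))} : ℝ) ≤
      A * c / Nat.card K * Nat.card X

/-- the statement `badN_le` -/
def BadS : Prop :=
  ∀ (K V : Type) [Field K] [Finite K] [AddCommGroup V] [Module K V] [Finite V] (X : Type) [Group X] [Finite X]
    (T : Type) [Group T] [Finite T] (π : X →* T), Function.Surjective π → π.ker ≤ Subgroup.center X →
    ∀ (τ : X →* (V →ₗ[K] V)), Function.Injective τ → ∀ (d ρ w : ℝ) (s0 k : ℕ), 0 < w → 0 ≤ d →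
    (∀ χ : T → ℂ, IsIrrCharacter T χ → (∃ g, χ g ≠ 1) → d ≤ (χ 1).re) → 0 ≤ ρ →
    ((Nat.card K : ℝ) ^ (s0 ^ 2) * (w * Nat.card (ConjClasses X)) ≤ (ρ * d) ^ 2) →
    (badN T k ρ : ℝ) * Nat.card X ≤
      (Nat.card {x : X // ¬ ∃ A : Submodule K V, finrank K A ≤ s0 ∧ GoodPow (τ x) A (k + 1)} + Nat.card X / w) * Nat.card T

/-- counting -/
theorem card_or_le {X : Type*} [Finite X] {P Q R : X → Prop} (h : ∀ x, P x → Q x ∨ R x) :
    Nat.card {x // P x} ≤ Nat.card {x // Q x} + Nat.card {x // R x} := by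
  have h1 : {x | P x} ⊆ {x | Q x} ∪ {x | R x} := h
  exact (Set.ncard_le_ncard h1 (Set.toFinite _)).trans (Set.ncard_union_le _ _)

/-- Markov's inequality -/
theorem markov {X : Type*} [Finite X] (f : X → ℕ) (s : ℕ) :
    (Nat.card {x // s < f x} : ℝ) * s ≤ ∑ᶠ x : X, (f x : ℝ) := by
  classical
  have : Fintype X := Fintype.ofFinite X
  rw [finsum_eq_sum_of_fintype, Nat.card_eq_fintype_card, Fintype.card_subtype, ← nsmul_eq_mul, ← Finset.sum_const]
  refine (Finset.sum_le_sum (g := fun x => (f x : ℝ)) fun x hx => ?_).trans ?_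
  · exact_mod_cast (Finset.mem_filter.1 hx).2.le
  · exact Finset.sum_le_sum_of_subset_of_nonneg (Finset.filter_subset _ _) fun x _ _ => Nat.cast_nonneg _

theorem badN_floor {T : Type} [Group T] {k ρ : ℝ} (hk : 0 ≤ k) : badN T k ρ = badN T (⌊k⌋₊ : ℝ) ρ := by
  unfold badN
  refine Nat.card_congr (Equiv.subtypeEquivRight fun y => exists_congr fun m => ?_)
  rw [Nat.cast_le, Nat.le_floor_iff hk]

/-- the last step -/
theorem assemble (hbad : BadS) {K V : Type} [Field K] [Finite K] [AddCommGroup V] [Module K V] [Finite V] {X : Type}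
    [Group X] [Finite X] {T : Type} [Group T] [Finite T] (π : X →* T) (hπ : Function.Surjective π)
    (hker : π.ker ≤ Subgroup.center X) (τ : X →* (V →ₗ[K] V)) (hτ : Function.Injective τ) (d : ℝ) (hd : 0 ≤ d)
    (hdeg : ∀ χ : T → ℂ, IsIrrCharacter T χ → (∃ g, χ g ≠ 1) → d ≤ (χ 1).re) (a s0 : ℕ) {ε : ℝ} (hε : 0 < ε)
    (hcnt : (Nat.card {x : X // ¬ ∃ A : Submodule K V, finrank K A ≤ s0 ∧ GoodPow (τ x) A (⌊lg T ^ a⌋₊ + 1)} : ℝ) ≤
      ε / 2 * Nat.card X)
    (hnum : (Nat.card K : ℝ) ^ (s0 ^ 2) * ((2 / ε) * Nat.card (ConjClasses X)) ≤ ((lg T ^ a)⁻¹ * d) ^ 2) :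
    (badN T (lg T ^ a) ((lg T ^ a)⁻¹) : ℝ) ≤ ε * Nat.card T := by
  have hl : 0 ≤ lg T := Real.log_natCast_nonneg _
  have hla : 0 ≤ lg T ^ a := pow_nonneg hl a
  have h := hbad K V X T π hπ hker τ hτ d ((lg T ^ a)⁻¹) (2 / ε) s0 ⌊lg T ^ a⌋₊ (by positivity) hd hdeg
    (inv_nonneg.2 hla) hnum
  rw [← badN_floor hla] at h
  have hX : (0 : ℝ) < Nat.card X := by exact_mod_cast Nat.card_pos
  have hT : (0 : ℝ) ≤ Nat.card T := Nat.cast_nonneg _
  have h2 : (Nat.card X : ℝ) / (2 / ε) = ε / 2 * Nat.card X := by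
    field_simp
  rw [h2] at h
  have h3 : (badN T (lg T ^ a) ((lg T ^ a)⁻¹) : ℝ) * Nat.card X ≤ (ε * Nat.card T) * Nat.card X := by
    refine h.trans ?_
    have h4 := mul_le_mul_of_nonneg_right hcnt hT
    linarith only [h4]
  exact le_of_mul_le_mul_right h3 hX

theorem lg_le {T : Type} {Q n : ℕ} (h : Nat.card T ≤ Q ^ n) : lg T ≤ n * Real.log Q := by
  unfold lg
  rcases (Nat.card T).eq_zero_or_pos with h0 | h0
  · rw [h0, Nat.cast_zero, Real.log_zero]
    have : 0 ≤ Real.log Q := Real.log_natCast_nonneg _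
    positivity
  · rw [← Real.log_pow]
    refine Real.log_le_log (by exact_mod_cast h0) ?_
    exact_mod_cast h

set_option maxHeartbeats 2000000 in
/-- **Unbounded rank.** -/
theorem unb (hcore : CoreS) (hsmall : SmallS) (hbad : BadS) (a : ℕ) (ε c1 : ℝ) (hε : 0 < ε) (hc1 : 1 ≤ c1) :
    ∃ n0 : ℕ, ∀ (K V : Type) [Field K] [Finite K] [AddCommGroup V] [Module K V] [Finite V] (X : Type) [Group X]
      [Finite X] (T : Type) [Group T] [Finite T] (π : X →* T), Function.Surjective π → π.ker ≤ Subgroup.center X →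
      ∀ (τ : X →* (V →ₗ[K] V)), Function.Injective τ → ∀ (σ : K →+* K), (∀ x, σ (σ x) = x) →
      ∀ (s : K[X]), (s = 1 ∨ s = Polynomial.X ^ 2 - 1) → ∀ (c : ℕ → ℝ), (∀ D, 1 ≤ c D) →
      (∀ D, 2 * D < finrank K V → c D ≤ c1) → (∀ D, c D ≤ c1 * Nat.card K) → EL σ τ s c → (s ≠ 1 → ELpm τ c) →
      ∀ d : ℝ, 0 ≤ d → (∀ χ : T → ℂ, IsIrrCharacter T χ → (∃ g, χ g ≠ 1) → d ≤ (χ 1).re) → n0 ≤ finrank K V →
      2 ≤ Nat.card T → Nat.card T ≤ Nat.card K ^ (finrank K V) ^ 2 →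
      (Nat.card K : ℝ) ^ (finrank K V / 8) * Nat.card (ConjClasses X) ≤ d ^ 2 →
      (badN T (lg T ^ a) ((lg T ^ a)⁻¹) : ℝ) ≤ ε * Nat.card T := by
  obtain ⟨A, hA, hcore⟩ := hcore
  obtain ⟨A', hA', hsmall⟩ := hsmall
  obtain ⟨t0, ht0⟩ := numU a A c1 (2 / ε) (ε / 4) hA.le (by linarith) (by positivity) (by positivity)
  refine ⟨(max (max t0 8) (⌈64 * A' * c1 / ε⌉₊ + 1)) ^ 4, ?_⟩
  intro K V _ _ _ _ _ X _ _ T _ _ π hπ hker τ hτ σ hσ s hs c hc hca hcb hEL hELpm d hd hdeg hn hT2 hT hnum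
  set n := finrank K V with hnn
  set t := Nat.sqrt (Nat.sqrt n) with ht
  have ht4 : t ^ 4 ≤ n := by
    have h1 : t ^ 2 ≤ Nat.sqrt n := Nat.sqrt_le' _
    have h2 : (Nat.sqrt n) ^ 2 ≤ n := Nat.sqrt_le' _
    calc t ^ 4 = (t ^ 2) ^ 2 := by ring
      _ ≤ (Nat.sqrt n) ^ 2 := Nat.pow_le_pow_left h1 2
      _ ≤ n := h2
  have ht5 : n + 1 ≤ (t + 1) ^ 4 := by
    have h1 : Nat.sqrt n < (t + 1) ^ 2 := Nat.lt_succ_sqrt' _
    have h2 : n < (Nat.sqrt n + 1) ^ 2 := Nat.lt_succ_sqrt' _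
    calc n + 1 ≤ (Nat.sqrt n + 1) ^ 2 := h2
      _ ≤ ((t + 1) ^ 2) ^ 2 := Nat.pow_le_pow_left h1 2
      _ = (t + 1) ^ 4 := by ring
  have htm : max (max t0 8) (⌈64 * A' * c1 / ε⌉₊ + 1) ≤ t := by
    have h1 : (max (max t0 8) (⌈64 * A' * c1 / ε⌉₊ + 1)) ^ 4 < (t + 1) ^ 4 := by omega
    have h2 := lt_of_pow_lt_pow_left₀ 4 (Nat.zero_le _) h1
    omega
  have ht8 : 8 ≤ t := ((le_max_right _ _).trans (le_max_left _ _)).trans htm
  have htt0 : t0 ≤ t := ((le_max_left _ _).trans (le_max_left _ _)).trans htm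
  have htA : 64 * A' * c1 / ε ≤ t := by
    have h1 : ⌈64 * A' * c1 / ε⌉₊ + 1 ≤ t := (le_max_right _ _).trans htm
    have h2 : 64 * A' * c1 / ε ≤ ⌈64 * A' * c1 / ε⌉₊ := Nat.le_ceil _
    have h3 : ((⌈64 * A' * c1 / ε⌉₊ + 1 : ℕ) : ℝ) ≤ t := by exact_mod_cast h1
    push_cast at h3
    linarith only [h2, h3]
  -- the field
  set Q := Nat.card K with hQ
  have hQ2 : 2 ≤ Q := Finite.one_lt_card
  have hQ2' : (2 : ℝ) ≤ Q := by exact_mod_cast hQ2
  have hQ1 : (1 : ℝ) ≤ Q := by linarith only [hQ2']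
  have hl0 : 0 < lg T := Real.log_pos (by exact_mod_cast hT2)
  have hl : lg T ≤ (n : ℝ) ^ 2 * Real.log Q := by
    have := lg_le hT
    push_cast at this
    exact this
  obtain ⟨hU1, hU2⟩ := ht0 t htt0 Q hQ2' n ht5 (lg T) hl0.le hl
  have hla : 0 < lg T ^ a := pow_pos hl0 a
  -- the set of small dimension
  set s0 : ℕ := t ^ 2 / 8 with hs0
  have hs01 : t ^ 2 ≤ 16 * s0 := by
    have h1 : 64 ≤ t ^ 2 := by nlinarith only [ht8]
    omega
  have hs02 : 64 * s0 ^ 2 ≤ n := by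
    have h1 : 8 * s0 ≤ t ^ 2 := Nat.mul_div_le _ _
    have h2 : (8 * s0) ^ 2 ≤ (t ^ 2) ^ 2 := Nat.pow_le_pow_left h1 2
    calc 64 * s0 ^ 2 = (8 * s0) ^ 2 := by ring
      _ ≤ (t ^ 2) ^ 2 := h2
      _ = t ^ 4 := by ring
      _ ≤ n := ht4
  have ht3 : 512 * t ≤ t ^ 4 := by
    have h1 : 8 ^ 3 ≤ t ^ 3 := Nat.pow_le_pow_left ht8 3
    calc 512 * t ≤ t ^ 3 * t := Nat.mul_le_mul_right t h1
      _ = t ^ 4 := by ring
  have hX : (0 : ℝ) < Nat.card X := by exact_mod_cast Nat.card_pos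
  refine assemble hbad π hπ hker τ hτ d hd hdeg a s0 hε ?_ ?_
  · -- counting
    have h1 : (Nat.card {x : X // ¬ ∃ A : Submodule K V, finrank K A ≤ s0 ∧ GoodPow (τ x) A (⌊lg T ^ a⌋₊ + 1)} : ℝ) ≤
        Nat.card {x : X // ¬ GoodPow (τ x) (smallP (τ x) (Sml t s)) (⌊lg T ^ a⌋₊ + 1)} +
        Nat.card {x : X // s0 < finrank K (smallP (τ x) (Sml t s))} := by
      have h2 := card_or_le (X := X)
        (P := fun x => ¬ ∃ A : Submodule K V, finrank K A ≤ s0 ∧ GoodPow (τ x) A (⌊lg T ^ a⌋₊ + 1))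
        (Q := fun x => ¬ GoodPow (τ x) (smallP (τ x) (Sml t s)) (⌊lg T ^ a⌋₊ + 1))
        (R := fun x => s0 < finrank K (smallP (τ x) (Sml t s))) (fun x hx => by
          by_contra hcon
          push Not at hcon
          exact hx ⟨_, hcon.2, hcon.1⟩)
      exact_mod_cast h2
    have h2 := hcore K V X σ hσ τ s hs c hc hEL (⌊lg T ^ a⌋₊ + 1) t (c1 * (Q : ℝ) ^ (-(t : ℝ) / 16)) (by (clear * - hc1 hQ2; positivity)) (by omega)
      (by omega) (by
        intro D hD1 hD2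
        have hQ0 : (0 : ℝ) < Q := by linarith only [hQ2']
        by_cases hD : 2 * D < n
        · refine mul_le_mul (hca D hD) ?_ (Real.rpow_nonneg hQ0.le _) (by linarith only [hc1])
          refine Real.rpow_le_rpow_of_exponent_le hQ1 ?_
          have : (t : ℝ) ≤ D := by exact_mod_cast hD1
          linarith only [this]
        · have h3 : c D * (Q : ℝ) ^ (-(D : ℝ) / 16) ≤ c1 * Q * (Q : ℝ) ^ (-(D : ℝ) / 16) :=
            mul_le_mul_of_nonneg_right (hcb D) (Real.rpow_nonneg hQ0.le _)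
          refine h3.trans ?_
          rw [mul_assoc]
          refine mul_le_mul_of_nonneg_left ?_ (by linarith only [hc1])
          have h4 : (Q : ℝ) * (Q : ℝ) ^ (-(D : ℝ) / 16) = (Q : ℝ) ^ (1 + -(D : ℝ) / 16) := by
            rw [Real.rpow_add hQ0, Real.rpow_one]
          rw [h4]
          refine Real.rpow_le_rpow_of_exponent_le hQ1 ?_
          have h5 : t ^ 4 ≤ 2 * D := by omega
          have h6 : 512 * t ≤ 2 * D := by omega
          have h7 : (512 : ℝ) * t ≤ 2 * D := by exact_mod_cast h6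
          have h8 : (8 : ℝ) ≤ t := by exact_mod_cast ht8
          linarith only [h7, h8])
    have h3 := markov (fun x : X => finrank K (smallP (τ x) (Sml t s))) s0
    have h4 := hsmall K V X σ hσ τ s hs c c1 hc1 hca hcb hEL hELpm t (by omega) (by omega)
    have h5 : (Nat.card {x : X // ¬ GoodPow (τ x) (smallP (τ x) (Sml t s)) (⌊lg T ^ a⌋₊ + 1)} : ℝ) ≤
        ε / 4 * Nat.card X := by
      refine h2.trans (mul_le_mul_of_nonneg_right (le_trans ?_ hU1) hX.le)
      have h6 : ((⌊lg T ^ a⌋₊ + 1 : ℕ) : ℝ) ≤ lg T ^ a + 1 := by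
        push_cast
        have := Nat.floor_le hla.le
        linarith only [this]
      have h7 : 0 ≤ c1 * (Q : ℝ) ^ (-(t : ℝ) / 16) := by (clear * - hc1 hQ2; positivity)
      have h8 : (((⌊lg T ^ a⌋₊ + 1 : ℕ) : ℝ)) ^ 3 ≤ (lg T ^ a + 1) ^ 3 := pow_le_pow_left₀ (by (clear * -; positivity)) h6 3
      gcongr
    have h6 : (Nat.card {x : X // s0 < finrank K (smallP (τ x) (Sml t s))} : ℝ) ≤ ε / 4 * Nat.card X := by
      have h7 : (t : ℝ) ^ 2 ≤ 16 * s0 := by exact_mod_cast hs01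
      have h8 : 64 * A' * c1 ≤ t * ε := by rwa [div_le_iff₀ hε] at htA
      have h9 : (8 : ℝ) ≤ t := by exact_mod_cast ht8
      have hs0' : (0 : ℝ) < s0 := by nlinarith only [h7, h9]
      have h10 : (Nat.card {x : X // s0 < finrank K (smallP (τ x) (Sml t s))} : ℝ) * s0 ≤
          (ε / 4 * Nat.card X) * s0 := by
        refine (h3.trans h4).trans ?_
        have h11 : A' * c1 * t ≤ ε / 4 * s0 := by nlinarith only [hε, h7, h8]
        have h12 := mul_le_mul_of_nonneg_right h11 hX.le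
        linarith only [h12]
      exact le_of_mul_le_mul_right h10 hs0'
    linarith only [h1, h5, h6]
  · -- the numbers
    have hQ0 : (0 : ℝ) < Q := by linarith only [hQ2']
    rw [mul_pow, inv_pow, inv_mul_eq_div, le_div_iff₀ (by positivity)]
    refine le_trans ?_ hnum
    have hk : (0 : ℝ) ≤ Nat.card (ConjClasses X) := Nat.cast_nonneg _
    have h1 : (Q : ℝ) ^ (s0 ^ 2) * (2 / ε * (lg T ^ a) ^ 2) ≤ (Q : ℝ) ^ (n / 8) := by
      have h2 : (Q : ℝ) ^ (s0 ^ 2) * (2 / ε * (lg T ^ a) ^ 2) ≤ (Q : ℝ) ^ (s0 ^ 2) * (Q : ℝ) ^ t :=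
        mul_le_mul_of_nonneg_left hU2 (by (clear * - hQ2; positivity))
      refine h2.trans ?_
      rw [← pow_add]
      have key : ∀ a b n : ℕ, 64 * a ≤ n → 512 * b ≤ n → a + b ≤ n / 8 := by
        intro a b n h1 h2
        omega
      exact pow_le_pow_right₀ hQ1 (key _ _ _ hs02 (ht3.trans ht4))
    have h3 := mul_le_mul_of_nonneg_right h1 hk
    linarith only [h3]

/-- **Bounded rank.** -/
theorem bdd (hbad : BadS) (a n1 : ℕ) (ε C : ℝ) (hε : 0 < ε) (hC : 0 ≤ C) :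
    ∃ q0 : ℕ, ∀ (K V : Type) [Field K] [Finite K] [AddCommGroup V] [Module K V] [Finite V] (X : Type) [Group X]
      [Finite X] (T : Type) [Group T] [Finite T] (π : X →* T), Function.Surjective π → π.ker ≤ Subgroup.center X →
      ∀ (τ : X →* (V →ₗ[K] V)), Function.Injective τ →
      ∀ d : ℝ, 0 ≤ d → (∀ χ : T → ℂ, IsIrrCharacter T χ → (∃ g, χ g ≠ 1) → d ≤ (χ 1).re) → q0 ≤ Nat.card K →
      2 ≤ Nat.card T → Nat.card T ≤ Nat.card K ^ n1 ^ 2 → ∀ s0 : ℕ,
      (∀ k : ℕ, 1 ≤ k → (Nat.card {x : X // ¬ ∃ A : Submodule K V, finrank K A ≤ s0 ∧ GoodPow (τ x) A k} : ℝ) ≤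
        C * k ^ 3 * (Nat.card K : ℝ) ^ (-(1 : ℝ) / 16) * Nat.card X) →
      (Nat.card K : ℝ) ^ (s0 ^ 2) * Nat.card (ConjClasses X) * Real.sqrt (Nat.card K) ≤ C * d ^ 2 →
      (badN T (lg T ^ a) ((lg T ^ a)⁻¹) : ℝ) ≤ ε * Nat.card T := by
  obtain ⟨q0, hq0⟩ := numB a n1 C (2 / ε * C) (ε / 2) hC (by positivity) (by positivity)
  refine ⟨q0, ?_⟩
  intro K V _ _ _ _ _ X _ _ T _ _ π hπ hker τ hτ d hd hdeg hq hT2 hT s0 hcnt hnum
  set Q := Nat.card K with hQ
  have hQ2 : 2 ≤ Q := Finite.one_lt_card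
  have hQ0 : (0 : ℝ) < Q := by
    have : 0 < Q := by omega
    exact_mod_cast this
  have hl0 : 0 < lg T := Real.log_pos (by exact_mod_cast hT2)
  have hl : lg T ≤ (n1 : ℝ) ^ 2 * Real.log Q := by
    have := lg_le hT
    push_cast at this
    exact this
  obtain ⟨hB1, hB2⟩ := hq0 Q hq (lg T) hl0.le hl
  have hla : 0 < lg T ^ a := pow_pos hl0 a
  have hX : (0 : ℝ) < Nat.card X := by exact_mod_cast Nat.card_pos
  refine assemble hbad π hπ hker τ hτ d hd hdeg a s0 hε ?_ ?_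
  · refine (hcnt (⌊lg T ^ a⌋₊ + 1) (by omega)).trans (mul_le_mul_of_nonneg_right (le_trans ?_ hB1) hX.le)
    have h6 : ((⌊lg T ^ a⌋₊ + 1 : ℕ) : ℝ) ≤ lg T ^ a + 1 := by
      push_cast
      have := Nat.floor_le hla.le
      linarith only [this]
    have h7 : 0 ≤ (Q : ℝ) ^ (-(1 : ℝ) / 16) := Real.rpow_nonneg hQ0.le _
    have h8 : (((⌊lg T ^ a⌋₊ + 1 : ℕ) : ℝ)) ^ 3 ≤ (lg T ^ a + 1) ^ 3 := pow_le_pow_left₀ (by positivity) h6 3
    gcongr
  · rw [mul_pow, inv_pow, inv_mul_eq_div, le_div_iff₀ (by positivity)]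
    have hk : (0 : ℝ) ≤ Nat.card (ConjClasses X) := Nat.cast_nonneg _
    have hs : 0 < Real.sqrt Q := Real.sqrt_pos.2 hQ0
    rcases hC.eq_or_lt with hC0 | hC0
    · -- `C = 0`
      rw [← hC0, zero_mul] at hnum
      have h1 : (0 : ℝ) < Nat.card (ConjClasses X) := by exact_mod_cast Nat.card_pos
      have h2 : 0 < (Q : ℝ) ^ (s0 ^ 2) * Nat.card (ConjClasses X) * Real.sqrt Q := by (clear * - hQ2 h1; positivity)
      linarith only [hnum, h2]
    · have h1 : (2 / ε * (lg T ^ a) ^ 2) * C ≤ Real.sqrt Q := by linarith only [hB2]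
      have h2 : (Q : ℝ) ^ (s0 ^ 2) * Nat.card (ConjClasses X) * ((2 / ε * (lg T ^ a) ^ 2) * C) ≤ C * d ^ 2 :=
        (mul_le_mul_of_nonneg_left h1 (by (clear * -; positivity))).trans hnum
      refine le_of_mul_le_mul_left ?_ hC0
      linarith only [h2]

end Cfsg.Agent.H1.Rg
end

-- part: H466/RG/Coset
section
/-!
# The coset lemma (S5714, TEAM RG, A1; helper466)
-/

set_option autoImplicit false

namespace Cfsg.Agent.H466.RG

open Cfsg Cfsg.Agent.H178.RG Cfsg.Agent.Characters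

/-- nontrivial irreducible characters have degree at least `d` -/
theorem le_degree {T : Type} [Group T] [Finite T] {d : ℕ} (hdeg : H122.MinDeg T d) {χ : T → ℂ}
    (hχ : IsIrrCharacter T χ) (h1 : χ ≠ 1) : ∃ n : ℕ, d ≤ n ∧ χ 1 = n := by
  obtain ⟨n, ρ, hρ, rfl⟩ := hχ
  refine ⟨n, ?_, by rw [Representation.char_one, Module.finrank_fin_fun]⟩
  have h2 := hdeg (Fin n → ℂ) ρ (by
    by_contra hcon
    push Not at hcon
    apply h1
    -- `ρ` is trivial
    have h3 : ∀ g, ρ.character g = ρ.character 1 := by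
      intro g
      change LinearMap.trace ℂ _ (ρ g) = LinearMap.trace ℂ _ (ρ 1)
      rw [hcon g, hcon 1]
    have hT : Fintype T := Fintype.ofFinite T
    have h4 := Central.sum_char_mul_char_inv ρ hρ
    simp only [h3] at h4
    rw [Finset.sum_const, Finset.card_univ, nsmul_eq_mul, ← Nat.card_eq_fintype_card] at h4
    have hne : (Nat.card T : ℂ) ≠ 0 := by exact_mod_cast Nat.card_pos.ne'
    have h5 : ρ.character 1 * ρ.character 1 = 1 := by
      apply mul_left_cancel₀ hne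
      rw [h4, mul_one]
    rw [Representation.char_one, Module.finrank_fin_fun] at h5
    have h6 : n * n = 1 := by exact_mod_cast h5
    have h7 : n = 1 := Nat.eq_one_of_mul_eq_one_right h6
    ext g
    rw [h3, Representation.char_one, Module.finrank_fin_fun, h7]
    simp)
  rwa [Module.finrank_fin_fun] at h2

end Cfsg.Agent.H466.RG
end

-- part: H1/Rg/Orth
section
/-!
# S5714: the two regimes for orthogonal groups (helper1)
-/

set_option autoImplicit false

namespace Cfsg.Agent.H1.Rg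

open Cfsg Cfsg.Agent.OrdDiv Cfsg.Agent.H436 Cfsg.Agent.H141.Rg Polynomial Module Cfsg.Agent.H122

/-- the second half of the statement `el_om` -/
def ElOmS : Prop :=
  ∀ (ι : Type) [Fintype ι] [DecidableEq ι] (F : Type) [Field F] [Finite F] (Q : QuadraticForm F (ι → F)),
    (QuadraticMap.polarBilin Q).Nondegenerate → 6 ≤ Fintype.card ι →
    EL (RingHom.id F) (omAct F Q) (Polynomial.X ^ 2 - 1) (fun _ => 4) ∧ ELpm (omAct F Q) (fun _ => 4) ∧
      ELsh (omAct F Q) 4

/-- the minimal degree for characters -/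
theorem deg_of_minDeg {T : Type} [Group T] [Finite T] {b : ℕ} (h : MinDeg T b) (χ : T → ℂ) (hχ : IsIrrCharacter T χ)
    (h1 : ∃ g, χ g ≠ 1) : (b : ℝ) ≤ (χ 1).re := by
  obtain ⟨n, hn, hn1⟩ := H466.RG.le_degree h hχ (by
    rintro rfl
    obtain ⟨g, hg⟩ := h1
    exact hg rfl)
  rw [hn1, Complex.natCast_re]
  exact_mod_cast hn

/-- the data of an orthogonal group -/
structure OD {ι : Type} [Fintype ι] [DecidableEq ι] (F : Type) [Field F] (Q : QuadraticForm F (ι → F)) (T : Type)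
    [Group T] (m : ℕ) : Prop where
  nd : (QuadraticMap.polarBilin Q).Nondegenerate
  six : 6 ≤ Fintype.card ι
  le1 : 2 * m ≤ Fintype.card ι
  le2 : Fintype.card ι ≤ 2 * m + 1
  le3 : m + 5 ≤ 2 * (Fintype.card ι - 3)
  hom : ∃ π : Omega F Q →* T, Function.Surjective π ∧ π.ker ≤ Subgroup.center (Omega F Q)
  cls : Nat.card (ConjClasses (Omega F Q)) ≤ 60 * Nat.card F ^ m
  deg1 : MinDeg T (Nat.card F ^ (m - 2) - 1)
  deg2 : 4 ≤ Nat.card F → MinDeg T (Nat.card F ^ (Fintype.card ι - 3))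

theorem omAct_injective {ι : Type} [Fintype ι] [DecidableEq ι] (F : Type) [Field F] (Q : (ι → F) → F) :
    Function.Injective (omAct F Q) := by
  intro x y h
  have h1 : Matrix.toLin' ((x.1.1 : Matrix.GeneralLinearGroup ι F) : Matrix ι ι F) =
    Matrix.toLin' ((y.1.1 : Matrix.GeneralLinearGroup ι F) : Matrix ι ι F) := h
  exact Subtype.ext (Subtype.ext (Units.ext (Matrix.toLin'.injective h1)))

theorem card_om_le {ι : Type} [Fintype ι] [DecidableEq ι] (F : Type) [Field F] [Finite F] (Q : (ι → F) → F) :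
    Nat.card (Omega F Q) ≤ Nat.card F ^ (Fintype.card ι) ^ 2 := by
  have h : Nat.card (Omega F Q) ≤ Nat.card (Matrix ι ι F) := by
    refine Nat.card_le_card_of_injective
      (fun x => ((x.1.1 : Matrix.GeneralLinearGroup ι F) : Matrix ι ι F)) ?_
    intro x y h
    exact Subtype.ext (Subtype.ext (Units.ext h))
  refine h.trans (le_of_eq ?_)
  have h1 : Nat.card (Matrix ι ι F) = (Nat.card F ^ Fintype.card ι) ^ Fintype.card ι := by
    change Nat.card (ι → ι → F) = _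
    rw [Nat.card_fun, Nat.card_fun, Nat.card_eq_fintype_card (α := ι)]
  rw [h1, ← pow_mul, sq]

set_option maxHeartbeats 1000000 in
/-- **Both regimes.** -/
theorem main (hcore : CoreS) (hsmall : SmallS) (hsmo : SmallOS) (hbad : BadS) (hel : ElOmS) (a : ℕ) (ε : ℝ)
    (hε : 0 < ε) :
    ∃ D : ℕ, ∀ (ι : Type) [Fintype ι] [DecidableEq ι] (F : Type) [Field F] [Finite F] (Q : QuadraticForm F (ι → F))
      (T : Type) [Group T] [Finite T] (m : ℕ), OD F Q T m → D ≤ Nat.card T →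
      (badN T (lg T ^ a) ((lg T ^ a)⁻¹) : ℝ) ≤ ε * Nat.card T := by
  obtain ⟨n0, hU⟩ := unb hcore hsmall hbad a ε 4 hε (by norm_num)
  obtain ⟨A, hA, hcore⟩ := hcore
  obtain ⟨A', hA', hsmo⟩ := hsmo
  set n1 : ℕ := max n0 35 with hn1
  obtain ⟨q0, hB⟩ := bdd hbad a n1 ε (4 * A * ((n1 : ℝ) + 1) ^ 3 + 4 * A' + 60) hε (by positivity)
  refine ⟨(q0 + 4) ^ n1 ^ 2 + 2, ?_⟩
  intro ι _ _ F _ _ Q T _ _ m hD hT
  obtain ⟨π, hπ, hker⟩ := hD.hom
  obtain ⟨h1, h2, h3⟩ := hel ι F Q hD.nd hD.six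
  have hq2 : 2 ≤ Nat.card F := Finite.one_lt_card
  have hq2' : (2 : ℝ) ≤ Nat.card F := by exact_mod_cast hq2
  have hq0 : (0 : ℝ) < Nat.card F := by linarith only [hq2']
  have hT2 : 2 ≤ Nat.card T := by omega
  have hTX : Nat.card T ≤ Nat.card F ^ (Fintype.card ι) ^ 2 :=
    (Nat.card_le_card_of_surjective π hπ).trans (card_om_le F Q)
  have hfr : finrank F (ι → F) = Fintype.card ι := finrank_fintype_fun_eq_card F
  have hle3 := hD.le3
  have hle2 := hD.le2
  have hle1 := hD.le1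
  by_cases hn : n1 ≤ Fintype.card ι
  · -- unbounded rank
    have hm17 : 17 ≤ m := by
      have : 35 ≤ Fintype.card ι := (le_max_right _ _).trans hn
      omega
    refine hU F (ι → F) (Omega F Q) T π hπ hker (omAct F Q) (omAct_injective F Q) (RingHom.id F) (fun _ => rfl)
      (Polynomial.X ^ 2 - 1) (Or.inr rfl) (fun _ => 4) (fun _ => by norm_num) (fun _ _ => le_refl _)
      (fun _ => by linarith only [hq2']) h1 (fun _ => h2) ((Nat.card F ^ (m - 2) - 1 : ℕ) : ℝ) (Nat.cast_nonneg _)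
      (deg_of_minDeg hD.deg1) (by rw [hfr]; exact (le_max_left _ _).trans hn) hT2 (by rw [hfr]; exact hTX) ?_
    rw [hfr]
    have h4 : Nat.card F ^ (m - 3) ≤ Nat.card F ^ (m - 2) - 1 := by
      have h5 : Nat.card F ^ (m - 2) = Nat.card F ^ (m - 3) * Nat.card F := by
        rw [← pow_succ]
        congr 1
        omega
      have h6 : 1 ≤ Nat.card F ^ (m - 3) := Nat.one_le_pow _ _ (by omega)
      have h7 : Nat.card F ^ (m - 3) * 2 ≤ Nat.card F ^ (m - 3) * Nat.card F := Nat.mul_le_mul_left _ hq2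
      omega
    have h5 : Nat.card F ^ (Fintype.card ι / 8) * Nat.card (ConjClasses (Omega F Q)) ≤
        (Nat.card F ^ (m - 2) - 1) ^ 2 := by
      calc Nat.card F ^ (Fintype.card ι / 8) * Nat.card (ConjClasses (Omega F Q))
          ≤ Nat.card F ^ (Fintype.card ι / 8) * (60 * Nat.card F ^ m) := Nat.mul_le_mul_left _ hD.cls
        _ ≤ Nat.card F ^ (Fintype.card ι / 8) * (Nat.card F ^ 6 * Nat.card F ^ m) := by
            have : 2 ^ 6 ≤ Nat.card F ^ 6 := Nat.pow_le_pow_left hq2 6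
            exact Nat.mul_le_mul_left _ (Nat.mul_le_mul_right _ (by omega))
        _ = Nat.card F ^ (Fintype.card ι / 8 + (6 + m)) := by rw [← pow_add, ← pow_add]
        _ ≤ Nat.card F ^ ((m - 3) * 2) := Nat.pow_le_pow_right (by omega) (by omega)
        _ = (Nat.card F ^ (m - 3)) ^ 2 := by rw [pow_mul]
        _ ≤ _ := Nat.pow_le_pow_left h4 2
    exact_mod_cast h5
  · -- bounded rank
    have hn' : Fintype.card ι ≤ n1 := by omega
    have hq : q0 + 4 ≤ Nat.card F := by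
      by_contra hcon
      have h4 : Nat.card T ≤ (q0 + 4) ^ n1 ^ 2 := by
        refine hTX.trans ((Nat.pow_le_pow_left (by omega : Nat.card F ≤ q0 + 4) _).trans ?_)
        exact Nat.pow_le_pow_right (by omega) (Nat.pow_le_pow_left hn' 2)
      omega
    have hX : (0 : ℝ) < Nat.card (Omega F Q) := by exact_mod_cast Nat.card_pos
    refine hB F (ι → F) (Omega F Q) T π hπ hker (omAct F Q) (omAct_injective F Q)
      ((Nat.card F ^ (Fintype.card ι - 3) : ℕ) : ℝ) (Nat.cast_nonneg _) (deg_of_minDeg (hD.deg2 (by omega)))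
      (by omega) hT2 (hTX.trans (Nat.pow_le_pow_right (by omega) (Nat.pow_le_pow_left hn' 2))) 2 ?_ ?_
    · intro k hk
      have hk' : (1 : ℝ) ≤ k := by exact_mod_cast hk
      have h4 := card_or_le (X := Omega F Q)
        (P := fun x => ¬ ∃ A : Submodule F (ι → F), finrank F A ≤ 2 ∧ GoodPow (omAct F Q x) A k)
        (Q := fun x => ¬ GoodPow (omAct F Q x) (smallP (omAct F Q x) (Sml 1 (Polynomial.X ^ 2 - 1))) k)
        (R := fun x => 2 < finrank F (smallP (omAct F Q x) (Sml 1 (Polynomial.X ^ 2 - 1)))) (fun x hx => by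
          by_contra hcon
          push Not at hcon
          exact hx ⟨_, hcon.2, hcon.1⟩)
      have h4' : (Nat.card {x : Omega F Q // ¬ ∃ A : Submodule F (ι → F), finrank F A ≤ 2 ∧
          GoodPow (omAct F Q x) A k} : ℝ) ≤
          Nat.card {x : Omega F Q // ¬ GoodPow (omAct F Q x) (smallP (omAct F Q x) (Sml 1 (Polynomial.X ^ 2 - 1))) k} +
          Nat.card {x : Omega F Q // 2 < finrank F (smallP (omAct F Q x) (Sml 1 (Polynomial.X ^ 2 - 1)))} := by
        exact_mod_cast h4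
      have h5 := hcore F (ι → F) (Omega F Q) (RingHom.id F) (fun _ => rfl) (omAct F Q) (Polynomial.X ^ 2 - 1)
        (Or.inr rfl) (fun _ => 4) (fun _ => by norm_num) h1 k 1 (4 * (Nat.card F : ℝ) ^ (-(1 : ℝ) / 16)) (by positivity) hk
        (le_refl _) (by
          intro D hD1 _
          refine mul_le_mul_of_nonneg_left ?_ (by norm_num)
          refine Real.rpow_le_rpow_of_exponent_le (by linarith only [hq2']) ?_
          have : (1 : ℝ) ≤ D := by exact_mod_cast hD1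
          linarith only [this])
      have h6 := hsmo F (ι → F) (Omega F Q) (omAct F Q) 4 (by norm_num) h3
      rw [hfr] at h5
      set P : ℝ := (Nat.card F : ℝ) ^ (-(1 : ℝ) / 16) with hP
      have hP0 : 0 < P := Real.rpow_pos_of_pos hq0 _
      have hPq : (Nat.card F : ℝ)⁻¹ ≤ P := by
        rw [hP, ← Real.rpow_neg_one]
        exact Real.rpow_le_rpow_of_exponent_le (by linarith only [hq2']) (by norm_num)
      have h7 : A * (k : ℝ) ^ 3 * ((Fintype.card ι : ℝ) + 1) ^ 3 * (4 * P) ≤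
          4 * A * ((n1 : ℝ) + 1) ^ 3 * k ^ 3 * P := by
        have h8 : ((Fintype.card ι : ℝ) + 1) ^ 3 ≤ ((n1 : ℝ) + 1) ^ 3 := by
          have : (Fintype.card ι : ℝ) ≤ n1 := by exact_mod_cast hn'
          gcongr
        have h9 : A * (k : ℝ) ^ 3 * ((Fintype.card ι : ℝ) + 1) ^ 3 * (4 * P) ≤
          A * (k : ℝ) ^ 3 * ((n1 : ℝ) + 1) ^ 3 * (4 * P) := by gcongr
        linarith only [h9]
      have h8 : A' * 4 / Nat.card F ≤ 4 * A' * k ^ 3 * P := by
        rw [div_eq_mul_inv]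
        have h9 : (1 : ℝ) ≤ (k : ℝ) ^ 3 := one_le_pow₀ hk'
        have h10 : A' * 4 * (Nat.card F : ℝ)⁻¹ ≤ A' * 4 * P := mul_le_mul_of_nonneg_left hPq (by positivity)
        have h11 : A' * 4 * P ≤ A' * 4 * P * (k : ℝ) ^ 3 := le_mul_of_one_le_right (by positivity) h9
        linarith only [h10, h11]
      have h9 : 0 ≤ 60 * (k : ℝ) ^ 3 * P := by (clear * - hq2; positivity)
      have h10 := mul_le_mul_of_nonneg_right h7 hX.le
      have h11 := mul_le_mul_of_nonneg_right h8 hX.le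
      have h12 := mul_nonneg h9 hX.le
      calc (Nat.card {x : Omega F Q // ¬ ∃ A : Submodule F (ι → F), finrank F A ≤ 2 ∧
          GoodPow (omAct F Q x) A k} : ℝ) ≤ _ := h4'
        _ ≤ A * (k : ℝ) ^ 3 * ((Fintype.card ι : ℝ) + 1) ^ 3 * (4 * P) * Nat.card (Omega F Q) +
            A' * 4 / Nat.card F * Nat.card (Omega F Q) := add_le_add h5 h6
        _ ≤ (4 * A * ((n1 : ℝ) + 1) ^ 3 + 4 * A' + 60) * k ^ 3 * P * Nat.card (Omega F Q) := by linarith only [h10, h11, h12]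
    · have hcl : (Nat.card (ConjClasses (Omega F Q)) : ℝ) ≤ 60 * (Nat.card F : ℝ) ^ m := by
        exact_mod_cast hD.cls
      have hsq : Real.sqrt (Nat.card F) ≤ Nat.card F := by
        rw [Real.sqrt_le_left hq0.le]
        nlinarith only [hq2']
      have h4 : (Nat.card F : ℝ) ^ (2 ^ 2) * Nat.card (ConjClasses (Omega F Q)) * Real.sqrt (Nat.card F) ≤
          (Nat.card F : ℝ) ^ (2 ^ 2) * (60 * (Nat.card F : ℝ) ^ m) * Nat.card F := by gcongr
      have h5 : (Nat.card F : ℝ) ^ (2 ^ 2) * (60 * (Nat.card F : ℝ) ^ m) * Nat.card F =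
          60 * (Nat.card F : ℝ) ^ (m + 5) := by ring
      have h6 : (Nat.card F : ℝ) ^ (m + 5) ≤ (((Nat.card F ^ (Fintype.card ι - 3) : ℕ) : ℝ)) ^ 2 := by
        push_cast
        rw [← pow_mul]
        exact pow_le_pow_right₀ (by linarith only [hq2']) (by omega)
      have h7 : 0 ≤ (((Nat.card F ^ (Fintype.card ι - 3) : ℕ) : ℝ)) ^ 2 := by positivity
      have h8 : 0 ≤ (4 * A * ((n1 : ℝ) + 1) ^ 3 + 4 * A') * (((Nat.card F ^ (Fintype.card ι - 3) : ℕ) : ℝ)) ^ 2 := by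
        (clear * - hA hA' hq2; positivity)
      linarith only [h4, h5, h6, h8]

end Cfsg.Agent.H1.Rg
end

-- part: H1/Rg/OrthRows
section
/-!
# S5714: `FamP` for the orthogonal groups (helper1)

`famP_oodd`, `famP_oplus`, `famP_ominus`, from the statements `CoreS`, `SmallS`, `SmallOS`, `BadS`, `ElOmS`.
-/

set_option autoImplicit false

namespace Cfsg.Agent.H1.Rg

open Cfsg Cfsg.Agent.OrdDiv Cfsg.Agent.H436 Cfsg.Agent.H141.Rg Polynomial Module Cfsg.Agent.H122
open Cfsg.Agent.LieClassical.OmegaReindex QuadraticMap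

/-- nontrivial representations of simple groups are faithful -/
theorem minDeg_of_bd {T : Type} [Group T] [IsSimpleGroup T] {r b : ℕ} (h : H912.Bd.Bd ℂ r b T) : MinDeg T b := by
  intro M _ _ _ ρ hρ
  refine h _ ⟨T, inferInstance, MonoidHom.id T,
    MonoidHom.toHomUnits (((LinearMap.toMatrixAlgEquiv (finBasis ℂ M)).toAlgHom.toMonoidHom).comp ρ),
    fun t => ⟨t, rfl⟩, ?_, ?_, ?_⟩
  · intro x hx y
    have hx' : x = 1 := hx
    rw [hx', one_mul, mul_one]
  · have : (MonoidHom.id T).ker = ⊥ := (MonoidHom.ker_eq_bot_iff _).2 fun _ _ h => h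
    rw [this, Subgroup.card_bot]
    exact Nat.coprime_one_left r
  · intro x hx
    have h1 : (LinearMap.toMatrixAlgEquiv (finBasis ℂ M)) (ρ x) = 1 := congrArg Units.val hx
    have h2 : ρ x = 1 := (LinearMap.toMatrixAlgEquiv (finBasis ℂ M)).injective (h1.trans (map_one _).symm)
    have h3 : x ∈ MonoidHom.ker ρ := h2
    have h4 : (MonoidHom.ker ρ) = ⊥ ∨ (MonoidHom.ker ρ) = ⊤ := (MonoidHom.normal_ker ρ).eq_bot_or_eq_top
    rcases h4 with h4 | h4
    · rw [h4, Subgroup.mem_bot] at h3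
      exact h3
    · obtain ⟨g, hg⟩ := hρ
      exact absurd (show g ∈ MonoidHom.ker ρ from h4 ▸ Subgroup.mem_top g) hg

section

variable {ι : Type} [Fintype ι] [DecidableEq ι] {F : Type} [Field F] [Fintype F]

/-- the index of `Ω` -/
theorem index_le {Q : QuadraticForm F (ι → F)} (hQ : (polarBilin Q).Nondegenerate) (h5 : 5 ≤ Fintype.card ι) :
    (Cfsg.Omega F (⇑Q)).index ≤ 4 := by
  by_cases h2 : (2 : F) = 0
  · have hch : CharP F 2 := CharTwo.of_one_ne_zero_of_two_eq_zero one_ne_zero h2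
    rw [index_omega_of_fin rfl (fun Q' hQ' => Cfsg.Agent.S0789.result (by omega) Q' hQ' (Or.inr (by omega))) Q hQ]
    norm_num
  · rw [index_omega_of_fin rfl (fun Q' hQ' => Cfsg.Agent.S0788.result h2 (by omega) Q' hQ') Q hQ]

theorem cls_le {Q : QuadraticForm F (ι → F)} (hQ : (polarBilin Q).Nondegenerate) (h5 : 5 ≤ Fintype.card ι) {m : ℕ}
    (h : Nat.card (ConjClasses (Cfsg.isometryGroup F (⇑Q))) ≤ 15 * Nat.card F ^ m) :
    Nat.card (ConjClasses (Cfsg.Omega F (⇑Q))) ≤ 60 * Nat.card F ^ m := by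
  refine (H540.ClassNum.le_index_mul (Cfsg.Omega F (⇑Q))).trans ?_
  calc (Cfsg.Omega F (⇑Q)).index * Nat.card (ConjClasses (Cfsg.isometryGroup F (⇑Q)))
      ≤ 4 * (15 * Nat.card F ^ m) := Nat.mul_le_mul (index_le hQ h5) h
    _ = 60 * Nat.card F ^ m := by ring

omit [Fintype F] in
theorem hom_of {Q : (ι → F) → F} {T : Type} [Group T] (e : T ≃* POmega F Q) :
    ∃ π : Omega F Q →* T, Function.Surjective π ∧ π.ker ≤ Subgroup.center (Omega F Q) := by
  refine ⟨e.symm.toMonoidHom.comp (QuotientGroup.mk' (Subgroup.center (Omega F Q))),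
    e.symm.surjective.comp (QuotientGroup.mk'_surjective _), ?_⟩
  intro x hx
  have h1 : e.symm (QuotientGroup.mk' (Subgroup.center (Omega F Q)) x) = 1 := hx
  rw [MulEquiv.map_eq_one_iff] at h1
  exact (QuotientGroup.eq_one_iff x).1 h1

theorem exists_char (F : Type) [Field F] [Fintype F] : ∃ r : ℕ, r.Prime ∧ CharP F r := by
  obtain ⟨r, hr⟩ := CharP.exists F
  obtain ⟨n, hrp, hn⟩ := FiniteField.card F r
  exact ⟨r, hrp, hr⟩

end

section rows

variable {F : Type} [Field F] [Fintype F] {T : Type} [Group T] [IsSimpleGroup T]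

theorem prime_cast_ne {r : ℕ} (hr : r.Prime) : (r : ℂ) ≠ 0 := Nat.cast_ne_zero.2 hr.ne_zero

/-- the minimal degree for `Ω⁺` -/
theorem minDeg_plus (hF : 4 ≤ Fintype.card F) {m : ℕ} (hm : 4 ≤ m) :
    MinDeg (Omega F (⇑(quadPlus m F))) (Fintype.card F ^ (2 * m - 3)) := by
  classical
  obtain ⟨k, rfl⟩ : ∃ k, m = k + 3 := ⟨m - 3, by omega⟩
  have hG : Cfsg.Agent.LieClassical.OrthTrans.Good (Cfsg.Agent.LieClassical.OrthForms.plusForm (k + 3) F) :=
    Cfsg.Agent.LieClassical.OrthFinite.good_of_finite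
      (Cfsg.Agent.LieClassical.OrthForms.nondeg_plusForm (k + 3) F) (by
        rw [Module.finrank_fintype_fun_eq_card, Fintype.card_sum, Fintype.card_fin]; omega)
  obtain ⟨e⟩ := Cfsg.Agent.H122.OrthPlus.omega_equiv hG
  rw [Cfsg.Agent.LieClassical.OrthForms.coe_plusForm] at e
  rw [coe_quadPlus]
  refine ((Cfsg.Agent.H122.OrthPlus.minDeg_plus hF k).congr e).mono ?_
  rw [← Cfsg.Agent.H122.OrthPlus.bound_plus (by omega)]
  set q := Fintype.card F with hq
  have h1 : 1 ≤ q ^ k := Nat.one_le_pow _ _ (by omega)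
  have h4 : 4 ^ 2 ≤ q ^ 2 := Nat.pow_le_pow_left hF 2
  rw [Nat.le_div_iff_mul_le (by omega)]
  have e1 : 2 * (k + 3) - 3 = 2 * k + 3 := by omega
  rw [e1, show k + 3 - 1 = k + 2 by omega]
  have h5 : 1 ≤ q ^ (k + 3) := Nat.one_le_pow _ _ (by omega)
  zify [h5, (by omega : 1 ≤ q ^ 2)]
  have h6 : (1 : ℤ) ≤ (q : ℤ) ^ k := by exact_mod_cast h1
  have h7 : (4 : ℤ) ≤ q := by exact_mod_cast hF
  have e2 : (q : ℤ) ^ (2 * k + 3) = ((q : ℤ) ^ k) ^ 2 * q ^ 3 := by rw [pow_add, mul_comm 2 k, pow_mul]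
  have e3 : (q : ℤ) ^ (k + 3) = (q : ℤ) ^ k * q ^ 3 := pow_add _ _ _
  have e4 : (q : ℤ) ^ (k + 2) = (q : ℤ) ^ k * q ^ 2 := pow_add _ _ _
  rw [e2, e3, e4]
  set A := (q : ℤ) ^ k
  have h8 : 0 ≤ (A - 1) * q ^ 4 := mul_nonneg (by linarith only [h1]) (by positivity)
  have h9 : 0 ≤ (A ^ 2 * q ^ 3 - A * q ^ 2) := by
    have : A * q ^ 2 ≤ A ^ 2 * q ^ 3 := by
      have h10 : A ≤ A ^ 2 := by nlinarith only []
      have h11 : (q : ℤ) ^ 2 ≤ q ^ 3 := pow_le_pow_right₀ (by linarith only [hF]) (by norm_num)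
      have h12 : 0 ≤ A ^ 2 := sq_nonneg A
      have h13 : (0 : ℤ) ≤ q ^ 2 := by positivity
      exact mul_le_mul h10 h11 h13 h12
    linarith only [this]
  have h10 : (q : ℤ) ≤ q ^ 4 := le_self_pow₀ (by linarith only [hF]) (by norm_num)
  linarith only [h8, h9, h10]

/-- the minimal degree for `Ω⁻` -/
theorem minDeg_minus {m : ℕ} (hm : 4 ≤ m) (a b : F)
    (hab : ∀ z₁ z₂ : F, z₁ ^ 2 + a * z₁ * z₂ + b * z₂ ^ 2 = 0 → z₁ = 0 ∧ z₂ = 0) :
    MinDeg (Omega F (⇑(quadMinus (m - 1) F a b))) (Fintype.card F ^ (2 * m - 3)) := by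
  classical
  obtain ⟨k, rfl⟩ : ∃ k, m = k + 4 := ⟨m - 4, by omega⟩
  rw [show k + 4 - 1 = k + 3 by omega]
  have hG : Cfsg.Agent.LieClassical.OrthTrans.Good (Cfsg.Agent.LieClassical.OrthForms.minusForm (k + 3) F a b) :=
    Cfsg.Agent.LieClassical.OrthFinite.good_of_finite
      (Cfsg.Agent.LieClassical.OrthForms.nondeg_minusForm (k + 3) F a b hab) (by
        rw [Module.finrank_fintype_fun_eq_card, Fintype.card_sum, Fintype.card_sum, Fintype.card_fin,
          Fintype.card_fin]; omega)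
  obtain ⟨e⟩ := Cfsg.Agent.H122.OrthPlus.omega_equiv hG
  rw [Cfsg.Agent.LieClassical.OrthForms.coe_minusForm] at e
  rw [coe_quadMinus]
  refine ((Cfsg.Agent.H122.OrthMinus.minDeg_minus a b hab k).congr e).mono ?_
  have hF2 : 2 ≤ Fintype.card F := Fintype.one_lt_card
  rw [← Cfsg.Agent.H122.OrthMinus.bound_minus hF2]
  set q := Fintype.card F with hq
  have h1 : 1 ≤ q ^ k := Nat.one_le_pow _ _ (by omega)
  have h4 : 2 ^ 2 ≤ q ^ 2 := Nat.pow_le_pow_left hF2 2
  rw [Nat.le_div_iff_mul_le (by omega)]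
  have e1 : 2 * (k + 4) - 3 = 2 * k + 5 := by omega
  rw [e1, show k + 4 - 1 = k + 3 by omega]
  have h5 : q ≤ q ^ (k + 3) := Nat.le_self_pow (by omega) q
  zify [h5, (by omega : 1 ≤ q ^ 2)]
  have h6 : (1 : ℤ) ≤ (q : ℤ) ^ k := by exact_mod_cast h1
  have h7 : (2 : ℤ) ≤ q := by exact_mod_cast hF2
  have e2 : (q : ℤ) ^ (2 * k + 5) = ((q : ℤ) ^ k) ^ 2 * q ^ 5 := by rw [pow_add, mul_comm 2 k, pow_mul]
  have e3 : (q : ℤ) ^ (k + 4) = (q : ℤ) ^ k * q ^ 4 := pow_add _ _ _
  have e4 : (q : ℤ) ^ (k + 3) = (q : ℤ) ^ k * q ^ 3 := pow_add _ _ _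
  rw [e2, e3, e4]
  set A := (q : ℤ) ^ k
  have h8 : 0 ≤ (A ^ 2 - A) * q ^ 5 := mul_nonneg (by nlinarith only []) (by positivity)
  have h9 : (q : ℤ) ≤ A * q ^ 3 := by
    have h10 : (q : ℤ) ≤ q ^ 3 := le_self_pow₀ (by linarith only [hF2]) (by norm_num)
    have h11 : (q : ℤ) ^ 3 ≤ A * q ^ 3 := le_mul_of_one_le_left (by positivity) h6
    linarith only [h5, e4]
  linarith only [h5, e4, h8]

/-- the minimal degree for `Ω_{2m+1}` -/
theorem minDeg_odd (h2 : (2 : F) ≠ 0) (hF : 5 ≤ Fintype.card F) {m : ℕ} (hm : 3 ≤ m) :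
    MinDeg (Omega F (⇑(quadOdd m F))) (Fintype.card F ^ (2 * m + 1 - 3)) := by
  rw [coe_quadOdd]
  intro M _ _ _ ρ hρ
  refine le_trans ?_ (Cfsg.Agent.H117.omega_bound h2 hF hm ρ hρ)
  obtain ⟨k, rfl⟩ : ∃ k, m = k + 1 := ⟨m - 1, by omega⟩
  rw [H117.tt, show 2 * (k + 1) + 1 - 3 = 2 * k by omega]
  omega

theorem od_odd {m : ℕ} (hm : 3 ≤ m) (hodd : Odd (Fintype.card F)) (e : T ≃* POmega F (quadFormOdd m F)) :
    OD F (quadOdd m F) T m := by
  have h2 : (2 : F) ≠ 0 := S2558.two_ne_zero_of_odd hodd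
  have hQ := quadOdd_nondegenerate (m := m) (F := F) h2
  have hc : Fintype.card (Unit ⊕ (Fin m ⊕ Fin m)) = 2 * m + 1 := by simp only [_root_.Fintype.card_sum, _root_.Fintype.card_unique, _root_.Fintype.card_fin]; omega
  obtain ⟨r, hr, hch⟩ := exists_char F
  rw [← coe_quadOdd] at e
  obtain ⟨π, hπ, hker⟩ := hom_of e
  refine ⟨hQ, by omega, by omega, by omega, by omega, ⟨π, hπ, hker⟩, ?_, ?_, ?_⟩
  · have h := (S2560.result hodd m (by omega)).2
    rw [← coe_quadOdd] at h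
    rw [Nat.card_eq_fintype_card (α := F)]
    omega
  · have h := H912.Bd.bd_pomega_odd_sl (F := ℂ) hr (prime_cast_ne hr) hch hm
    rw [← coe_quadOdd] at h
    refine (minDeg_of_bd (h.congr e)).mono ?_
    rw [Nat.card_eq_fintype_card (α := F)]
    have : Fintype.card F ^ (m - 2) ≤ Fintype.card F ^ (m - 1) := Nat.pow_le_pow_right Fintype.card_pos (by omega)
    omega
  · intro h4
    rw [Nat.card_eq_fintype_card (α := F)] at h4 ⊢
    have h5 : 5 ≤ Fintype.card F := by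
      obtain ⟨j, hj⟩ := hodd
      omega
    rw [hc]
    exact (minDeg_odd h2 h5 hm).of_surjective π hπ

theorem od_plus {m : ℕ} (hm : 4 ≤ m) (e : T ≃* POmega F (quadFormPlus m F)) : OD F (quadPlus m F) T m := by
  have hQ := quadPlus_nondegenerate (m := m) (F := F)
  have hc : Fintype.card (Fin m ⊕ Fin m) = 2 * m := by simp only [_root_.Fintype.card_sum, _root_.Fintype.card_fin]; omega
  obtain ⟨r, hr, hch⟩ := exists_char F
  rw [← coe_quadPlus] at e
  obtain ⟨π, hπ, hker⟩ := hom_of e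
  refine ⟨hQ, by omega, by omega, by omega, by omega, ⟨π, hπ, hker⟩, ?_, ?_, ?_⟩
  · refine cls_le hQ (by omega) ?_
    rw [coe_quadPlus]
    rcases Nat.even_or_odd (Fintype.card F) with he | ho
    · exact H170.EvenUpper.card_plus_le (by rwa [Nat.card_eq_fintype_card]) m
    · have h := S2558.upper ho hc (H169.OddForms.gramPlus m F) (H169.OddForms.gramPlus_symm m)
        (H169.OddForms.gramPlus_det m) _ (H169.OddForms.gramPlus_form m)
      rw [Nat.card_eq_fintype_card (α := F)]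
      omega
  · have h := H912.Bd.bd_pomega_plus_sl (F := ℂ) hr (prime_cast_ne hr) hch (m := m) (by omega)
    rw [← coe_quadPlus] at h
    refine (minDeg_of_bd (h.congr e)).mono ?_
    rw [Nat.card_eq_fintype_card (α := F)]
    have : Fintype.card F ^ (m - 2) ≤ Fintype.card F ^ (m - 1) := Nat.pow_le_pow_right Fintype.card_pos (by omega)
    omega
  · intro h4
    rw [Nat.card_eq_fintype_card (α := F)] at h4 ⊢
    rw [hc]
    exact (minDeg_plus h4 hm).of_surjective π hπ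

theorem od_minus {m : ℕ} (hm : 4 ≤ m) (a b : F)
    (hab : ∀ z₁ z₂ : F, z₁ ^ 2 + a * z₁ * z₂ + b * z₂ ^ 2 = 0 → z₁ = 0 ∧ z₂ = 0)
    (e : T ≃* POmega F (quadFormMinus (m - 1) F a b)) : OD F (quadMinus (m - 1) F a b) T m := by
  have hQ := quadMinus_nondegenerate (m := m - 1) hab
  have hc : Fintype.card ((Fin (m - 1) ⊕ Fin (m - 1)) ⊕ Fin 2) = 2 * m := by simp only [_root_.Fintype.card_sum, _root_.Fintype.card_fin]; omega
  obtain ⟨r, hr, hch⟩ := exists_char F
  rw [← coe_quadMinus] at e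
  obtain ⟨π, hπ, hker⟩ := hom_of e
  refine ⟨hQ, by omega, by omega, by omega, by omega, ⟨π, hπ, hker⟩, ?_, ?_, ?_⟩
  · refine cls_le hQ (by omega) ?_
    rw [coe_quadMinus]
    rcases Nat.even_or_odd (Fintype.card F) with he | ho
    · have h := H170.EvenUpper.card_minus_le (F := F) (by rwa [Nat.card_eq_fintype_card]) (m - 1) a b hab
      rwa [Nat.sub_add_cancel (by omega : 1 ≤ m)] at h
    · have h := S2558.upper ho hc (H169.OddForms.gramMinus (m - 1) F a b) (H169.OddForms.gramMinus_symm _ a b)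
        (H169.OddForms.gramMinus_det (S2558.two_ne_zero_of_odd ho) _ a b hab) _ (H169.OddForms.gramMinus_form _ a b)
      rw [Nat.card_eq_fintype_card (α := F)]
      omega
  · have h := H912.Bd.bd_pomega_minus_sl (F := ℂ) hr (prime_cast_ne hr) hch (m := m - 1) (by omega) a b
    rw [← coe_quadMinus] at h
    refine (minDeg_of_bd (h.congr e)).mono ?_
    rw [Nat.card_eq_fintype_card (α := F), show m - 1 - 1 = m - 2 by omega]
  · intro h4
    rw [Nat.card_eq_fintype_card (α := F)] at h4 ⊢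
    rw [hc]
    exact (minDeg_minus hm a b hab).of_surjective π hπ

end rows

theorem famP_oodd (hcore : CoreS) (hsmall : SmallS) (hsmo : SmallOS) (hbad : BadS) (hel : ElOmS) :
    FamP (fun g => ∃ m q, g = .oodd m q) := by
  intro a ε hε
  obtain ⟨D, hD⟩ := main hcore hsmall hsmo hbad hel a ε hε
  refine ⟨D, fun g T _ _ _ hN hP hT => ?_⟩
  obtain ⟨m, q, rfl⟩ := hP
  obtain ⟨F, _, _, hF, ⟨e⟩⟩ := hN.real
  exact hD _ F _ T m (od_odd hN.cond.1 (hF ▸ hN.cond.2.1) e) hT

theorem famP_oplus (hcore : CoreS) (hsmall : SmallS) (hsmo : SmallOS) (hbad : BadS) (hel : ElOmS) :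
    FamP (fun g => ∃ m q, g = .oplus m q) := by
  intro a ε hε
  obtain ⟨D, hD⟩ := main hcore hsmall hsmo hbad hel a ε hε
  refine ⟨D, fun g T _ _ _ hN hP hT => ?_⟩
  obtain ⟨m, q, rfl⟩ := hP
  obtain ⟨F, _, _, hF, ⟨e⟩⟩ := hN.real
  exact hD _ F _ T m (od_plus hN.cond.1 e) hT

theorem famP_ominus (hcore : CoreS) (hsmall : SmallS) (hsmo : SmallOS) (hbad : BadS) (hel : ElOmS) :
    FamP (fun g => ∃ m q, g = .ominus m q) := by
  intro a ε hε
  obtain ⟨D, hD⟩ := main hcore hsmall hsmo hbad hel a ε hε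
  refine ⟨D, fun g T _ _ _ hN hP hT => ?_⟩
  obtain ⟨m, q, rfl⟩ := hP
  obtain ⟨F, _, _, a', b', hF, hab, ⟨e⟩⟩ := hN.real
  exact hD _ F _ T m (od_minus hN.cond.1 a' b' hab e) hT

end Cfsg.Agent.H1.Rg
end
end

-- part: H692/Rg/AltGen_mg
section
prune_inst 0x52040400840000000000000102020844400042000600000b8200c4200027302808001c004801c06020a200100000020021000c0000000c00a000000000400000008920420000000000010003000000000000000020000000000000000041004000000000
set_option linter.all false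
open scoped Cfsg.Agent.FastGrp

-- part: H692/Rg/Alt
section
/-!
# S5714, task 4634: almost all pairs generate the alternating groups

`alt_gen_of` : the three statistics of permutations (`cycle_pow`, `not_trans`, `not_prim`) as hypotheses.
-/

set_option autoImplicit false

namespace Cfsg.Agent.H692.Rg

open Cfsg Cfsg.Agent.OrdDiv Cfsg.Agent.H436 Cfsg.Agent.H141.Rg MulAction

/-- the conclusion of `cycle_pow` -/
def CyclePow : Prop := ∀ ε : ℝ, 0 < ε → ∃ N : ℕ, ∀ n : ℕ, N ≤ n → (1 - ε) * (n.factorial : ℝ) ≤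
    Nat.card {x : Equiv.Perm (Fin n) // ∃ m p : ℕ, p.Prime ∧ p + 3 ≤ n ∧ (x ^ m).IsCycle ∧ (x ^ m).support.card = p}

/-- the conclusion of `not_trans` -/
def NotTrans : Prop := ∀ ε : ℝ, 0 < ε → ∃ N : ℕ, ∀ n : ℕ, N ≤ n →
    (Nat.card {xy : Equiv.Perm (Fin n) × Equiv.Perm (Fin n) //
      ¬ MulAction.IsPretransitive (Subgroup.closure {xy.1, xy.2}) (Fin n)} : ℝ) ≤ ε * (n.factorial : ℝ) ^ 2

/-- the conclusion of `not_prim` -/
def NotPrim : Prop := ∀ ε : ℝ, 0 < ε → ∃ N : ℕ, ∀ n : ℕ, N ≤ n →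
    (Nat.card {xy : Equiv.Perm (Fin n) × Equiv.Perm (Fin n) //
      MulAction.IsPretransitive (Subgroup.closure {xy.1, xy.2}) (Fin n) ∧
      ¬ MulAction.IsPreprimitive (Subgroup.closure {xy.1, xy.2}) (Fin n)} : ℝ) ≤ ε * (n.factorial : ℝ) ^ 2

/-- generation by Jordan's theorem -/
theorem closure_eq_top {n : ℕ} (hn : 5 ≤ n) {T : Type} [Group T] (e : T ≃* ↥(alternatingGroup (Fin n))) {x y : T}
    (hprim : MulAction.IsPreprimitive (Subgroup.closure {(e x : Equiv.Perm (Fin n)), (e y : Equiv.Perm (Fin n))}) (Fin n))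
    (hc : ∃ m p : ℕ, p.Prime ∧ p + 3 ≤ n ∧ ((e x : Equiv.Perm (Fin n)) ^ m).IsCycle ∧
      ((e x : Equiv.Perm (Fin n)) ^ m).support.card = p) : Subgroup.closure {x, y} = ⊤ := by
  obtain ⟨m, p, hp, hpn, h1, h2⟩ := hc
  have h3 := Cfsg.Agent.S0713.result (Subgroup.closure {(e x : Equiv.Perm (Fin n)), (e y : Equiv.Perm (Fin n))}) hprim hp
    (by rwa [Fintype.card_fin]) (by rwa [Fintype.card_fin]) h1 h2 (pow_mem (Subgroup.subset_closure (Set.mem_insert _ _)) m)
  let f : T →* Equiv.Perm (Fin n) := (alternatingGroup (Fin n)).subtype.comp e.toMonoidHom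
  have hf : Function.Injective f := fun a b hab => e.injective (Subtype.ext hab)
  have h4 : (Subgroup.closure {x, y}).map f = Subgroup.closure {(e x : Equiv.Perm (Fin n)), (e y : Equiv.Perm (Fin n))} := by
    rw [MonoidHom.map_closure, Set.image_pair]
    rfl
  rw [← h4] at h3
  rw [eq_top_iff]
  intro g _
  obtain ⟨g', hg', hgg⟩ := h3 (e g).2
  rwa [← hf hgg]

/-- **Almost all pairs generate the alternating groups** (task 4634), the statistics as hypotheses. -/
theorem alt_gen_of (hcp : CyclePow) (hnt : NotTrans) (hnp : NotPrim) : FamGen (fun g => ∃ n, g = .alt n) := by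
  intro ε hε
  obtain ⟨N1, h1⟩ := hcp (ε / 10) (by positivity)
  obtain ⟨N2, h2⟩ := hnt (ε / 10) (by positivity)
  obtain ⟨N3, h3⟩ := hnp (ε / 10) (by positivity)
  refine ⟨(N1 + N2 + N3).factorial, ?_⟩
  rintro g T _ _ _ hT ⟨n, rfl⟩ hD
  obtain ⟨e⟩ := hT.real
  have hn5 : 5 ≤ n := hT.cond
  have hcard : 2 * Nat.card T = n.factorial := hT.eq
  have hN : N1 + N2 + N3 ≤ n := by
    by_contra hc
    push Not at hc
    have h4 := Nat.factorial_le hc.le
    have h5 : 0 < Nat.card T := Nat.card_pos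
    omega
  have hcR : (n.factorial : ℝ) = 2 * (Nat.card T : ℝ) := by
    rw [← hcard]
    push_cast
    ring
  have hfc : (Nat.card (Equiv.Perm (Fin n)) : ℝ) = 2 * (Nat.card T : ℝ) := by
    rw [Nat.card_eq_fintype_card, Fintype.card_perm, Fintype.card_fin, hcR]
  -- the three bad sets
  let P : Equiv.Perm (Fin n) → Prop := fun x => ∃ m p : ℕ, p.Prime ∧ p + 3 ≤ n ∧ (x ^ m).IsCycle ∧
    (x ^ m).support.card = p
  have e1 : (1 - ε / 10) * (n.factorial : ℝ) ≤ Nat.card {x : Equiv.Perm (Fin n) // P x} := h1 n (by omega)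
  have e1' : (Nat.card {x : Equiv.Perm (Fin n) // ¬ P x} : ℝ) ≤ ε / 10 * (2 * (Nat.card T : ℝ)) := by
    have h6 : Nat.card {x : Equiv.Perm (Fin n) // P x} + Nat.card {x : Equiv.Perm (Fin n) // ¬ P x} =
        Nat.card (Equiv.Perm (Fin n)) := by
      rw [← Nat.card_sum]
      classical
      exact Nat.card_congr (Equiv.sumCompl P)
    have h7 : (Nat.card {x : Equiv.Perm (Fin n) // P x} : ℝ) + Nat.card {x : Equiv.Perm (Fin n) // ¬ P x} =
        2 * (Nat.card T : ℝ) := by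
      rw [← hfc]
      exact_mod_cast h6
    rw [hcR] at e1
    linarith only [e1, h7]
  have e2 := h2 n (by omega)
  have e3 := h3 n (by omega)
  rw [hcR] at e2 e3
  set A := {xy : Equiv.Perm (Fin n) × Equiv.Perm (Fin n) //
      ¬ MulAction.IsPretransitive (Subgroup.closure {xy.1, xy.2}) (Fin n)} with hA
  set B := {xy : Equiv.Perm (Fin n) × Equiv.Perm (Fin n) //
      MulAction.IsPretransitive (Subgroup.closure {xy.1, xy.2}) (Fin n) ∧
      ¬ MulAction.IsPreprimitive (Subgroup.closure {xy.1, xy.2}) (Fin n)} with hB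
  set C := {x : Equiv.Perm (Fin n) // ¬ P x} with hC
  have key : Nat.card {xy : T × T // ¬ Subgroup.closure {xy.1, xy.2} = ⊤} ≤ Nat.card A + Nat.card B +
      Nat.card C * Nat.card T := by
    rw [← Nat.card_prod, ← Nat.card_sum, ← Nat.card_sum]
    classical
    have hsp : ∀ xy : {xy : T × T // ¬ Subgroup.closure {xy.1, xy.2} = ⊤},
        ¬ (MulAction.IsPreprimitive (Subgroup.closure {(e xy.1.1 : Equiv.Perm (Fin n)), (e xy.1.2 : Equiv.Perm (Fin n))})
          (Fin n) ∧ P (e xy.1.1 : Equiv.Perm (Fin n))) := fun xy h => xy.2 (closure_eq_top hn5 e h.1 h.2)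
    let F : {xy : T × T // ¬ Subgroup.closure {xy.1, xy.2} = ⊤} → (A ⊕ B) ⊕ (C × T) := fun xy =>
      if ha : ¬ MulAction.IsPretransitive (Subgroup.closure {(e xy.1.1 : Equiv.Perm (Fin n)), (e xy.1.2 : Equiv.Perm (Fin n))})
          (Fin n) then Sum.inl (Sum.inl ⟨((e xy.1.1 : Equiv.Perm (Fin n)), (e xy.1.2 : Equiv.Perm (Fin n))), ha⟩)
      else if hb : ¬ MulAction.IsPreprimitive
          (Subgroup.closure {(e xy.1.1 : Equiv.Perm (Fin n)), (e xy.1.2 : Equiv.Perm (Fin n))}) (Fin n) then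
        Sum.inl (Sum.inr ⟨((e xy.1.1 : Equiv.Perm (Fin n)), (e xy.1.2 : Equiv.Perm (Fin n))), not_not.1 ha, hb⟩)
      else Sum.inr (⟨(e xy.1.1 : Equiv.Perm (Fin n)), fun hc => hsp xy ⟨not_not.1 hb, hc⟩⟩, xy.1.2)
    apply Nat.card_le_card_of_injective F
    have hinj : ∀ a b : T, (e a : Equiv.Perm (Fin n)) = (e b : Equiv.Perm (Fin n)) → a = b :=
      fun a b hab => e.injective (Subtype.ext hab)
    intro xy xy' h
    simp only [F] at h
    apply Subtype.ext
    apply Prod.ext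
    all_goals
      split_ifs at h <;> simp only [Sum.inl.injEq, Sum.inr.injEq, Prod.mk.injEq, reduceCtorEq] at h
    · exact hinj _ _ (congrArg (Subtype.val : C → Equiv.Perm (Fin n)) h.1)
    · exact hinj _ _ (congrArg Prod.fst (congrArg Subtype.val h))
    · exact hinj _ _ (congrArg Prod.fst (congrArg Subtype.val h))
    · exact h.2
    · exact hinj _ _ (congrArg Prod.snd (congrArg Subtype.val h))
    · exact hinj _ _ (congrArg Prod.snd (congrArg Subtype.val h))
  have hsum : gp T + Nat.card {xy : T × T // ¬ Subgroup.closure {xy.1, xy.2} = ⊤} = Nat.card T * Nat.card T := by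
    rw [← Nat.card_prod, gp, ← Nat.card_sum]
    classical
    exact Nat.card_congr (Equiv.sumCompl fun xy : T × T => Subgroup.closure {xy.1, xy.2} = ⊤)
  have hsumR : (gp T : ℝ) + Nat.card {xy : T × T // ¬ Subgroup.closure {xy.1, xy.2} = ⊤} =
      (Nat.card T : ℝ) * Nat.card T := by exact_mod_cast hsum
  have keyR : (Nat.card {xy : T × T // ¬ Subgroup.closure {xy.1, xy.2} = ⊤} : ℝ) ≤ Nat.card A + Nat.card B +
      Nat.card C * Nat.card T := by exact_mod_cast key
  have hT0 : (0 : ℝ) ≤ Nat.card T := Nat.cast_nonneg _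
  have e4 : (Nat.card C : ℝ) * Nat.card T ≤ ε / 10 * (2 * (Nat.card T : ℝ)) * Nat.card T :=
    mul_le_mul_of_nonneg_right e1' hT0
  linarith only [e2, e3, hsumR, keyR, e4]

end Cfsg.Agent.H692.Rg
end

-- part: H559/Rg/CycCount
section
/-!
# Counting cycles of random permutations (helper559, for S5714, task A2)

* `card_agree` : the number of permutations which agree with a given one on a set;
* `sum_N` : `∑ x, N x k * k = n!` where `N x k` is the number of cycles of length `k` of `x`;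
* `sum_prs` : `(∑ x, prs x k l) * (k * l) ≤ n!` where `prs x k l` is the number of pairs of different cycles of lengths
  `k`, `l` of `x`;
* `second` : for a finite set `P` of lengths between 2 and `n`, with `μ = ∑ k ∈ P, 1 / k`: at most `n! / μ` permutations
  have no cycle of length in `P`.
-/

set_option autoImplicit false

namespace Cfsg.Agent.H559.Rg

open Equiv Equiv.Perm Finset

section count

variable {α : Type*} [Fintype α] [DecidableEq α]

instance instDecDisjoint (σ τ : Perm α) : Decidable (_root_.Equiv.Perm.Disjoint σ τ) :=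
  inferInstanceAs (Decidable (∀ x, σ x = x ∨ τ x = x))

theorem card_notMem (S : Finset α) : Fintype.card {a // a ∉ S} = Fintype.card α - S.card := by
  rw [Fintype.card_subtype, filter_not, filter_univ_mem, ← compl_eq_univ_sdiff, card_compl]

/-- the number of permutations which agree with `ρ` on `S` -/
theorem card_agree (ρ : Perm α) (S : Finset α) :
    (univ.filter fun x : Perm α => ∀ a ∈ S, x a = ρ a).card = (Fintype.card α - S.card).factorial := by
  rw [← Fintype.card_subtype]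
  let e1 : {x : Perm α // ∀ a ∈ S, x a = ρ a} ≃ {y : Perm α // ∀ a, ¬ (a ∉ S) → y a = a} :=
    { toFun := fun x => ⟨ρ⁻¹ * x.1, fun a ha => by
        rw [Perm.mul_apply, x.2 a (not_not.1 ha), ← Perm.mul_apply, inv_mul_cancel, Perm.one_apply]⟩
      invFun := fun y => ⟨ρ * y.1, fun a ha => by
        rw [Perm.mul_apply, y.2 a (not_not.2 ha)]⟩
      left_inv := fun x => Subtype.ext (mul_inv_cancel_left _ _)
      right_inv := fun y => Subtype.ext (inv_mul_cancel_left _ _) }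
  rw [Fintype.card_congr (e1.trans (Equiv.Perm.subtypeEquivSubtypePerm (fun a => a ∉ S)).symm), Fintype.card_perm,
    card_notMem]

/-- the cycles of length `k` -/
def cyc (α : Type*) [Fintype α] [DecidableEq α] (k : ℕ) : Finset (Perm α) :=
  univ.filter fun σ => σ.cycleType = {k}

theorem mem_cyc {k : ℕ} {σ : Perm α} : σ ∈ cyc α k ↔ σ.cycleType = {k} := by
  unfold cyc
  rw [mem_filter]
  simp

theorem supp_of_type {k : ℕ} {σ : Perm α} (h : σ.cycleType = {k}) : σ.support.card = k := by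
  rw [← sum_cycleType, h, Multiset.sum_singleton]

theorem isCycle_of_type {k : ℕ} {σ : Perm α} (h : σ.cycleType = {k}) : σ.IsCycle := by
  rw [← card_cycleType_eq_one, h, Multiset.card_singleton]

theorem card_cyc {k : ℕ} (hk : 2 ≤ k) : (cyc α k).card = (k - 1).factorial * (Fintype.card α).choose k := by
  by_cases h : k ≤ Fintype.card α
  · exact card_of_cycleType_singleton hk h
  · rw [Nat.choose_eq_zero_of_lt (not_le.1 h), mul_zero, card_eq_zero, eq_empty_iff_forall_notMem]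
    intro σ hσ
    apply h
    rw [← supp_of_type (mem_cyc.1 hσ)]
    exact card_le_univ _

/-- the cycles of length `l` disjoint from `σ` -/
theorem card_disj_le (σ : Perm α) {l : ℕ} (hl : 2 ≤ l) :
    ((cyc α l).filter fun τ : Perm α => _root_.Equiv.Perm.Disjoint σ τ).card ≤
      (l - 1).factorial * (Fintype.card α - σ.support.card).choose l := by
  have h := card_cyc (α := {a // a ∉ σ.support}) hl
  rw [card_notMem] at h
  rw [← h]
  have hsub : ((cyc α l).filter fun τ : Perm α => _root_.Equiv.Perm.Disjoint σ τ) ⊆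
      (cyc {a // a ∉ σ.support} l).image (ofSubtype : Perm {a // a ∉ σ.support} → Perm α) := by
    intro τ hτ
    obtain ⟨h1, h2⟩ := mem_filter.1 hτ
    rw [mem_cyc] at h1
    have h3 : ∀ x, τ x ≠ x → x ∉ σ.support := by
      intro x hx hxs
      rcases h2 x with h4 | h4
      · exact mem_support.1 hxs h4
      · exact hx h4
    have h5 : ∀ x, τ x ∉ σ.support ↔ x ∉ σ.support := by
      intro x
      by_cases hx : τ x = x
      · rw [hx]
      · exact ⟨fun _ => h3 x hx, fun _ => h3 _ fun h6 => hx (τ.injective h6)⟩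
    have h6 : ofSubtype (τ.subtypePerm h5) = τ := ofSubtype_subtypePerm h5 h3
    refine mem_image.2 ⟨τ.subtypePerm h5, ?_, h6⟩
    rw [mem_cyc, ← cycleType_ofSubtype, h6, h1]
  exact (card_le_card hsub).trans card_image_le

/-- the number of cycles of length `k` -/
def N (x : Perm α) (k : ℕ) : ℕ := (x.cycleFactorsFinset.filter fun σ => σ.cycleType = {k}).card

/-- the number of pairs of different cycles of lengths `k`, `l` -/
def prs (x : Perm α) (k l : ℕ) : ℕ :=
  ((x.cycleFactorsFinset ×ˢ x.cycleFactorsFinset).filter fun q =>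
    q.1 ≠ q.2 ∧ q.1.cycleType = {k} ∧ q.2.cycleType = {l}).card

theorem sum_N {k : ℕ} (hk : 2 ≤ k) (hkn : k ≤ Fintype.card α) :
    (∑ x : Perm α, N x k) * k = (Fintype.card α).factorial := by
  have h1 : ∑ x : Perm α, N x k = ∑ x : Perm α, ((cyc α k).bipartiteAbove (fun x σ => σ ∈ x.cycleFactorsFinset) x).card := by
    refine sum_congr rfl fun x _ => ?_
    unfold N bipartiteAbove
    congr 1
    ext σ
    rw [mem_filter, mem_filter, mem_cyc, and_comm]
  rw [h1, sum_card_bipartiteAbove_eq_sum_card_bipartiteBelow]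
  have h2 : ∀ σ ∈ cyc α k, ((univ : Finset (Perm α)).bipartiteBelow (fun x σ => σ ∈ x.cycleFactorsFinset) σ).card =
      (Fintype.card α - k).factorial := by
    intro σ hσ
    rw [mem_cyc] at hσ
    rw [← supp_of_type hσ, ← card_agree σ σ.support]
    unfold bipartiteBelow
    congr 1
    ext x
    rw [mem_filter, mem_filter]
    simp only [mem_univ, true_and, mem_cycleFactorsFinset_iff]
    exact ⟨fun h a ha => (h.2 a ha).symm, fun h => ⟨isCycle_of_type hσ, fun a ha => (h a ha).symm⟩⟩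
  rw [sum_congr rfl h2, sum_const, smul_eq_mul, card_cyc hk]
  have h3 : k.factorial = k * (k - 1).factorial := by
    rw [Nat.mul_factorial_pred (by omega)]
  calc (k - 1).factorial * (Fintype.card α).choose k * (Fintype.card α - k).factorial * k
      = (Fintype.card α).choose k * (k * (k - 1).factorial) * (Fintype.card α - k).factorial := by ring
    _ = (Fintype.card α).factorial := by rw [← h3, Nat.choose_mul_factorial_mul_factorial hkn]

theorem disjoint_of_mem {x σ τ : Perm α} (hσ : σ ∈ x.cycleFactorsFinset) (hτ : τ ∈ x.cycleFactorsFinset)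
    (hne : σ ≠ τ) : _root_.Equiv.Perm.Disjoint σ τ :=
  cycleFactorsFinset_pairwise_disjoint x hσ hτ hne

theorem card_both_le {σ τ : Perm α} (h : _root_.Equiv.Perm.Disjoint σ τ) :
    (univ.filter fun x : Perm α => σ ∈ x.cycleFactorsFinset ∧ τ ∈ x.cycleFactorsFinset).card ≤
      (Fintype.card α - (σ.support.card + τ.support.card)).factorial := by
  have h1 : (σ.support ∪ τ.support).card = σ.support.card + τ.support.card :=
    card_union_of_disjoint (disjoint_iff_disjoint_support.1 h)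
  rw [← h1, ← card_agree (σ * τ)]
  apply card_le_card
  intro x hx
  obtain ⟨-, h2, h3⟩ := mem_filter.1 hx
  rw [mem_cycleFactorsFinset_iff] at h2 h3
  refine mem_filter.2 ⟨mem_univ _, fun a ha => ?_⟩
  rw [Perm.mul_apply]
  rcases mem_union.1 ha with ha | ha
  · have h4 : τ a = a := (h a).resolve_left (mem_support.1 ha)
    rw [h4, h2.2 a ha]
  · have h4 : σ (τ a) = τ a := (h (τ a)).resolve_right fun h5 => mem_support.1 ha (τ.injective h5)
    rw [h4, h3.2 a ha]

theorem sum_prs {k l : ℕ} (hk : 2 ≤ k) (hl : 2 ≤ l) :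
    (∑ x : Perm α, prs x k l) * (k * l) ≤ (Fintype.card α).factorial := by
  set n := Fintype.card α with hn
  set D : Finset (Perm α × Perm α) := (cyc α k ×ˢ cyc α l).filter fun q => _root_.Equiv.Perm.Disjoint q.1 q.2 with hD
  have h1 : ∑ x : Perm α, prs x k l = ∑ x : Perm α,
      (D.bipartiteAbove (fun x q => q.1 ∈ x.cycleFactorsFinset ∧ q.2 ∈ x.cycleFactorsFinset) x).card := by
    refine sum_congr rfl fun x _ => ?_
    unfold prs bipartiteAbove
    congr 1
    ext q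
    rw [mem_filter, mem_filter, hD, mem_filter, mem_product, mem_product, mem_cyc, mem_cyc]
    constructor
    · rintro ⟨⟨a1, a2⟩, a3, a4, a5⟩
      exact ⟨⟨⟨a4, a5⟩, disjoint_of_mem a1 a2 a3⟩, a1, a2⟩
    · rintro ⟨⟨⟨a4, a5⟩, a3⟩, a1, a2⟩
      refine ⟨⟨a1, a2⟩, ?_, a4, a5⟩
      intro h
      rw [← h, disjoint_refl_iff] at a3
      have := isCycle_of_type a4
      rw [a3] at this
      exact this.ne_one rfl
  have h2 : ∀ q ∈ D, ((univ : Finset (Perm α)).bipartiteBelow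
      (fun x q => q.1 ∈ x.cycleFactorsFinset ∧ q.2 ∈ x.cycleFactorsFinset) q).card ≤ (n - (k + l)).factorial := by
    intro q hq
    rw [hD, mem_filter, mem_product, mem_cyc, mem_cyc] at hq
    have h3 := card_both_le hq.2
    rw [supp_of_type hq.1.1, supp_of_type hq.1.2] at h3
    exact h3
  have h3 : D.card ≤ (cyc α k).card * ((l - 1).factorial * (n - k).choose l) := by
    have e1 : D.card = ∑ σ ∈ cyc α k, ((cyc α l).filter fun τ : Perm α => Disjoint σ τ).card := by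
      rw [hD, card_filter, sum_product]
      refine sum_congr rfl fun σ _ => ?_
      rw [card_filter]
    rw [e1, ← smul_eq_mul]
    refine sum_le_card_nsmul _ _ _ fun σ hσ => ?_
    have h4 := card_disj_le σ hl
    rwa [supp_of_type (mem_cyc.1 hσ)] at h4
  rw [card_cyc hk] at h3
  have h4 : ∑ x : Perm α, prs x k l ≤ D.card * (n - (k + l)).factorial := by
    rw [h1, sum_card_bipartiteAbove_eq_sum_card_bipartiteBelow, ← smul_eq_mul]
    exact sum_le_card_nsmul _ _ _ h2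
  have h5 : ∀ m j : ℕ, 2 ≤ j → j * ((j - 1).factorial * m.choose j) * (m - j).factorial ≤ m.factorial := by
    intro m j hj
    by_cases hjm : j ≤ m
    · rw [← mul_assoc, Nat.mul_factorial_pred (by omega), mul_comm j.factorial,
        Nat.choose_mul_factorial_mul_factorial hjm]
    · rw [Nat.choose_eq_zero_of_lt (not_le.1 hjm), mul_zero, mul_zero, zero_mul]
      exact Nat.zero_le _
  calc (∑ x : Perm α, prs x k l) * (k * l)
      ≤ ((k - 1).factorial * n.choose k * ((l - 1).factorial * (n - k).choose l)) * (n - (k + l)).factorial * (k * l) := by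
        gcongr
        exact h4.trans (Nat.mul_le_mul_right _ h3)
    _ = k * ((k - 1).factorial * n.choose k) * (l * ((l - 1).factorial * (n - k).choose l) * (n - k - l).factorial) := by
        rw [Nat.sub_sub]; ring
    _ ≤ k * ((k - 1).factorial * n.choose k) * (n - k).factorial := by
        gcongr
        exact h5 _ _ hl
    _ ≤ n.factorial := h5 _ _ hk

/-! ### Moments -/

theorem sum_N_real {k : ℕ} (hk : 2 ≤ k) (hkn : k ≤ Fintype.card α) :
    ∑ x : Perm α, (N x k : ℝ) = (Fintype.card α).factorial * (1 / (k : ℝ)) := by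
  have h := sum_N (α := α) hk hkn
  have h0 : (k : ℝ) ≠ 0 := by
    have : 0 < k := by omega
    exact_mod_cast this.ne'
  rw [mul_one_div, eq_div_iff h0, ← h]
  push_cast
  ring

theorem sum_prs_real {k l : ℕ} (hk : 2 ≤ k) (hl : 2 ≤ l) :
    ∑ x : Perm α, (prs x k l : ℝ) ≤ (Fintype.card α).factorial * (1 / (k : ℝ) * (1 / (l : ℝ))) := by
  have h := sum_prs (α := α) hk hl
  have h1 : (0 : ℝ) < k := by exact_mod_cast (by omega : 0 < k)
  have h2 : (0 : ℝ) < l := by exact_mod_cast (by omega : 0 < l)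
  rw [one_div_mul_one_div, mul_one_div, le_div_iff₀ (mul_pos h1 h2)]
  exact_mod_cast h

theorem N_mul_le (x : Perm α) (k l : ℕ) : N x k * N x l ≤ prs x k l + if k = l then N x k else 0 := by
  set A : ℕ → Finset (Perm α) := fun k => x.cycleFactorsFinset.filter fun σ => σ.cycleType = {k} with hA
  have h1 : N x k * N x l = (A k ×ˢ A l).card := by rw [card_product]; rfl
  rw [h1]
  by_cases hkl : k = l
  · rw [if_pos hkl]
    have h2 : A k ×ˢ A l ⊆ ((x.cycleFactorsFinset ×ˢ x.cycleFactorsFinset).filter fun q =>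
        q.1 ≠ q.2 ∧ q.1.cycleType = {k} ∧ q.2.cycleType = {l}) ∪ (A k).image fun σ => (σ, σ) := by
      intro q hq
      obtain ⟨h3, h4⟩ := mem_product.1 hq
      rw [mem_union]
      by_cases h5 : q.1 = q.2
      · right
        exact mem_image.2 ⟨q.1, h3, Prod.ext rfl h5⟩
      · left
        obtain ⟨h6, h7⟩ := mem_filter.1 h3
        obtain ⟨h8, h9⟩ := mem_filter.1 h4
        exact mem_filter.2 ⟨mem_product.2 ⟨h6, h8⟩, h5, h7, h9⟩
    exact (card_le_card h2).trans ((card_union_le _ _).trans (Nat.add_le_add_left card_image_le _))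
  · rw [if_neg hkl, add_zero]
    apply card_le_card
    intro q hq
    obtain ⟨h3, h4⟩ := mem_product.1 hq
    obtain ⟨h6, h7⟩ := mem_filter.1 h3
    obtain ⟨h8, h9⟩ := mem_filter.1 h4
    refine mem_filter.2 ⟨mem_product.2 ⟨h6, h8⟩, fun h5 => hkl ?_, h7, h9⟩
    rw [h5, h9] at h7
    exact (Multiset.singleton_inj.1 h7).symm

/-- **the second moment**: at most `n! / μ` permutations have no cycle of length in `P` -/
theorem second (P : Finset ℕ) (hP : ∀ k ∈ P, 2 ≤ k ∧ k ≤ Fintype.card α) (hμ : 0 < ∑ k ∈ P, (1 : ℝ) / k) :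
    ((univ.filter fun x : Perm α => ∀ k ∈ P, N x k = 0).card : ℝ) * (∑ k ∈ P, (1 : ℝ) / k) ≤
      (Fintype.card α).factorial := by
  set μ : ℝ := ∑ k ∈ P, (1 : ℝ) / k with hμd
  set F : ℝ := ((Fintype.card α).factorial : ℝ) with hF
  set X : Perm α → ℝ := fun x => ∑ k ∈ P, (N x k : ℝ) with hX
  have s1 : ∑ x : Perm α, X x = F * μ := by
    rw [hX, sum_comm, hμd, mul_sum]
    exact sum_congr rfl fun k hk => sum_N_real (hP k hk).1 (hP k hk).2
  have s2 : ∑ x : Perm α, X x ^ 2 ≤ F * (μ ^ 2 + μ) := by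
    have h1 : ∀ x, X x ^ 2 ≤ ∑ k ∈ P, ∑ l ∈ P, (prs x k l : ℝ) + X x := by
      intro x
      have h2 : X x ^ 2 = ∑ k ∈ P, ∑ l ∈ P, (N x k : ℝ) * N x l := by
        rw [pow_two, hX, sum_mul_sum]
      rw [h2]
      have h3 : ∀ k ∈ P, ∑ l ∈ P, (N x k : ℝ) * N x l ≤ ∑ l ∈ P, (prs x k l : ℝ) + N x k := by
        intro k hk
        have h4 : ∀ l ∈ P, (N x k : ℝ) * N x l ≤ (prs x k l : ℝ) + if k = l then (N x k : ℝ) else 0 := by
          intro l _
          have := N_mul_le x k l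
          split_ifs at this ⊢ <;> exact_mod_cast this
        refine (sum_le_sum h4).trans ?_
        rw [sum_add_distrib, sum_ite_eq P k, if_pos hk]
      refine (sum_le_sum h3).trans ?_
      rw [sum_add_distrib]
    refine (sum_le_sum fun x _ => h1 x).trans ?_
    rw [sum_add_distrib, s1, mul_add, pow_two]
    apply add_le_add _ le_rfl
    rw [sum_comm, hμd, sum_mul_sum, mul_sum]
    refine sum_le_sum fun k hk => ?_
    rw [sum_comm, mul_sum]
    exact sum_le_sum fun l hl => sum_prs_real (hP k hk).1 (hP l hl).1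
  have s3 : ((univ.filter fun x : Perm α => ∀ k ∈ P, N x k = 0).card : ℝ) * μ ^ 2 ≤ ∑ x : Perm α, (X x - μ) ^ 2 := by
    rw [card_eq_sum_ones, Nat.cast_sum, sum_mul]
    refine le_trans (sum_le_sum (g := fun x => (X x - μ) ^ 2) fun x hx => ?_)
      (sum_le_sum_of_subset_of_nonneg (filter_subset _ _) fun x _ _ => sq_nonneg _)
    have h1 : X x = 0 := by
      rw [hX]
      exact sum_eq_zero fun k hk => by rw [(mem_filter.1 hx).2 k hk, Nat.cast_zero]
    rw [h1, zero_sub, neg_sq, Nat.cast_one, one_mul]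
  have s4 : ∑ x : Perm α, (X x - μ) ^ 2 = ∑ x : Perm α, X x ^ 2 - 2 * μ * ∑ x : Perm α, X x + F * μ ^ 2 := by
    have h1 : ∀ x, (X x - μ) ^ 2 = X x ^ 2 - 2 * μ * X x + μ ^ 2 := fun x => by ring
    rw [sum_congr rfl fun x _ => h1 x, sum_add_distrib, sum_sub_distrib, ← mul_sum, sum_const, nsmul_eq_mul,
      card_univ, Fintype.card_perm]
  rw [s1] at s4
  have s5 : ((univ.filter fun x : Perm α => ∀ k ∈ P, N x k = 0).card : ℝ) * μ ^ 2 ≤ F * μ := by
    calc _ ≤ ∑ x : Perm α, (X x - μ) ^ 2 := s3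
      _ = ∑ x : Perm α, X x ^ 2 - 2 * μ * (F * μ) + F * μ ^ 2 := s4
      _ ≤ F * (μ ^ 2 + μ) - 2 * μ * (F * μ) + F * μ ^ 2 := by linarith
      _ = F * μ := by ring
  rw [pow_two, ← mul_assoc] at s5
  exact le_of_mul_le_mul_right s5 hμ

/-- **the first moment**: permutations with a cycle of length `p ∈ P` and another one of length divisible by `p` -/
theorem card_bad_le (P : Finset ℕ) (hP : ∀ k ∈ P, 2 ≤ k) :
    ((univ.filter fun x : Perm α => ∃ p ∈ P, ∃ j ∈ range (Fintype.card α), prs x p (p * (j + 1)) ≠ 0).card : ℝ) ≤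
      (Fintype.card α).factorial * ∑ p ∈ P, ∑ j ∈ range (Fintype.card α), 1 / (p : ℝ) * (1 / ((p * (j + 1) : ℕ) : ℝ)) := by
  have h1 : ((univ.filter fun x : Perm α => ∃ p ∈ P, ∃ j ∈ range (Fintype.card α), prs x p (p * (j + 1)) ≠ 0).card : ℝ) ≤
      ∑ x : Perm α, ∑ p ∈ P, ∑ j ∈ range (Fintype.card α), (prs x p (p * (j + 1)) : ℝ) := by
    rw [card_eq_sum_ones, Nat.cast_sum]
    refine le_trans (sum_le_sum (g := fun x => ∑ p ∈ P, ∑ j ∈ range (Fintype.card α), (prs x p (p * (j + 1)) : ℝ))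
      fun x hx => ?_) (sum_le_sum_of_subset_of_nonneg (filter_subset _ _) fun x _ _ =>
        sum_nonneg fun p _ => sum_nonneg fun j _ => Nat.cast_nonneg _)
    obtain ⟨-, p, hp, j, hj, hne⟩ := mem_filter.1 hx
    have h2 : (1 : ℝ) ≤ (prs x p (p * (j + 1)) : ℝ) := by
      exact_mod_cast Nat.one_le_iff_ne_zero.2 hne
    rw [Nat.cast_one]
    refine h2.trans ((single_le_sum (f := fun j => (prs x p (p * (j + 1)) : ℝ)) (fun j _ => Nat.cast_nonneg _) hj).trans ?_)
    exact single_le_sum (f := fun p => ∑ j ∈ range (Fintype.card α), (prs x p (p * (j + 1)) : ℝ))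
      (fun p _ => sum_nonneg fun j _ => Nat.cast_nonneg _) hp
  refine h1.trans ?_
  rw [sum_comm, mul_sum]
  refine sum_le_sum fun p hp => ?_
  rw [sum_comm, mul_sum]
  refine sum_le_sum fun j _ => sum_prs_real (hP p hp) ?_
  have := hP p hp
  nlinarith only [this]

/-- a permutation with exactly one cycle of length `p`, a prime, and no other cycle of length divisible by `p` has a
power which is a `p`-cycle -/
theorem good_pow {x : Perm α} {p : ℕ} (hp : p.Prime) (hN : N x p ≠ 0)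
    (h : ∀ j ∈ range (Fintype.card α), prs x p (p * (j + 1)) = 0) :
    ∃ m : ℕ, (x ^ m).IsCycle ∧ (x ^ m).support.card = p := by
  unfold N at hN
  obtain ⟨σ, hσ⟩ := card_ne_zero.1 hN
  obtain ⟨hσx, hσp⟩ := mem_filter.1 hσ
  have hσc := isCycle_of_type hσp
  have hσs := supp_of_type hσp
  set ρ := x * σ⁻¹ with hρ
  have hd : _root_.Equiv.Perm.Disjoint ρ σ := disjoint_mul_inv_of_mem_cycleFactorsFinset hσx
  have hx : x = ρ * σ := by rw [hρ, inv_mul_cancel_right]
  have hcop : ¬ p ∣ orderOf ρ := by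
    intro hdvd
    have h1 : p ∣ ρ.cycleType.prod := by
      refine hdvd.trans ?_
      rw [← lcm_cycleType]
      exact Multiset.lcm_dvd.2 fun b hb => Multiset.dvd_prod hb
    obtain ⟨c, hc, hpc⟩ := (Nat.prime_iff.1 hp).exists_mem_multiset_dvd h1
    rw [cycleType_def, Multiset.mem_map] at hc
    obtain ⟨τ, hτ, hτc⟩ := hc
    have hτ' : τ ∈ ρ.cycleFactorsFinset := hτ
    rw [hρ, cycleFactorsFinset_mul_inv_mem_eq_sdiff hσx, mem_sdiff, mem_singleton] at hτ'
    obtain ⟨hτx, hne⟩ := hτ'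
    have hτcy : τ.IsCycle := (mem_cycleFactorsFinset_iff.1 hτx).1
    have hcs : τ.support.card = c := hτc
    obtain ⟨j, hj⟩ := hpc
    have hc0 : 0 < c := by
      rw [← hcs]
      have := hτcy.two_le_card_support
      omega
    have hj0 : 0 < j := Nat.pos_of_ne_zero (by rintro rfl; rw [mul_zero] at hj; omega)
    have hjn : j - 1 ∈ range (Fintype.card α) := by
      rw [mem_range]
      have h2 : c ≤ Fintype.card α := hcs ▸ card_le_univ _
      have h3 : j ≤ c := by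
        rw [hj]
        exact Nat.le_mul_of_pos_left _ hp.pos
      omega
    have h4 := h _ hjn
    rw [Nat.sub_add_cancel hj0, ← hj] at h4
    unfold prs at h4
    rw [card_eq_zero, filter_eq_empty_iff] at h4
    refine h4 (x := (σ, τ)) (mem_product.2 ⟨hσx, hτx⟩) ⟨fun e => hne e.symm, hσp, ?_⟩
    show τ.cycleType = {c}
    rw [hτcy.cycleType, hcs]
  have hpow : x ^ orderOf ρ = σ ^ orderOf ρ := by
    rw [hx, hd.commute.mul_pow, pow_orderOf_eq_one, one_mul]
  have ho : orderOf σ = p := by rw [hσc.orderOf, hσs]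
  have ho' : orderOf (σ ^ orderOf ρ) = p := by
    rw [Nat.Coprime.orderOf_pow, ho]
    rw [ho]
    exact (Nat.Prime.coprime_iff_not_dvd hp).2 hcop
  have hs : (σ ^ orderOf ρ).support.card ≤ p := by
    rw [← hσs]
    exact card_le_card (support_pow_le σ _)
  have hcyc : (σ ^ orderOf ρ).IsCycle := by
    apply isCycle_of_prime_order
    · rw [ho']; exact hp
    · rw [ho']
      have := hp.pos
      omega
  exact ⟨orderOf ρ, by rw [hpow]; exact hcyc, by rw [hpow, ← hcyc.orderOf, ho']⟩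

end count

end Cfsg.Agent.H559.Rg
end

-- part: H71/Rg/Primes
section
/-!
# The reciprocals of the primes in `((log n)², √n]` (helper71, task 4631 for S5714)

* `block` : `∑ 1/p ≥ 1 / (8 (i + 1))`, `4 ^ i < p ≤ 4 ^ (i + 1)`, `i ≥ 8` (Chebyshev);
* `primes` : the sum over `((log n)², √n]` tends to infinity.
-/

set_option autoImplicit false

namespace Cfsg.Agent.H71.Rg

open Finset Real

theorem theta_sub {a b : ℕ} (h : a ≤ b) : Chebyshev.theta b - Chebyshev.theta a =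
    ∑ p ∈ (Ioc a b).filter Nat.Prime, Real.log p := by
  unfold Chebyshev.theta
  rw [Nat.floor_natCast, Nat.floor_natCast, sum_filter, sum_filter, sum_filter,
    ← Finset.sum_Ioc_consecutive _ (Nat.zero_le a) h]
  ring

theorem nine_le {i : ℕ} (hi : 8 ≤ i) : 9 * (i + 1) ≤ 2 ^ i := by
  induction i, hi using Nat.le_induction with
  | base => norm_num
  | succ n hn ih => rw [pow_succ]; omega

theorem block {i : ℕ} (hi : 8 ≤ i) :
    1 / (8 * ((i : ℝ) + 1)) ≤ ∑ p ∈ (Ioc (4 ^ i) (4 ^ (i + 1))).filter Nat.Prime, (1 : ℝ) / p := by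
  have hl2 : 0 < Real.log 2 := Real.log_pos (by norm_num)
  have hi0 : (0 : ℝ) ≤ i := Nat.cast_nonneg i
  have hlog4 : Real.log 4 = 2 * Real.log 2 := by
    have : (4 : ℝ) = 2 ^ 2 := by norm_num
    rw [this, Real.log_pow]
    norm_num
  have hlogp : ∀ k : ℕ, Real.log ((4 : ℝ) ^ k) = 2 * k * Real.log 2 := by
    intro k
    rw [Real.log_pow, hlog4]
    ring
  -- the lower bound of `θ(4 N) - θ(N)`
  have h1 := Chebyshev.theta_ge (4 ^ (i + 1))
  have h2 := Chebyshev.theta_le_log4_mul_x (x := ((4 ^ i : ℕ) : ℝ)) (Nat.cast_nonneg _)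
  have hs : √(((4 ^ (i + 1) : ℕ) : ℝ)) = 2 * 2 ^ i := by
    have : (((4 ^ (i + 1) : ℕ) : ℝ)) = (2 * 2 ^ i) ^ 2 := by
      push_cast
      rw [mul_pow, ← pow_mul, mul_comm i 2, pow_mul]
      norm_num
      ring
    rw [this, Real.sqrt_sq (by positivity)]
  have h3 : Real.log (((4 ^ (i + 1) : ℕ) : ℝ) + 1) ≤ 2 * (i + 2) * Real.log 2 := by
    have h4 := hlogp (i + 2)
    push_cast at h4
    rw [← h4]
    apply Real.log_le_log (by positivity)
    push_cast
    have : (1 : ℝ) ≤ 4 ^ (i + 1) := one_le_pow₀ (by norm_num)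
    rw [pow_succ (4 : ℝ) (i + 1)]
    linarith only [this]
  have h4 : Real.log (((4 ^ (i + 1) : ℕ) : ℝ)) = 2 * (i + 1) * Real.log 2 := by
    push_cast
    rw [hlogp]
    push_cast
    ring
  rw [hs, h4] at h1
  have h5 : ((4 ^ (i + 1) : ℕ) : ℝ) = 4 * 4 ^ i := by
    push_cast
    ring
  have h6 : ((4 ^ i : ℕ) : ℝ) = 4 ^ i := by push_cast; ring
  have h9 : (9 : ℝ) * (i + 1) ≤ 2 ^ i := by exact_mod_cast nine_le hi
  have h10 : (4 : ℝ) ^ i = 2 ^ i * 2 ^ i := by rw [← mul_pow]; norm_num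
  have hN : 2 * ((i : ℝ) + 2) + 8 * 2 ^ i * (i + 1) ≤ 4 ^ i := by
    rw [h10]
    have h11 : (0 : ℝ) < 2 ^ i := by positivity
    nlinarith only [h9]
  have h7 : 4 ^ i * Real.log 2 ≤ Chebyshev.theta ((4 ^ (i + 1) : ℕ) : ℝ) - Chebyshev.theta ((4 ^ i : ℕ) : ℝ) := by
    rw [hlog4, h6] at h2
    have e1 : ((4 ^ (i + 1) : ℕ) : ℝ) * Real.log 2 - 2 * (i + 2) * Real.log 2 -
        2 * (2 * 2 ^ i) * (2 * (i + 1) * Real.log 2) ≤ Chebyshev.theta ((4 ^ (i + 1) : ℕ) : ℝ) := by linarith only [h1, h3]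
    rw [h5] at e1
    rw [← h5] at e1
    have e2 : Chebyshev.theta ((4 ^ i : ℕ) : ℝ) ≤ 2 * Real.log 2 * 4 ^ i := by rw [h6]; exact h2
    rw [h5] at e1
    have e3 := mul_le_mul_of_nonneg_right hN hl2.le
    rw [h5]
    linarith only [e1, e2, e3]
  rw [theta_sub (Nat.pow_le_pow_right (by norm_num) (Nat.le_succ i))] at h7
  -- compare termwise
  have hD : (0 : ℝ) < 4 * 4 ^ i * (2 * (i + 1) * Real.log 2) := by positivity
  have h8 : ∀ p ∈ (Ioc (4 ^ i) (4 ^ (i + 1))).filter Nat.Prime,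
      Real.log p / (4 * 4 ^ i * (2 * (i + 1) * Real.log 2)) ≤ (1 : ℝ) / p := by
    intro p hp
    rw [mem_filter, mem_Ioc] at hp
    have hp0 : (0 : ℝ) < p := by exact_mod_cast hp.2.pos
    have hple : (p : ℝ) ≤ ((4 ^ (i + 1) : ℕ) : ℝ) := by exact_mod_cast hp.1.2
    have hlp : Real.log p ≤ 2 * (i + 1) * Real.log 2 := by
      rw [← h4]
      exact Real.log_le_log hp0 hple
    have hlp0 : 0 ≤ Real.log p := Real.log_nonneg (by exact_mod_cast hp.2.one_le)
    rw [h5] at hple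
    rw [div_le_div_iff₀ hD hp0, one_mul, mul_comm (Real.log p)]
    exact mul_le_mul hple hlp hlp0 (by positivity)
  calc 1 / (8 * ((i : ℝ) + 1)) = 4 ^ i * Real.log 2 / (4 * 4 ^ i * (2 * (i + 1) * Real.log 2)) := by
        have : (4 : ℝ) ^ i ≠ 0 := by positivity
        have h' : (i : ℝ) + 1 ≠ 0 := by positivity
        field_simp
        norm_num
    _ ≤ (∑ p ∈ (Ioc (4 ^ i) (4 ^ (i + 1))).filter Nat.Prime, Real.log p) /
        (4 * 4 ^ i * (2 * (i + 1) * Real.log 2)) := by gcongr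
    _ = ∑ p ∈ (Ioc (4 ^ i) (4 ^ (i + 1))).filter Nat.Prime,
        Real.log p / (4 * 4 ^ i * (2 * (i + 1) * Real.log 2)) := Finset.sum_div _ _ _
    _ ≤ _ := Finset.sum_le_sum h8

theorem blocks {a b : ℕ} (ha : 8 ≤ a) (hab : a ≤ b) :
    ((harmonic b : ℝ) - harmonic a) / 8 ≤ ∑ p ∈ (Ioc (4 ^ a) (4 ^ b)).filter Nat.Prime, (1 : ℝ) / p := by
  induction b, hab using Nat.le_induction with
  | base => simp
  | succ n hn ih =>
    have h1 : ∑ p ∈ (Ioc (4 ^ a) (4 ^ (n + 1))).filter Nat.Prime, (1 : ℝ) / p =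
        ∑ p ∈ (Ioc (4 ^ a) (4 ^ n)).filter Nat.Prime, (1 : ℝ) / p +
          ∑ p ∈ (Ioc (4 ^ n) (4 ^ (n + 1))).filter Nat.Prime, (1 : ℝ) / p := by
      rw [sum_filter, sum_filter, sum_filter, Finset.sum_Ioc_consecutive _
        (Nat.pow_le_pow_right (by norm_num) hn) (Nat.pow_le_pow_right (by norm_num) (Nat.le_succ n))]
    have h2 := block (i := n) (le_trans ha hn)
    rw [h1, harmonic_succ]
    push_cast
    have h3 : (1 : ℝ) / (8 * ((n : ℝ) + 1)) = ((n : ℝ) + 1)⁻¹ / 8 := by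
      have : (n : ℝ) + 1 ≠ 0 := by (clear * -; positivity)
      field_simp
    rw [h3] at h2
    linarith only [ih, h2]

/-- **The sum of the reciprocals of the primes in `((log n)², √n]` tends to infinity.** -/
theorem primes : ∀ B : ℝ, ∃ N : ℕ, ∀ n : ℕ, N ≤ n →
    B ≤ ∑ p ∈ (Finset.Ioc ⌈Real.log n ^ 2⌉₊ (Nat.sqrt n)).filter Nat.Prime, (1 : ℝ) / p := by
  intro B
  refine ⟨⌈Real.exp (Real.exp (16 * |B| + 11))⌉₊, fun n hn => ?_⟩
  have hB := le_abs_self B
  have hB0 := abs_nonneg B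
  have hl2 : 0 < Real.log 2 := Real.log_pos (by norm_num)
  have hl2' : Real.log 2 < 0.6931471808 := Real.log_two_lt_d9
  have hlog4 : Real.log 4 = 2 * Real.log 2 := by
    have : (4 : ℝ) = 2 ^ 2 := by norm_num
    rw [this, Real.log_pow]
    norm_num
  have hlog16 : Real.log 16 = 4 * Real.log 2 := by
    have : (16 : ℝ) = 2 ^ 4 := by norm_num
    rw [this, Real.log_pow]
    norm_num
  have hn1 : Real.exp (Real.exp (16 * |B| + 11)) ≤ n := (Nat.le_ceil _).trans (by exact_mod_cast hn)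
  have hn0 : (0 : ℝ) < n := (Real.exp_pos _).trans_le hn1
  have hL : Real.exp (16 * |B| + 11) ≤ Real.log n := by
    rw [Real.le_log_iff_exp_le hn0]
    exact hn1
  have hl0 : 0 < Real.log n := (Real.exp_pos _).trans_le hL
  obtain ⟨t, ht⟩ : ∃ t, t = Real.log (Real.log n) := ⟨_, rfl⟩
  have htT : 16 * |B| + 11 ≤ t := by
    rw [ht, Real.le_log_iff_exp_le hl0]
    exact hL
  have het : Real.exp t = Real.log n := by rw [ht, Real.exp_log hl0]
  have ht0 : 0 ≤ t := by linarith only [hB0, htT]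
  have hquad : 1 + t + t ^ 2 / 2 ≤ Real.log n := by
    rw [← het]
    exact Real.quadratic_le_exp_of_nonneg ht0
  -- the upper end
  obtain ⟨L, hLdef⟩ : ∃ L, L = Nat.log 4 (Nat.sqrt n) := ⟨_, rfl⟩
  have hnpos : 0 < n := by exact_mod_cast hn0
  have hsq : 0 < Nat.sqrt n := Nat.sqrt_pos.2 hnpos
  have hL1 : 4 ^ L ≤ Nat.sqrt n := by rw [hLdef]; exact Nat.pow_log_le_self 4 hsq.ne'
  have hL2 : Nat.sqrt n < 4 ^ (L + 1) := by rw [hLdef]; exact Nat.lt_pow_succ_log_self (by norm_num) _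
  have hL3 : Real.log n ≤ (L + 1) * Real.log 16 := by
    have h1 : n < 16 ^ (L + 1) := by
      have h2 := Nat.lt_succ_sqrt' n
      calc n < (Nat.sqrt n).succ ^ 2 := h2
        _ ≤ (4 ^ (L + 1)) ^ 2 := Nat.pow_le_pow_left hL2 2
        _ = 16 ^ (L + 1) := by rw [← pow_mul, mul_comm (L + 1) 2, pow_mul]; norm_num
    have h3 : (n : ℝ) ≤ 16 ^ (L + 1) := by exact_mod_cast h1.le
    have h4 := Real.log_le_log hn0 h3
    rw [Real.log_pow] at h4
    push_cast at h4
    exact h4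
  -- the lower end
  obtain ⟨x, hx⟩ : ∃ x, x = ⌈Real.log n ^ 2⌉₊ := ⟨_, rfl⟩
  have hx1 : Real.log n ^ 2 ≤ x := by rw [hx]; exact Nat.le_ceil _
  have hx2 : (x : ℝ) < Real.log n ^ 2 + 1 := by rw [hx]; exact Nat.ceil_lt_add_one (by positivity)
  have hlog12 : 12 ≤ Real.log n := by linarith only [hB0, htT, hquad, _root_.sq_nonneg (1 * t : ℝ)]
  have hx3 : 1 < x := by
    have : (1 : ℝ) < x := by nlinarith only [hB0, htT, hquad, hx1]
    exact_mod_cast this
  obtain ⟨a, ha⟩ : ∃ a, a = Nat.clog 4 x := ⟨_, rfl⟩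
  have ha1 : x ≤ 4 ^ a := by rw [ha]; exact Nat.le_pow_clog (by norm_num) _
  have ha2 : 4 ^ (a - 1) < x := by rw [ha]; exact Nat.pow_pred_clog_lt_self (by norm_num) hx3
  have ha3 : (a : ℝ) ≤ 2 + 2 * t := by
    have h1 : ((4 : ℝ)) ^ (a - 1) ≤ 2 * Real.log n ^ 2 := by
      have h2 : ((4 : ℝ)) ^ (a - 1) < x := by exact_mod_cast ha2
      nlinarith only [hB0, htT, hquad, hx2, h2]
    have h3 := Real.log_le_log (by positivity) h1
    rw [Real.log_pow, Real.log_mul (by norm_num) (by positivity), Real.log_pow, ← ht, hlog4] at h3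
    push_cast at h3
    have h4 : (a : ℝ) - 1 ≤ ((a - 1 : ℕ) : ℝ) := by
      rcases Nat.eq_zero_or_pos a with h0 | h0
      · rw [h0]; norm_num
      · rw [Nat.cast_sub h0]; norm_num
    have hl2'' : 0.6931471803 < Real.log 2 := Real.log_two_gt_d9
    by_contra hcon
    push Not at hcon
    nlinarith only [hl2', h3, h4, hl2'', hcon]
  have ha4 : 8 ≤ a := by
    by_contra hcon
    push Not at hcon
    have h1 : x ≤ 4 ^ 7 := ha1.trans (Nat.pow_le_pow_right (by norm_num) (by omega))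
    have h2 : (x : ℝ) ≤ 4 ^ 7 := by exact_mod_cast h1
    have h3 : (72 : ℝ) ≤ Real.log n := by nlinarith only [hB0, htT, hquad]
    have h4 : (128 : ℝ) < Real.log n := by
      have : Real.exp 1 ^ 11 ≤ Real.log n := by
        rw [← Real.exp_nat_mul, ← het]
        apply Real.exp_le_exp.2
        push_cast
        linarith only [hB0, htT]
      have h5 : (2 : ℝ) ^ 11 ≤ Real.exp 1 ^ 11 := by
        gcongr
        have := Real.exp_one_gt_d9
        linarith only [this]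
      have h6 : (2 : ℝ) ^ 11 = 2048 := by norm_num
      rw [h6] at h5
      linarith only [this, h5]
    nlinarith only [hx1, h2, h4]
  have haL : a ≤ L := by
    have h1 : (a : ℝ) < L + 1 := by
      by_contra hcon
      push Not at hcon
      have h2 : Real.log n ≤ (2 + 2 * t) * (4 * Real.log 2) := by
        calc Real.log n ≤ (L + 1) * Real.log 16 := hL3
          _ ≤ a * Real.log 16 := by
            apply mul_le_mul_of_nonneg_right hcon
            rw [hlog16]; positivity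
          _ ≤ (2 + 2 * t) * (4 * Real.log 2) := by
            rw [hlog16]
            apply mul_le_mul_of_nonneg_right ha3
            positivity
      nlinarith only [hB0, hl2', hlog16, htT, hquad, hL3, ha3, hcon]
    have h3 : a < L + 1 := by exact_mod_cast h1
    omega
  -- the sum
  have hsub : (Ioc (4 ^ a) (4 ^ L)).filter Nat.Prime ⊆ (Ioc x (Nat.sqrt n)).filter Nat.Prime := by
    intro p hp
    rw [mem_filter, mem_Ioc] at hp ⊢
    exact ⟨⟨lt_of_le_of_lt ha1 hp.1.1, hp.1.2.trans hL1⟩, hp.2⟩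
  rw [← hx]
  refine le_trans ?_ (Finset.sum_le_sum_of_subset_of_nonneg hsub fun p _ _ => by (clear * -; positivity))
  refine le_trans ?_ (blocks ha4 haL)
  have hH1 := log_add_one_le_harmonic L
  have hH2 := harmonic_le_one_add_log a
  have ha0 : (0 : ℝ) < a := by exact_mod_cast (by omega : 0 < a)
  have h1 : Real.log a ≤ Real.log 4 + t / 2 - 1 / 2 := by
    have h2 : Real.log a ≤ Real.log (4 * ((1 + t) / 2)) := by
      apply Real.log_le_log ha0
      linarith only [ha3]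
    rw [Real.log_mul (by norm_num) (by positivity)] at h2
    have h3 := Real.log_le_sub_one_of_pos (x := (1 + t) / 2) (by positivity)
    linarith only [h2, h3]
  have h2 : t - (Real.log 16 - 1) ≤ Real.log ((L + 1 : ℕ) : ℝ) := by
    have h16 : 0 < Real.log 16 := by rw [hlog16]; positivity
    have h3 : Real.log n / Real.log 16 ≤ ((L + 1 : ℕ) : ℝ) := by
      rw [div_le_iff₀ h16]
      push_cast
      exact hL3
    have h4 := Real.log_le_log (by positivity) h3
    rw [Real.log_div hl0.ne' h16.ne', ← ht] at h4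
    have h5 := Real.log_le_sub_one_of_pos h16
    linarith only [h4, h5]
  rw [hlog4] at h1
  rw [hlog16] at h2
  push_cast at hH1 h2
  linarith only [hB, hl2', htT, hH2, h1, hH1, h2]

end Cfsg.Agent.H71.Rg
end

-- part: H559/Rg/CyclePow
section
/-!
# S5714, task A2 (helper559): almost all permutations have a power which is a cycle of prime length `p ≤ n - 3`
-/

set_option autoImplicit false

namespace Cfsg.Agent.H559.Rg

open Equiv Equiv.Perm Finset

theorem sum_inner {n p : ℕ} (hp : 0 < p) :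
    ∑ j ∈ range n, 1 / (p : ℝ) * (1 / ((p * (j + 1) : ℕ) : ℝ)) ≤ (1 + Real.log n) * ((p : ℝ) ^ 2)⁻¹ := by
  have hp0 : (p : ℝ) ≠ 0 := by exact_mod_cast hp.ne'
  have h1 : ∀ j ∈ range n, 1 / (p : ℝ) * (1 / ((p * (j + 1) : ℕ) : ℝ)) = ((p : ℝ) ^ 2)⁻¹ * ((j : ℝ) + 1)⁻¹ := by
    intro j _
    have hj : (j : ℝ) + 1 ≠ 0 := by positivity
    push_cast
    field_simp
  rw [sum_congr rfl h1, ← mul_sum, mul_comm]
  apply mul_le_mul_of_nonneg_right _ (by positivity)
  have h2 := harmonic_le_one_add_log n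
  have h3 : ((harmonic n : ℚ) : ℝ) = ∑ j ∈ range n, ((j : ℝ) + 1)⁻¹ := by
    unfold harmonic
    push_cast
    rfl
  rwa [h3] at h2

/-- **A2** -/
theorem cycle_pow : ∀ ε : ℝ, 0 < ε → ∃ N : ℕ, ∀ n : ℕ, N ≤ n → (1 - ε) * (n.factorial : ℝ) ≤
    Nat.card {x : Equiv.Perm (Fin n) // ∃ m p : ℕ, p.Prime ∧ p + 3 ≤ n ∧ (x ^ m).IsCycle ∧ (x ^ m).support.card = p} := by
  intro ε hε
  obtain ⟨N₁, hN₁⟩ := Cfsg.Agent.H71.Rg.primes (2 / ε)
  refine ⟨max N₁ (max ⌈Real.exp (max 1 (4 / ε))⌉₊ 16), fun n hn => ?_⟩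
  have hn1 : N₁ ≤ n := (le_max_left _ _).trans hn
  have hn2 : ⌈Real.exp (max 1 (4 / ε))⌉₊ ≤ n := ((le_max_left _ _).trans (le_max_right _ _)).trans hn
  have hn3 : 16 ≤ n := ((le_max_right _ _).trans (le_max_right _ _)).trans hn
  have hμ := hN₁ n hn1
  set L := ⌈Real.log n ^ 2⌉₊ with hL
  set P := (Ioc L (Nat.sqrt n)).filter Nat.Prime with hP
  set μ : ℝ := ∑ p ∈ P, (1 : ℝ) / p with hμd
  set t := Real.log n with ht
  have hnpos : (0 : ℝ) < n := by exact_mod_cast (by omega : 0 < n)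
  have ht1 : max 1 (4 / ε) ≤ t := by
    rw [ht, Real.le_log_iff_exp_le hnpos]
    exact (Nat.le_ceil _).trans (by exact_mod_cast hn2)
  have t1 : 1 ≤ t := (le_max_left _ _).trans ht1
  have t2 : 4 / ε ≤ t := (le_max_right _ _).trans ht1
  have hμ0 : 0 < μ := lt_of_lt_of_le (by positivity) hμ
  have hF : (0 : ℝ) < (n.factorial : ℝ) := by exact_mod_cast n.factorial_pos
  have hcard : Fintype.card (Fin n) = n := Fintype.card_fin n
  have hsq : Nat.sqrt n + 3 ≤ n := by
    have h1 := Nat.sqrt_le n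
    have h2 : 4 ≤ Nat.sqrt n := by rw [Nat.le_sqrt]; omega
    nlinarith only [h1, h2]
  have hPp : ∀ p ∈ P, p.Prime ∧ p + 3 ≤ n := by
    intro p hp
    obtain ⟨h1, h2⟩ := mem_filter.1 hp
    have := (mem_Ioc.1 h1).2
    exact ⟨h2, by omega⟩
  -- second moment
  have b1 : ((univ.filter fun x : Perm (Fin n) => ∀ k ∈ P, N x k = 0).card : ℝ) ≤ ε / 2 * n.factorial := by
    have h1 := second (α := Fin n) P (fun k hk => ⟨(hPp k hk).1.two_le, by
      rw [hcard]
      have := (hPp k hk).2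
      omega⟩) hμ0
    rw [hcard] at h1
    have h2 : ((univ.filter fun x : Perm (Fin n) => ∀ k ∈ P, N x k = 0).card : ℝ) * (2 / ε) ≤ n.factorial :=
      (mul_le_mul_of_nonneg_left hμ (Nat.cast_nonneg _)).trans h1
    rw [mul_div_assoc', div_le_iff₀ hε] at h2
    linarith only [h2]
  -- first moment
  have b2 : ((univ.filter fun x : Perm (Fin n) => ∃ p ∈ P, ∃ j ∈ range (Fintype.card (Fin n)),
      prs x p (p * (j + 1)) ≠ 0).card : ℝ) ≤ ε / 2 * n.factorial := by
    refine (card_bad_le (α := Fin n) P fun k hk => (hPp k hk).1.two_le).trans ?_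
    rw [hcard, mul_comm]
    apply mul_le_mul_of_nonneg_right _ hF.le
    have h1 : ∑ p ∈ P, ∑ j ∈ range n, 1 / (p : ℝ) * (1 / ((p * (j + 1) : ℕ) : ℝ)) ≤
        ∑ p ∈ P, (1 + t) * ((p : ℝ) ^ 2)⁻¹ := sum_le_sum fun p hp => sum_inner (hPp p hp).1.pos
    refine h1.trans ?_
    rw [← mul_sum]
    have hL0 : L ≠ 0 := (Nat.ceil_pos.2 (pow_pos (by linarith only [t1]) 2)).ne'
    have h2 : ∑ p ∈ P, ((p : ℝ) ^ 2)⁻¹ ≤ (t ^ 2)⁻¹ := by
      have h3 : ∑ p ∈ P, ((p : ℝ) ^ 2)⁻¹ ≤ ∑ p ∈ Ioc L (Nat.sqrt n), ((p : ℝ) ^ 2)⁻¹ :=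
        sum_le_sum_of_subset_of_nonneg (filter_subset _ _) fun _ _ _ => by (clear * -; positivity)
      refine h3.trans ?_
      by_cases hLs : L ≤ Nat.sqrt n
      · have h4 := sum_Ioc_inv_sq_le_sub (α := ℝ) hL0 hLs
        have h5 : (0 : ℝ) ≤ ((Nat.sqrt n : ℕ) : ℝ)⁻¹ := by positivity
        have h6 : ((L : ℕ) : ℝ)⁻¹ ≤ (t ^ 2)⁻¹ := by
          apply inv_anti₀ (by positivity)
          exact Nat.le_ceil _
        linarith only [h4, h5, h6]
      · rw [Ioc_eq_empty (by omega), sum_empty]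
        positivity
    calc (1 + t) * ∑ p ∈ P, ((p : ℝ) ^ 2)⁻¹ ≤ (1 + t) * (t ^ 2)⁻¹ := by gcongr
      _ ≤ (2 * t) * (t ^ 2)⁻¹ := by gcongr; linarith only [t1]
      _ = 2 / t := by field_simp
      _ ≤ ε / 2 := by
        rw [div_le_iff₀ (by linarith only [t1])]
        rw [div_le_iff₀ hε] at t2
        linarith only [t2]
  -- conclusion
  classical
  rw [Nat.card_eq_fintype_card, Fintype.card_subtype]
  set G := univ.filter fun x : Perm (Fin n) => ∃ m p : ℕ, p.Prime ∧ p + 3 ≤ n ∧ (x ^ m).IsCycle ∧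
    (x ^ m).support.card = p with hG
  set Z := univ.filter fun x : Perm (Fin n) => ∀ k ∈ P, N x k = 0 with hZ
  set B := univ.filter fun x : Perm (Fin n) => ∃ p ∈ P, ∃ j ∈ range (Fintype.card (Fin n)),
    prs x p (p * (j + 1)) ≠ 0 with hB
  have h1 : (univ : Finset (Perm (Fin n))) ⊆ G ∪ (Z ∪ B) := by
    intro x _
    rw [mem_union, mem_union]
    by_cases hz : x ∈ Z
    · exact Or.inr (Or.inl hz)
    by_cases hb : x ∈ B
    · exact Or.inr (Or.inr hb)
    left
    rw [hZ, mem_filter] at hz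
    rw [hB, mem_filter] at hb
    simp only [mem_univ, true_and] at hz hb
    push Not at hz hb
    obtain ⟨p, hp, hNp⟩ := hz
    obtain ⟨m, h3, h4⟩ := good_pow (hPp p hp).1 hNp (hb p hp)
    exact mem_filter.2 ⟨mem_univ _, m, p, (hPp p hp).1, (hPp p hp).2, h3, h4⟩
  have h2 := card_le_card h1
  rw [card_univ, Fintype.card_perm, hcard] at h2
  have h3 := (h2.trans (card_union_le _ _)).trans (Nat.add_le_add_left (card_union_le _ _) _)
  have h4 : (n.factorial : ℝ) ≤ (G.card : ℝ) + ((Z.card : ℝ) + (B.card : ℝ)) := by exact_mod_cast h3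
  linarith only [b1, b2, h4]

end Cfsg.Agent.H559.Rg
end

-- part: H451/Rg/TransPrim
section
/-!
# Pairs of permutations generating an intransitive or an imprimitive group are rare
(task [A3] of S5714)
-/

set_option autoImplicit false

namespace Cfsg.Agent.H451.Rg

open Equiv Nat
open scoped Pointwise

/-- pairs lying in a conjugate of `H` -/
theorem conj_pairs {G : Type*} [Group G] [Finite G] (H : Subgroup G) :
    Nat.card {xy : G × G // ∃ g : G, g * xy.1 * g⁻¹ ∈ H ∧ g * xy.2 * g⁻¹ ∈ H} ≤ Nat.card G * Nat.card H := by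
  classical
  have hpos : 0 < Nat.card H := Nat.card_pos
  refine Nat.le_of_mul_le_mul_right ?_ hpos
  rw [mul_assoc, ← Nat.card_prod, ← Nat.card_prod, ← Nat.card_prod]
  let F : {xy : G × G // ∃ g : G, g * xy.1 * g⁻¹ ∈ H ∧ g * xy.2 * g⁻¹ ∈ H} × H → G × (H × H) := fun u =>
    (u.2.1 * u.1.2.choose, ⟨u.2.1 * (u.1.2.choose * u.1.1.1 * u.1.2.choose⁻¹) * u.2.1⁻¹,
        H.mul_mem (H.mul_mem u.2.2 u.1.2.choose_spec.1) (H.inv_mem u.2.2)⟩,
      ⟨u.2.1 * (u.1.2.choose * u.1.1.2 * u.1.2.choose⁻¹) * u.2.1⁻¹,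
        H.mul_mem (H.mul_mem u.2.2 u.1.2.choose_spec.2) (H.inv_mem u.2.2)⟩)
  refine Nat.card_le_card_of_injective F ?_
  rintro ⟨⟨⟨x, y⟩, h⟩, k⟩ ⟨⟨⟨x', y'⟩, h'⟩, k'⟩ e
  simp only [F, Prod.mk.injEq, Subtype.mk.injEq] at e
  obtain ⟨e1, e2, e3⟩ := e
  have hx : x = x' := by
    have a1 : (k.1 * h.choose) * x * (k.1 * h.choose)⁻¹ = (k'.1 * h'.choose) * x' * (k'.1 * h'.choose)⁻¹ := by
      simpa only [mul_assoc, _root_.mul_inv_rev] using e2
    rw [e1] at a1
    exact mul_left_cancel (mul_right_cancel a1)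
  have hy : y = y' := by
    have a1 : (k.1 * h.choose) * y * (k.1 * h.choose)⁻¹ = (k'.1 * h'.choose) * y' * (k'.1 * h'.choose)⁻¹ := by
      simpa only [mul_assoc, _root_.mul_inv_rev] using e3
    rw [e1] at a1
    exact mul_left_cancel (mul_right_cancel a1)
  subst hx hy
  have hk : k = k' := Subtype.ext (mul_right_cancel e1)
  subst hk
  rfl

theorem ais {α : Type*} (a : Perm α) (i : α) : a (a⁻¹ i) = i := by simp

/-- the stabiliser of the first `k` points -/
def HS (n k : ℕ) : Subgroup (Perm (Fin n)) where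
  carrier := {x | ∀ i, ((x i).1 < k ↔ i.1 < k)}
  one_mem' := fun i => Iff.rfl
  mul_mem' {a b} ha hb := fun i => (ha (b i)).trans (hb i)
  inv_mem' {a} ha := fun i => by
    have := ha (a⁻¹ i)
    rw [ais] at this
    exact this.symm

theorem card_lt {n k : ℕ} (hk : k ≤ n) : Fintype.card {i : Fin n // i.1 < k} = k := by
  have e : {i : Fin n // i.1 < k} ≃ Fin k :=
    ⟨fun i => ⟨i.1.1, i.2⟩, fun j => ⟨⟨j.1, j.2.trans_le hk⟩, j.2⟩, fun i => rfl, fun j => rfl⟩
  rw [Fintype.card_congr e, Fintype.card_fin]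

theorem card_HS {n k : ℕ} (hk : k ≤ n) : Nat.card (HS n k) = k ! * (n - k)! := by
  classical
  have h1 : Nat.card (HS n k) = Fintype.card {g : Perm (Fin n) //
      (fun i : Fin n => decide (i.1 < k)) ∘ g = (fun i : Fin n => decide (i.1 < k))} := by
    rw [← Nat.card_eq_fintype_card]
    refine Nat.card_congr (Equiv.subtypeEquivRight fun g => ?_)
    constructor
    · intro h
      funext i
      exact decide_eq_decide.mpr (h i)
    · intro h i
      exact decide_eq_decide.mp (congrFun h i)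
  rw [h1, DomMulAct.stabilizer_card, Fintype.prod_bool]
  have e1 : Fintype.card {a : Fin n // decide (a.1 < k) = true} = k := by
    have h2 : Fintype.card {a : Fin n // decide (a.1 < k) = true} = Fintype.card {a : Fin n // a.1 < k} :=
      Fintype.card_congr (Equiv.subtypeEquivRight fun i => by simp)
    rw [h2, card_lt hk]
  have e2 : Fintype.card {a : Fin n // decide (a.1 < k) = false} = n - k := by
    have : Fintype.card {a : Fin n // decide (a.1 < k) = false} = Fintype.card {a : Fin n // ¬ a.1 < k} :=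
      Fintype.card_congr (Equiv.subtypeEquivRight fun i => by simp)
    rw [this, Fintype.card_subtype_compl, card_lt hk, Fintype.card_fin]
  rw [e1, e2]

/-- a set of size `k` invariant under two permutations -/
theorem mem_HS_of {n k : ℕ} (S : Finset (Fin n)) (hS : S.card = k) {x y : Perm (Fin n)}
    (hx : ∀ i, x i ∈ S ↔ i ∈ S) (hy : ∀ i, y i ∈ S ↔ i ∈ S) :
    ∃ g : Perm (Fin n), g * x * g⁻¹ ∈ HS n k ∧ g * y * g⁻¹ ∈ HS n k := by
  classical
  have hk : k ≤ n := by rw [← hS]; simpa only [_root_.Fintype.card_fin] using S.card_le_univ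
  have hc : Fintype.card {i // i ∈ S} = Fintype.card {i : Fin n // i.1 < k} := by
    rw [card_lt hk, Fintype.card_coe, hS]
  let e := Fintype.equivOfCardEq hc
  let g : Perm (Fin n) := e.extendSubtype
  have hg : ∀ i, ((g i).1 < k ↔ i ∈ S) := by
    intro i
    constructor
    · intro h
      by_contra hi
      exact e.extendSubtype_not_mem i hi h
    · intro h
      exact e.extendSubtype_mem i h
  have key : ∀ x : Perm (Fin n), (∀ i, x i ∈ S ↔ i ∈ S) → g * x * g⁻¹ ∈ HS n k := by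
    intro x hx i
    show ((g (x (g⁻¹ i))).1 < k ↔ i.1 < k)
    rw [hg, hx, ← hg, ais]
  exact ⟨g, key x hx, key y hy⟩

theorem not_trans_set {n : ℕ} {x y : Perm (Fin n)}
    (h : ¬ MulAction.IsPretransitive (Subgroup.closure {x, y}) (Fin n)) :
    ∃ S : Finset (Fin n), 1 ≤ S.card ∧ S.card ≤ n / 2 ∧ (∀ i, x i ∈ S ↔ i ∈ S) ∧ (∀ i, y i ∈ S ↔ i ∈ S) := by
  classical
  set G := Subgroup.closure {x, y} with hG
  have h1 : ∃ a b : Fin n, ∀ g : G, g • a ≠ b := by
    by_contra hc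
    push Not at hc
    exact h ⟨hc⟩
  obtain ⟨a, b, hab⟩ := h1
  let O : Finset (Fin n) := Finset.univ.filter fun i => i ∈ MulAction.orbit G a
  have hO : ∀ z : Perm (Fin n), z ∈ G → ∀ i, z i ∈ O ↔ i ∈ O := by
    intro z hz i
    simp only [O, Finset.mem_filter, Finset.mem_univ, true_and]
    have : z i = (⟨z, hz⟩ : G) • i := rfl
    rw [this, ← MulAction.orbit_eq_iff, ← MulAction.orbit_eq_iff, MulAction.orbit_smul]
  have hx : x ∈ G := Subgroup.subset_closure (by simp)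
  have hy : y ∈ G := Subgroup.subset_closure (by simp)
  have ha : a ∈ O := by simp only [O, _root_.Finset.mem_filter, _root_.Finset.mem_univ, _root_.MulAction.mem_orbit_self, _root_.and_self]
  have hb : b ∉ O := by
    simp only [O, Finset.mem_filter, Finset.mem_univ, true_and, MulAction.mem_orbit_iff, not_exists]
    exact hab
  have hcO : Oᶜ.card = n - O.card := by rw [Finset.card_compl, Fintype.card_fin]
  have hOn : O.card ≤ n := by simpa only [_root_.Fintype.card_fin] using O.card_le_univ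
  by_cases hle : O.card ≤ n / 2
  · exact ⟨O, Finset.card_pos.mpr ⟨a, ha⟩, hle, hO x hx, hO y hy⟩
  · refine ⟨Oᶜ, Finset.card_pos.mpr ⟨b, by simpa using hb⟩, by omega, fun i => ?_, fun i => ?_⟩
    · rw [Finset.mem_compl, Finset.mem_compl, hO x hx]
    · rw [Finset.mem_compl, Finset.mem_compl, hO y hy]

theorem card_le_sum {ι α : Type*} [Finite α] (s : Finset ι) (P : α → Prop) (Q : ι → α → Prop)
    (h : ∀ a, P a → ∃ i ∈ s, Q i a) : Nat.card {a // P a} ≤ ∑ i ∈ s, Nat.card {a // Q i a} := by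
  classical
  have := Fintype.ofFinite α
  simp only [Nat.card_eq_fintype_card, Fintype.card_subtype]
  refine (Finset.card_le_card (t := s.biUnion fun i => Finset.univ.filter fun a => Q i a) ?_).trans
    Finset.card_biUnion_le
  intro a ha
  simp only [Finset.mem_filter, Finset.mem_univ, true_and] at ha
  obtain ⟨i, hi, hq⟩ := h a ha
  simp only [Finset.mem_biUnion, Finset.mem_filter, Finset.mem_univ, true_and]
  exact ⟨i, hi, hq⟩

theorem choose_two_le {n k : ℕ} (h2 : 2 ≤ k) (hk : k ≤ n / 2) : n.choose 2 ≤ n.choose k := by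
  induction k, h2 using Nat.le_induction with
  | base => exact le_rfl
  | succ m hm ih =>
    exact (ih (by omega)).trans (Nat.choose_le_succ_of_lt_half_left (by omega))

theorem not_trans_nat (n : ℕ) :
    Nat.card {xy : Perm (Fin n) × Perm (Fin n) //
      ¬ MulAction.IsPretransitive (Subgroup.closure {xy.1, xy.2}) (Fin n)} ≤
      ∑ k ∈ Finset.Icc 1 (n / 2), n ! * (k ! * (n - k)!) := by
  refine (card_le_sum (Finset.Icc 1 (n / 2)) _
    (fun k (xy : Perm (Fin n) × Perm (Fin n)) => ∃ g : Perm (Fin n), g * xy.1 * g⁻¹ ∈ HS n k ∧ g * xy.2 * g⁻¹ ∈ HS n k)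
    ?_).trans ?_
  · intro xy h
    obtain ⟨S, h1, h2, h3, h4⟩ := not_trans_set h
    exact ⟨S.card, Finset.mem_Icc.mpr ⟨h1, h2⟩, mem_HS_of S rfl h3 h4⟩
  · refine Finset.sum_le_sum fun k hk => ?_
    have hk' := Finset.mem_Icc.mp hk
    refine (conj_pairs (HS n k)).trans ?_
    rw [card_HS (by omega), Nat.card_perm, Nat.card_eq_fintype_card, Fintype.card_fin]

theorem not_trans : ∀ ε : ℝ, 0 < ε → ∃ N : ℕ, ∀ n : ℕ, N ≤ n →
    (Nat.card {xy : Equiv.Perm (Fin n) × Equiv.Perm (Fin n) //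
      ¬ MulAction.IsPretransitive (Subgroup.closure {xy.1, xy.2}) (Fin n)} : ℝ) ≤ ε * (n.factorial : ℝ) ^ 2 := by
  intro ε hε
  obtain ⟨N, hN⟩ := exists_nat_gt (3 / ε)
  refine ⟨N + 2, fun n hn => ?_⟩
  have hn2 : 2 ≤ n := by omega
  have hnR : (2 : ℝ) ≤ n := by exact_mod_cast hn2
  have hf : (0 : ℝ) < (n.factorial : ℝ) := by exact_mod_cast n.factorial_pos
  have hn1 : (0 : ℝ) < (n : ℝ) - 1 := by linarith only [hnR]
  have hterm : ∀ k ∈ Finset.Icc 1 (n / 2), ((n ! * (k ! * (n - k)!) : ℕ) : ℝ) ≤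
      (n ! : ℝ) ^ 2 * (if k = 1 then 1 / ((n : ℝ) - 1) else 2 / (n * ((n : ℝ) - 1))) := by
    intro k hk
    obtain ⟨hk1, hk2⟩ := Finset.mem_Icc.mp hk
    have hkn : k ≤ n := by omega
    have hc : n.choose k * k ! * (n - k)! = n ! := Nat.choose_mul_factorial_mul_factorial hkn
    have hcR : (n.choose k : ℝ) * ((k ! : ℝ) * ((n - k)! : ℝ)) = (n ! : ℝ) := by
      rw [← mul_assoc]; exact_mod_cast hc
    have hcpos : (0 : ℝ) < (n.choose k : ℝ) := by exact_mod_cast Nat.choose_pos hkn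
    have e1 : ((k ! : ℝ) * ((n - k)! : ℝ)) = (n ! : ℝ) * (1 / (n.choose k : ℝ)) := by
      rw [← hcR]; field_simp
    push_cast
    rw [e1, ← mul_assoc, ← pow_two]
    refine mul_le_mul_of_nonneg_left ?_ (by positivity)
    split_ifs with hk0
    · subst hk0
      rw [Nat.choose_one_right]
      exact one_div_le_one_div_of_le hn1 (by linarith only [])
    · have h2 : n.choose 2 ≤ n.choose k := choose_two_le (by omega) hk2
      have h3 : ((n.choose 2 : ℕ) : ℝ) = n * ((n : ℝ) - 1) / 2 := Nat.cast_choose_two ℝ n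
      have h4 : (n : ℝ) * ((n : ℝ) - 1) / 2 ≤ (n.choose k : ℝ) := by rw [← h3]; exact_mod_cast h2
      have h5 : 2 / ((n : ℝ) * ((n : ℝ) - 1)) = 1 / (n * ((n : ℝ) - 1) / 2) := by field_simp
      rw [h5]
      exact one_div_le_one_div_of_le (by positivity) h4
  have hsum : ((∑ k ∈ Finset.Icc 1 (n / 2), n ! * (k ! * (n - k)!) : ℕ) : ℝ) ≤
      (n ! : ℝ) ^ 2 * (3 / ((n : ℝ) - 1)) := by
    rw [Nat.cast_sum]
    refine (Finset.sum_le_sum hterm).trans ?_
    rw [← Finset.mul_sum]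
    refine mul_le_mul_of_nonneg_left ?_ (by positivity)
    have hle : ∀ k ∈ Finset.Icc 1 (n / 2),
        (if k = 1 then 1 / ((n : ℝ) - 1) else 2 / (n * ((n : ℝ) - 1))) ≤
          (if k = 1 then 1 / ((n : ℝ) - 1) else 0) + 2 / (n * ((n : ℝ) - 1)) := by
      intro k _
      split_ifs
      · have : (0 : ℝ) ≤ 2 / (n * ((n : ℝ) - 1)) := by positivity
        linarith only [this]
      · linarith only []
    refine (Finset.sum_le_sum hle).trans ?_
    rw [Finset.sum_add_distrib, Finset.sum_ite_eq' (Finset.Icc 1 (n / 2)) 1 fun _ => 1 / ((n : ℝ) - 1),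
      if_pos (Finset.mem_Icc.mpr ⟨le_rfl, by omega⟩), Finset.sum_const, Nat.card_Icc, nsmul_eq_mul]
    have hcard : ((n / 2 + 1 - 1 : ℕ) : ℝ) ≤ n := by
      have : n / 2 + 1 - 1 ≤ n := by omega
      exact_mod_cast this
    have : ((n / 2 + 1 - 1 : ℕ) : ℝ) * (2 / (n * ((n : ℝ) - 1))) ≤ n * (2 / (n * ((n : ℝ) - 1))) :=
      mul_le_mul_of_nonneg_right hcard (by positivity)
    have e : (n : ℝ) * (2 / (n * ((n : ℝ) - 1))) = 2 / ((n : ℝ) - 1) := by
      field_simp
    rw [e] at this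
    have e2 : (3 : ℝ) / ((n : ℝ) - 1) = 1 / ((n : ℝ) - 1) + 2 / ((n : ℝ) - 1) := by ring
    rw [e2]
    linarith only [this]
  refine (Nat.cast_le.mpr (not_trans_nat n)).trans (hsum.trans ?_)
  rw [mul_comm]
  refine mul_le_mul_of_nonneg_right ?_ (by positivity)
  rw [div_le_iff₀ hn1]
  have h6 : (3 : ℝ) / ε < n - 1 := by
    have : (N : ℝ) + 2 ≤ n := by exact_mod_cast hn
    linarith only [hN, this]
  rw [div_lt_iff₀ hε] at h6
  linarith only [h6]

/-! ### imprimitive groups -/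

/-- the stabiliser of the partition given by `c` -/
def HP {n b : ℕ} (c : Fin n → Fin b) : Subgroup (Perm (Fin n)) where
  carrier := {x | ∃ σ : Perm (Fin b), ∀ i, c (x i) = σ (c i)}
  one_mem' := ⟨1, fun _ => rfl⟩
  mul_mem' := by
    rintro x y ⟨s, hs⟩ ⟨t, ht⟩
    exact ⟨s * t, fun i => by rw [Perm.mul_apply, hs, ht, Perm.mul_apply]⟩
  inv_mem' := by
    rintro x ⟨s, hs⟩
    refine ⟨s⁻¹, fun i => ?_⟩
    have := hs (x⁻¹ i)
    rw [ais] at this
    rw [this]
    simp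

theorem mem_HP_of {n b : ℕ} {c : Fin n → Fin b} (hs : Function.Surjective c) {x : Perm (Fin n)}
    (h : ∀ i j, c i = c j ↔ c (x i) = c (x j)) : x ∈ HP c := by
  choose r hr using hs
  have hinj : Function.Injective fun j => c (x (r j)) := by
    intro j k hjk
    have := (h (r j) (r k)).mpr hjk
    rwa [hr, hr] at this
  refine ⟨Equiv.ofBijective _ (Finite.injective_iff_bijective.mp hinj), fun i => ?_⟩
  show c (x i) = c (x (r (c i)))
  exact (h i (r (c i))).mp (hr (c i)).symm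

theorem card_HP {n b a : ℕ} (c : Fin n → Fin b) (hc : ∀ j, Fintype.card {i // c i = j} = a) :
    Nat.card (HP c) ≤ b ! * (a !) ^ b := by
  classical
  refine (card_le_sum Finset.univ (fun x : Perm (Fin n) => x ∈ HP c)
    (fun (σ : Perm (Fin b)) (x : Perm (Fin n)) => ∀ i, c (x i) = σ (c i))
    (fun x hx => by obtain ⟨σ, h⟩ := hx; exact ⟨σ, Finset.mem_univ _, h⟩)).trans ?_
  have hle : ∀ σ ∈ (Finset.univ : Finset (Perm (Fin b))),
      Nat.card {x : Perm (Fin n) // ∀ i, c (x i) = σ (c i)} ≤ (a !) ^ b := by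
    intro σ _
    rcases isEmpty_or_nonempty {x : Perm (Fin n) // ∀ i, c (x i) = σ (c i)} with he | ⟨⟨x0, h0⟩⟩
    · simp only [_root_.Nat.card_eq_fintype_card, _root_.Fintype.card_eq_zero, _root_.zero_le]
    · have h1 : Nat.card {g : Perm (Fin n) // c ∘ g = c} = (a !) ^ b := by
        rw [Nat.card_eq_fintype_card, DomMulAct.stabilizer_card]
        rw [Finset.prod_congr rfl fun j _ => by rw [hc j], Finset.prod_const, Finset.card_univ,
          Fintype.card_fin]
      rw [← h1]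
      refine Nat.card_le_card_of_injective (fun x => ⟨x0⁻¹ * x.1, ?_⟩) ?_
      · funext i
        have h2 := h0 (x0⁻¹ (x.1 i))
        rw [ais, x.2 i] at h2
        exact (σ.injective h2).symm
      · intro x y hxy
        exact Subtype.ext (mul_left_cancel (Subtype.mk.inj hxy))
  refine (Finset.sum_le_sum hle).trans ?_
  rw [Finset.sum_const, Finset.card_univ, Fintype.card_perm, Fintype.card_fin, smul_eq_mul]

theorem exists_conj {n b : ℕ} {c c0 : Fin n → Fin b}
    (h : ∀ j, Fintype.card {i // c i = j} = Fintype.card {i // c0 i = j}) :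
    ∃ g : Perm (Fin n), ∀ i, c0 (g i) = c i := by
  classical
  let e : ∀ j, {i // c i = j} ≃ {i // c0 i = j} := fun j => Fintype.equivOfCardEq (h j)
  let g : Perm (Fin n) := (Equiv.sigmaFiberEquiv c).symm.trans
    ((Equiv.sigmaCongrRight e).trans (Equiv.sigmaFiberEquiv c0))
  refine ⟨g, fun i => ?_⟩
  exact (e (c i) ⟨i, rfl⟩).2

/-- a balanced colouring -/
def Bal {n b : ℕ} (a : ℕ) (c : Fin n → Fin b) : Prop := ∀ j, Fintype.card {i // c i = j} = a

theorem bad_le {n b a : ℕ} :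
    Nat.card {xy : Perm (Fin n) × Perm (Fin n) // ∃ c : Fin n → Fin b, Bal a c ∧ xy.1 ∈ HP c ∧ xy.2 ∈ HP c} ≤
      n ! * (b ! * (a !) ^ b) := by
  classical
  by_cases h : ∃ c0 : Fin n → Fin b, Bal a c0
  · obtain ⟨c0, h0⟩ := h
    have h1 : Nat.card {xy : Perm (Fin n) × Perm (Fin n) //
        ∃ c : Fin n → Fin b, Bal a c ∧ xy.1 ∈ HP c ∧ xy.2 ∈ HP c} ≤
        Nat.card {xy : Perm (Fin n) × Perm (Fin n) //
          ∃ g : Perm (Fin n), g * xy.1 * g⁻¹ ∈ HP c0 ∧ g * xy.2 * g⁻¹ ∈ HP c0} := by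
      have hi : ∀ xy : Perm (Fin n) × Perm (Fin n),
          (∃ c : Fin n → Fin b, Bal a c ∧ xy.1 ∈ HP c ∧ xy.2 ∈ HP c) →
          ∃ g : Perm (Fin n), g * xy.1 * g⁻¹ ∈ HP c0 ∧ g * xy.2 * g⁻¹ ∈ HP c0 := by
        rintro xy ⟨c, hc, hx, hy⟩
        obtain ⟨g, hg⟩ := exists_conj (c := c) (c0 := c0) (fun j => (hc j).trans (h0 j).symm)
        have key : ∀ x : Perm (Fin n), x ∈ HP c → g * x * g⁻¹ ∈ HP c0 := by
          rintro x ⟨σ, hσ⟩
          refine ⟨σ, fun i => ?_⟩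
          show c0 (g (x (g⁻¹ i))) = σ (c0 i)
          rw [hg, hσ, ← hg, ais]
        exact ⟨g, key _ hx, key _ hy⟩
      exact Nat.card_le_card_of_injective (fun u => (⟨u.1, hi u.1 u.2⟩ :
        {xy : Perm (Fin n) × Perm (Fin n) //
          ∃ g : Perm (Fin n), g * xy.1 * g⁻¹ ∈ HP c0 ∧ g * xy.2 * g⁻¹ ∈ HP c0}))
        (fun u v huv => Subtype.ext (Subtype.mk.inj huv))
    refine h1.trans ((conj_pairs (HP c0)).trans ?_)
    rw [Nat.card_perm, Nat.card_eq_fintype_card, Fintype.card_fin]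
    exact Nat.mul_le_mul_left _ (card_HP c0 h0)
  · have : IsEmpty {xy : Perm (Fin n) × Perm (Fin n) //
        ∃ c : Fin n → Fin b, Bal a c ∧ xy.1 ∈ HP c ∧ xy.2 ∈ HP c} :=
      ⟨fun u => by obtain ⟨c, hc, _⟩ := u.2; exact h ⟨c, hc⟩⟩
    simp only [_root_.Nat.card_eq_fintype_card, _root_.Fintype.card_eq_zero, _root_.zero_le]

/-- an imprimitive transitive group preserves a balanced colouring -/
theorem exists_bal {n : ℕ} {x y : Perm (Fin n)}
    (h1 : MulAction.IsPretransitive (Subgroup.closure {x, y}) (Fin n))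
    (h2 : ¬ MulAction.IsPreprimitive (Subgroup.closure {x, y}) (Fin n)) :
    ∃ (a b : ℕ) (c : Fin n → Fin b), 2 ≤ a ∧ 2 ≤ b ∧ n = b * a ∧ Bal a c ∧ x ∈ HP c ∧ y ∈ HP c := by
  classical
  set G := Subgroup.closure {x, y} with hG
  have h3 : ∃ B : Set (Fin n), MulAction.IsBlock G B ∧ ¬ MulAction.IsTrivialBlock B := by
    by_contra hc
    push Not at hc
    exact h2 { isTrivialBlock_of_isBlock := fun {B} hB => hc B hB }
  obtain ⟨B, hB, hnt⟩ := h3
  rw [MulAction.IsTrivialBlock, not_or, Set.not_subsingleton_iff] at hnt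
  obtain ⟨hnt1, hnt2⟩ := hnt
  obtain ⟨b0, hb0⟩ := hnt1.nonempty
  have htr : ∀ i : Fin n, ∃ g : G, g • b0 = i := fun i => MulAction.exists_smul_eq G b0 i
  choose t ht using htr
  let f : Fin n → Set (Fin n) := fun i => t i • B
  have hf : ∀ i, i ∈ f i := fun i => by
    show i ∈ t i • B
    rw [← ht i]
    rw [ht i]
    exact ⟨b0, hb0, ht i⟩
  have huniq : ∀ (g : G) (i : Fin n), i ∈ g • B → g • B = f i := by
    intro g i hi
    by_contra hne
    exact Set.disjoint_left.mp (hB hne) hi (hf i)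
  have hfs : ∀ (z : G) (i : Fin n), f (z • i) = z • f i := by
    intro z i
    have h4 : z • i ∈ (z * t i) • B := by
      rw [mul_smul]
      exact Set.smul_mem_smul_set (hf i)
    rw [← huniq _ _ h4, mul_smul]
  have hfm : ∀ i j, f i = f j ↔ i ∈ f j := by
    intro i j
    constructor
    · intro e
      rw [← e]
      exact hf i
    · intro e
      exact (huniq _ _ e).symm
  let T := Set.range f
  have : Fintype T := Fintype.ofFinite T
  let b := Fintype.card T
  let e : T ≃ Fin b := Fintype.equivFin T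
  let c : Fin n → Fin b := fun i => e ⟨f i, i, rfl⟩
  have hcc : ∀ i j, c i = c j ↔ f i = f j := by
    intro i j
    constructor
    · intro h
      exact Subtype.mk.inj (e.injective h)
    · intro h
      show e _ = e _
      congr 1
      exact Subtype.ext h
  have hcs : Function.Surjective c := by
    intro j
    obtain ⟨⟨_, i, rfl⟩, hS⟩ := e.surjective j
    exact ⟨i, hS⟩
  have hmem : ∀ z : Perm (Fin n), z ∈ G → z ∈ HP c := by
    intro z hz
    refine mem_HP_of hcs fun i j => ?_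
    rw [hcc, hcc]
    have e1 : f (z i) = (⟨z, hz⟩ : G) • f i := hfs ⟨z, hz⟩ i
    have e2 : f (z j) = (⟨z, hz⟩ : G) • f j := hfs ⟨z, hz⟩ j
    rw [e1, e2]
    exact ⟨fun h => by rw [h], fun h => smul_left_cancel _ h⟩
  have hbal : Bal (Nat.card B) c := by
    intro j
    obtain ⟨i, rfl⟩ := hcs j
    rw [← Nat.card_eq_fintype_card]
    have e3 : Nat.card {i' // c i' = c i} = Nat.card (f i) :=
      Nat.card_congr (Equiv.subtypeEquivRight fun i' => by rw [hcc, hfm])
    rw [e3]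
    show Nat.card (t i • B : Set (Fin n)) = Nat.card B
    rw [Nat.card_coe_set_eq, Nat.card_coe_set_eq]
    exact Set.ncard_smul_set _ _
  have hx : x ∈ G := Subgroup.subset_closure (by simp)
  have hy : y ∈ G := Subgroup.subset_closure (by simp)
  have hn : n = b * Nat.card B := by
    have e4 : Fintype.card (Fin n) = Fintype.card (Σ j, {i // c i = j}) :=
      Fintype.card_congr (Equiv.sigmaFiberEquiv c).symm
    rw [Fintype.card_fin, Fintype.card_sigma, Finset.sum_congr rfl fun j _ => hbal j, Finset.sum_const,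
      Finset.card_univ, Fintype.card_fin, smul_eq_mul] at e4
    exact e4
  have ha : 2 ≤ Nat.card B := by
    rw [Nat.card_coe_set_eq]
    exact (Set.one_lt_ncard_iff_nontrivial).mpr hnt1
  have hb : 2 ≤ b := by
    by_contra hlt
    have hb1 : b = 1 ∨ b = 0 := by omega
    rcases hb1 with hb1 | hb1
    · apply hnt2
      rw [hb1, one_mul] at hn
      apply Set.eq_univ_of_forall
      intro i
      have hcard : Set.ncard B = Set.ncard (Set.univ : Set (Fin n)) := by
        rw [Set.ncard_univ, ← Nat.card_coe_set_eq, ← hn, Nat.card_eq_fintype_card, Fintype.card_fin]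
      have := Set.eq_of_subset_of_ncard_le (Set.subset_univ B) hcard.ge
      rw [this]
      trivial
    · rw [hb1, zero_mul] at hn
      exact (Fin.elim0 (hn ▸ b0))
  exact ⟨Nat.card B, b, c, ha, hb, hn, hbal, hmem x hx, hmem y hy⟩

theorem asc_ge (a b : ℕ) : ∀ k, k ≤ a → k ! * (b + 1) ^ k ≤ (a * b + 1).ascFactorial k := by
  intro k
  induction k with
  | zero => intro _; simp
  | succ k ih =>
    intro hk
    rw [Nat.ascFactorial_succ, Nat.factorial_succ, pow_succ]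
    have h1 := ih (by omega)
    have h2 : (k + 1) * (b + 1) ≤ a * b + 1 + k := by nlinarith only [hk]
    calc (k + 1) * k ! * ((b + 1) ^ k * (b + 1)) = ((k + 1) * (b + 1)) * (k ! * (b + 1) ^ k) := by ring
      _ ≤ (a * b + 1 + k) * (a * b + 1).ascFactorial k := Nat.mul_le_mul h2 h1

theorem fac_ge (a b : ℕ) : (a !) ^ b * (b !) ^ a ≤ (a * b)! := by
  induction b with
  | zero => simp
  | succ b ih =>
    have h1 : (a * (b + 1))! = (a * b)! * (a * b + 1).ascFactorial a := by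
      rw [Nat.factorial_mul_ascFactorial, mul_add, mul_one]
    rw [h1, Nat.factorial_succ, mul_pow, pow_succ]
    calc (a !) ^ b * a ! * ((b + 1) ^ a * (b !) ^ a) = ((a !) ^ b * (b !) ^ a) * (a ! * (b + 1) ^ a) := by ring
      _ ≤ (a * b)! * (a * b + 1).ascFactorial a := Nat.mul_le_mul ih (asc_ge a b a le_rfl)

theorem two_pow_le_fac (k : ℕ) : 2 ^ k ≤ (k + 1)! := by
  induction k with
  | zero => simp
  | succ k ih =>
    rw [Nat.factorial_succ, pow_succ, mul_comm]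
    exact Nat.mul_le_mul (by omega) ih

theorem fac_main {a b : ℕ} (ha : 2 ≤ a) (hb : 2 ≤ b) :
    b ! * (a !) ^ b * 2 ^ (b * a / 4) ≤ (b * a)! := by
  obtain ⟨a, rfl⟩ : ∃ a', a = a' + 1 := ⟨a - 1, by omega⟩
  obtain ⟨b, rfl⟩ : ∃ b', b = b' + 1 := ⟨b - 1, by omega⟩
  have h1 : (b + 1) * (a + 1) / 4 ≤ b * a := by
    apply Nat.div_le_of_le_mul
    nlinarith
  have h2 : 2 ^ ((b + 1) * (a + 1) / 4) ≤ ((b + 1)!) ^ a := by
    calc 2 ^ ((b + 1) * (a + 1) / 4) ≤ 2 ^ (b * a) := Nat.pow_le_pow_right (by norm_num) h1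
      _ = (2 ^ b) ^ a := pow_mul _ _ _
      _ ≤ ((b + 1)!) ^ a := Nat.pow_le_pow_left (two_pow_le_fac b) a
  calc (b + 1)! * ((a + 1)!) ^ (b + 1) * 2 ^ ((b + 1) * (a + 1) / 4)
      ≤ (b + 1)! * ((a + 1)!) ^ (b + 1) * ((b + 1)!) ^ a := Nat.mul_le_mul_left _ h2
    _ = ((a + 1)!) ^ (b + 1) * ((b + 1)!) ^ (a + 1) := by ring
    _ ≤ ((a + 1) * (b + 1))! := fac_ge _ _
    _ = ((b + 1) * (a + 1))! := by rw [mul_comm]

theorem not_prim_nat (n : ℕ) :
    Nat.card {xy : Perm (Fin n) × Perm (Fin n) //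
      MulAction.IsPretransitive (Subgroup.closure {xy.1, xy.2}) (Fin n) ∧
      ¬ MulAction.IsPreprimitive (Subgroup.closure {xy.1, xy.2}) (Fin n)} * 2 ^ (n / 4) ≤
      n * (n ! * n !) := by
  classical
  have h1 : Nat.card {xy : Perm (Fin n) × Perm (Fin n) //
      MulAction.IsPretransitive (Subgroup.closure {xy.1, xy.2}) (Fin n) ∧
      ¬ MulAction.IsPreprimitive (Subgroup.closure {xy.1, xy.2}) (Fin n)} ≤
      ∑ a ∈ (Finset.range n).filter (fun a => 2 ≤ a ∧ ∃ b, 2 ≤ b ∧ n = b * a),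
        Nat.card {xy : Perm (Fin n) × Perm (Fin n) //
          ∃ c : Fin n → Fin (n / a), Bal a c ∧ xy.1 ∈ HP c ∧ xy.2 ∈ HP c} := by
    refine card_le_sum _ _ (fun a (xy : Perm (Fin n) × Perm (Fin n)) =>
      ∃ c : Fin n → Fin (n / a), Bal a c ∧ xy.1 ∈ HP c ∧ xy.2 ∈ HP c) ?_
    rintro xy ⟨ht, hp⟩
    obtain ⟨a, b, c, ha, hb, hn, hc, hx, hy⟩ := exists_bal ht hp
    have hba : n / a = b := by
      rw [hn]
      exact Nat.mul_div_cancel _ (by omega)
    refine ⟨a, ?_, ?_⟩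
    · rw [Finset.mem_filter, Finset.mem_range]
      refine ⟨?_, ha, b, hb, hn⟩
      rw [hn]
      nlinarith only [ha, hb]
    · rw [hba]
      exact ⟨c, hc, hx, hy⟩
  have h2 : ∀ a ∈ (Finset.range n).filter (fun a => 2 ≤ a ∧ ∃ b, 2 ≤ b ∧ n = b * a),
      Nat.card {xy : Perm (Fin n) × Perm (Fin n) //
          ∃ c : Fin n → Fin (n / a), Bal a c ∧ xy.1 ∈ HP c ∧ xy.2 ∈ HP c} * 2 ^ (n / 4) ≤ n ! * n ! := by
    intro a ha
    rw [Finset.mem_filter] at ha
    obtain ⟨_, ha2, b, hb, hn⟩ := ha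
    have hba : n / a = b := by
      rw [hn]
      exact Nat.mul_div_cancel _ (by omega)
    rw [hba]
    calc _ ≤ n ! * (b ! * (a !) ^ b) * 2 ^ (n / 4) := Nat.mul_le_mul_right _ bad_le
      _ = n ! * (b ! * (a !) ^ b * 2 ^ (n / 4)) := by ring
      _ ≤ n ! * n ! := by
        refine Nat.mul_le_mul_left _ ?_
        have := fac_main ha2 hb
        rwa [← hn] at this
  calc _ ≤ (∑ a ∈ (Finset.range n).filter (fun a => 2 ≤ a ∧ ∃ b, 2 ≤ b ∧ n = b * a),
        Nat.card {xy : Perm (Fin n) × Perm (Fin n) //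
          ∃ c : Fin n → Fin (n / a), Bal a c ∧ xy.1 ∈ HP c ∧ xy.2 ∈ HP c}) * 2 ^ (n / 4) :=
        Nat.mul_le_mul_right _ h1
    _ = ∑ a ∈ (Finset.range n).filter (fun a => 2 ≤ a ∧ ∃ b, 2 ≤ b ∧ n = b * a),
        Nat.card {xy : Perm (Fin n) × Perm (Fin n) //
          ∃ c : Fin n → Fin (n / a), Bal a c ∧ xy.1 ∈ HP c ∧ xy.2 ∈ HP c} * 2 ^ (n / 4) := Finset.sum_mul _ _ _
    _ ≤ ∑ _a ∈ (Finset.range n).filter (fun a => 2 ≤ a ∧ ∃ b, 2 ≤ b ∧ n = b * a), n ! * n ! :=
        Finset.sum_le_sum h2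
    _ ≤ n * (n ! * n !) := by
        rw [Finset.sum_const, smul_eq_mul]
        refine Nat.mul_le_mul_right _ ?_
        exact (Finset.card_filter_le _ _).trans (by rw [Finset.card_range])

theorem not_prim : ∀ ε : ℝ, 0 < ε → ∃ N : ℕ, ∀ n : ℕ, N ≤ n →
    (Nat.card {xy : Equiv.Perm (Fin n) × Equiv.Perm (Fin n) //
      MulAction.IsPretransitive (Subgroup.closure {xy.1, xy.2}) (Fin n) ∧
      ¬ MulAction.IsPreprimitive (Subgroup.closure {xy.1, xy.2}) (Fin n)} : ℝ) ≤ ε * (n.factorial : ℝ) ^ 2 := by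
  intro ε hε
  obtain ⟨N, hN⟩ := exists_nat_gt (16 / ε)
  refine ⟨4 * (N + 2), fun n hn => ?_⟩
  set m := n / 4 with hm
  have hmN : N + 2 ≤ m := by rw [hm]; omega
  have hnm : n ≤ 4 * (m + 1) := by omega
  have hc2 : m.choose 2 ≤ 2 ^ m := Nat.choose_le_two_pow m 2
  have hc2R : (m : ℝ) * ((m : ℝ) - 1) / 2 ≤ (2 : ℝ) ^ m := by
    rw [← Nat.cast_choose_two ℝ m]
    exact_mod_cast hc2
  have hmR : (N : ℝ) + 2 ≤ m := by exact_mod_cast hmN
  have hN0 : (0 : ℝ) ≤ N := Nat.cast_nonneg N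
  have h1 := not_prim_nat n
  rw [← hm] at h1
  set K := Nat.card {xy : Equiv.Perm (Fin n) × Equiv.Perm (Fin n) //
      MulAction.IsPretransitive (Subgroup.closure {xy.1, xy.2}) (Fin n) ∧
      ¬ MulAction.IsPreprimitive (Subgroup.closure {xy.1, xy.2}) (Fin n)} with hK
  have h1R : (K : ℝ) * 2 ^ m ≤ n * ((n ! : ℝ) * (n ! : ℝ)) := by exact_mod_cast h1
  have hpos : (0 : ℝ) < (2 : ℝ) ^ m := by positivity
  have hnR : (n : ℝ) ≤ 4 * (m + 1) := by exact_mod_cast hnm
  have h16 : (16 : ℝ) ≤ ε * (m - 1) := by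
    have : 16 / ε < m - 1 := by linarith only [hN, hmR]
    rw [div_lt_iff₀ hε] at this
    linarith only [this]
  have hkey : (n : ℝ) ≤ ε * 2 ^ m := by
    have h3 : (4 : ℝ) * (m + 1) ≤ 8 * m := by linarith only [hmR]
    have h4 : (8 : ℝ) * m ≤ ε * (m * (m - 1) / 2) := by nlinarith only [h16]
    have h5 : ε * ((m : ℝ) * (m - 1) / 2) ≤ ε * 2 ^ m := mul_le_mul_of_nonneg_left hc2R hε.le
    linarith only [hmR, hnR, h4, h5]
  have h6 : (K : ℝ) * 2 ^ m ≤ (ε * (n ! : ℝ) ^ 2) * 2 ^ m := by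
    calc (K : ℝ) * 2 ^ m ≤ n * ((n ! : ℝ) * (n ! : ℝ)) := h1R
      _ ≤ (ε * 2 ^ m) * ((n ! : ℝ) * (n ! : ℝ)) := mul_le_mul_of_nonneg_right hkey (by positivity)
      _ = (ε * (n ! : ℝ) ^ 2) * 2 ^ m := by ring
  exact le_of_mul_le_mul_right h6 hpos

end Cfsg.Agent.H451.Rg
end

-- part: H692/Rg/AltGen
section
/-!
# S5714, task 4634: almost all pairs generate the alternating groups
-/

set_option autoImplicit false

namespace Cfsg.Agent.H692.Rg

open Cfsg Cfsg.Agent.OrdDiv Cfsg.Agent.H436 Cfsg.Agent.H141.Rg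

/-- **Almost all pairs generate the alternating groups** (S5714, A4). -/
theorem alt_gen : FamGen (fun g => ∃ n, g = .alt n) :=
  alt_gen_of H559.Rg.cycle_pow H451.Rg.not_trans H451.Rg.not_prim

end Cfsg.Agent.H692.Rg
end

-- part: H98/Rg/PairCount
section
/-!
# S5714 W1: counting pairs with a given quotient in a normal set
-/

set_option autoImplicit false

namespace Cfsg.Agent.H98.Rg

open Cfsg Cfsg.Agent.H141.Rg Cfsg.Agent.Characters.Core Cfsg.Agent.Characters.Central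
open scoped ComplexConjugate Classical

universe u

variable {T : Type u} [Group T]

theorem CInv.iff {E : Set T} (hE : CInv E) (x g : T) : g * x * g⁻¹ ∈ E ↔ x ∈ E := by
  refine ⟨fun h => ?_, fun h => hE x h g⟩
  have := hE _ h g⁻¹
  have e : g⁻¹ * (g * x * g⁻¹) * g⁻¹⁻¹ = x := by group
  rwa [e] at this

/-- the indicator function -/
noncomputable def ind (E : Set T) (x : T) : ℂ := if x ∈ E then 1 else 0

theorem ind_class {E : Set T} (hE : CInv E) : IsClassFunction T (ind E) := by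
  intro x g
  unfold ind
  simp only [CInv.iff hE]

omit [Group T] in
theorem conj_ind (E : Set T) (x : T) : conj (ind E x) = ind E x := by
  unfold ind; split_ifs <;> simp

omit [Group T] in
theorem ind_sq (E : Set T) (x : T) : ind E x * ind E x = ind E x := by
  unfold ind; split_ifs <;> simp

/-- the class sum over a normal set acts as a scalar -/
theorem sum_ind_mul [Fintype T] {E : Set T} (hE : CInv E) {χ : T → ℂ} (hχ : IsIrrCharacter T χ) (u : T) :
    ∑ y, ind E y * χ (y * u) = (∑ y, ind E y * χ y) * χ u / χ 1 := by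
  have hne : (Nat.card T : ℂ) ≠ 0 := card_ne_zero_complex
  have h1 : ∀ a : T, ∑ y, ind E y * χ (a * y * a⁻¹ * u) = ∑ y, ind E y * χ (y * u) := by
    intro a
    refine Fintype.sum_equiv (MulAut.conj a).toEquiv _ _ fun y => ?_
    have e : (MulAut.conj a).toEquiv y = a * y * a⁻¹ := rfl
    rw [e, ind_class hE y a]
  have h2 : (Nat.card T : ℂ) * ∑ y, ind E y * χ (y * u) =
      ∑ y, ind E y * ((Nat.card T : ℂ) * χ y * χ u / χ 1) := by
    have h3 : (Nat.card T : ℂ) * ∑ y, ind E y * χ (y * u) = ∑ _a : T, ∑ y, ind E y * χ (y * u) := by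
      rw [Finset.sum_const, Finset.card_univ, Nat.card_eq_fintype_card, nsmul_eq_mul]
    rw [h3, ← Finset.sum_congr rfl fun a _ => h1 a, Finset.sum_comm]
    refine Finset.sum_congr rfl fun y _ => ?_
    rw [← Finset.mul_sum, sum_char_conj_mul hχ]
  refine mul_left_cancel₀ hne (h2.trans ?_)
  rw [Finset.sum_mul, Finset.sum_div, Finset.mul_sum]
  exact Finset.sum_congr rfl fun y _ => by ring

/-- the number of representations -/
noncomputable def nf [Fintype T] (E : Set T) (z : T) : ℂ := ∑ x, ind E x * ind E (x * z)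

theorem nf_class [Fintype T] {E : Set T} (hE : CInv E) : IsClassFunction T (nf E) := by
  intro z g
  unfold nf
  refine Fintype.sum_equiv (MulAut.conj g⁻¹).toEquiv _ _ fun x => ?_
  have e : (MulAut.conj g⁻¹).toEquiv x = g⁻¹ * x * g⁻¹⁻¹ := rfl
  rw [e, ind_class hE x g⁻¹]
  congr 1
  rw [← ind_class hE (g⁻¹ * x * g⁻¹⁻¹ * z) g]
  congr 1
  group

theorem classInner_nf [Fintype T] {E : Set T} (hE : CInv E) {χ : T → ℂ} (hχ : IsIrrCharacter T χ) :
    classInner (nf E) χ = (Nat.card T : ℂ)⁻¹ *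
      ((∑ y, ind E y * χ y) * conj (∑ y, ind E y * χ y) / χ 1) := by
  have h1r : conj (χ 1) = χ 1 := by
    obtain ⟨n, _, hn⟩ := isIrr_apply_one hχ
    rw [hn]; simp
  unfold classInner
  congr 1
  have h1 : ∑ z, nf E z * conj (χ z) = ∑ x, ind E x * ∑ y, ind E y * conj (χ (x⁻¹ * y)) := by
    unfold nf
    simp only [Finset.sum_mul]
    rw [Finset.sum_comm]
    refine Finset.sum_congr rfl fun x _ => ?_
    rw [Finset.mul_sum]
    refine Fintype.sum_equiv (Equiv.mulLeft x) _ _ fun z => ?_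
    simp only [Equiv.coe_mulLeft, inv_mul_cancel_left]
    ring
  rw [h1]
  have h2 : ∀ x : T, ∑ y, ind E y * conj (χ (x⁻¹ * y)) =
      conj (∑ y, ind E y * χ y) * χ x / χ 1 := by
    intro x
    have h3 := congrArg conj (sum_ind_mul hE hχ x⁻¹)
    rw [map_sum, map_div₀, map_mul, h1r, isCharacter_apply_inv (isIrr_isCharacter hχ), Complex.conj_conj] at h3
    rw [← h3]
    refine Finset.sum_congr rfl fun y _ => ?_
    rw [map_mul, conj_ind]
    congr 2
    have := isIrr_isClassFunction hχ (x⁻¹ * y) x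
    rw [← this]
    congr 1
    group
  simp only [h2]
  rw [Finset.sum_mul, Finset.sum_div]
  exact Finset.sum_congr rfl fun x _ => by ring

theorem nf_eq [Fintype T] [Fintype (IrrCharacter T)] {E : Set T} (hE : CInv E) (z : T) :
    (Nat.card T : ℂ) * nf E z = ∑ χ : IrrCharacter T,
      ((∑ y, ind E y * (χ : T → ℂ) y) * conj (∑ y, ind E y * (χ : T → ℂ) y) / (χ : T → ℂ) 1) * (χ : T → ℂ) z := by
  have hne : (Nat.card T : ℂ) ≠ 0 := card_ne_zero_complex
  conv_lhs => rw [classFunction_eq_sum (nf_class hE)]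
  rw [Finset.sum_apply, Finset.mul_sum]
  refine Finset.sum_congr rfl fun χ _ => ?_
  rw [Pi.smul_apply, smul_eq_mul, classInner_nf hE χ.2]
  field_simp

theorem parseval [Fintype T] [Fintype (IrrCharacter T)] {E : Set T} (hE : CInv E) :
    ∑ χ : IrrCharacter T, (∑ y, ind E y * (χ : T → ℂ) y) * conj (∑ y, ind E y * (χ : T → ℂ) y) =
      (Nat.card T : ℂ) * ∑ y, ind E y := by
  have hne : (Nat.card T : ℂ) ≠ 0 := card_ne_zero_complex
  have h1 := classInner_eq_sum (ind_class hE) (ind_class hE)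
  have h2 : classInner (ind E) (ind E) = (Nat.card T : ℂ)⁻¹ * ∑ y, ind E y := by
    unfold classInner
    simp only [conj_ind, ind_sq]
  rw [h2] at h1
  have h3 : ∀ χ : IrrCharacter T, classInner (ind E) (χ : T → ℂ) =
      (Nat.card T : ℂ)⁻¹ * conj (∑ y, ind E y * (χ : T → ℂ) y) := by
    intro χ
    unfold classInner
    congr 1
    rw [map_sum]
    exact Finset.sum_congr rfl fun y _ => by rw [map_mul, conj_ind]
  simp only [h3] at h1
  have h4 : (Nat.card T : ℂ) * ∑ y, ind E y =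
      (Nat.card T : ℂ) ^ 2 * ((Nat.card T : ℂ)⁻¹ * ∑ y, ind E y) := by
    field_simp
  rw [h4, h1, Finset.mul_sum]
  refine Finset.sum_congr rfl fun χ _ => ?_
  rw [map_mul, Complex.conj_conj, map_inv₀, Complex.conj_natCast]
  field_simp

omit [Group T] in
theorem sum_ind [Fintype T] (E : Set T) : ∑ y, ind E y = (Nat.card E : ℂ) := by
  unfold ind
  rw [Finset.sum_boole, Nat.card_eq_fintype_card, Fintype.card_subtype]

theorem nf_card [Fintype T] (E : Set T) (z : T) : nf E z = (Nat.card {x : T // x ∈ E ∧ x * z ∈ E} : ℂ) := by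
  unfold nf ind
  rw [Nat.card_eq_fintype_card, Fintype.card_subtype, ← Finset.sum_boole]
  refine Finset.sum_congr rfl fun x _ => ?_
  by_cases h1 : x ∈ E <;> by_cases h2 : x * z ∈ E <;> simp [h1, h2]

/-- W1 -/
theorem pair_count {T : Type u} [Group T] [Finite T] {E : Set T} (hE : CInv E) {ρ : ℝ} (hρ : 0 ≤ ρ) {z : T}
    (hz : Rat ρ z) : (Nat.card {x : T // x ∈ E ∧ x * z ∈ E} : ℝ) * Nat.card T ≤
      (Nat.card E : ℝ) ^ 2 + ρ * Nat.card E * Nat.card T := by
  have := Fintype.ofFinite T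
  have hfin : Finite (IrrCharacter T) := finite_irr
  have := Fintype.ofFinite (IrrCharacter T)
  have h1 := nf_eq hE z
  rw [nf_card] at h1
  have h2 := parseval hE
  rw [sum_ind] at h2
  set e : IrrCharacter T → ℂ := fun χ => ∑ y, ind E y * (χ : T → ℂ) y with he
  have hee : ∀ χ, e χ * conj (e χ) = ((‖e χ‖ ^ 2 : ℝ) : ℂ) := fun χ => by
    rw [Complex.mul_conj']; push_cast; rfl
  -- the sum of squares
  have h3 : ∑ χ, ‖e χ‖ ^ 2 = (Nat.card T : ℝ) * Nat.card E := by
    have : ((∑ χ, ‖e χ‖ ^ 2 : ℝ) : ℂ) = (((Nat.card T : ℝ) * Nat.card E : ℝ) : ℂ) := by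
      rw [Complex.ofReal_sum]
      simp only [← hee]
      rw [h2]
      push_cast
      rfl
    exact_mod_cast this
  -- termwise estimate
  have h4 : ∀ χ : IrrCharacter T, (e χ * conj (e χ) / (χ : T → ℂ) 1 * (χ : T → ℂ) z).re ≤
      if (χ : T → ℂ) = 1 then (Nat.card E : ℝ) ^ 2 else ρ * ‖e χ‖ ^ 2 := by
    intro χ
    obtain ⟨n, hn, hχ1⟩ := isIrr_apply_one χ.2
    split_ifs with hc
    · have : e χ = Nat.card E := by
        simp only [he, hc, Pi.one_apply, mul_one]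
        exact sum_ind E
      rw [this, hc]
      simp only [Pi.one_apply, div_one, mul_one, Complex.conj_natCast]
      rw [← Nat.cast_mul, Complex.natCast_re, sq, Nat.cast_mul]
    · have hnt : ∃ g, (χ : T → ℂ) g ≠ 1 := by
        by_contra hcon
        push Not at hcon
        exact hc (funext hcon)
      have h5 := hz χ χ.2 hnt
      rw [hχ1, Complex.natCast_re] at h5
      refine (Complex.re_le_norm _).trans ?_
      rw [hee, norm_mul, norm_div, hχ1, Complex.norm_natCast, Complex.norm_real, Real.norm_of_nonneg (sq_nonneg _)]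
      have hn' : (0 : ℝ) < n := by exact_mod_cast hn
      calc ‖e χ‖ ^ 2 / n * ‖(χ : T → ℂ) z‖ ≤ ‖e χ‖ ^ 2 / n * (ρ * n) := by
            exact mul_le_mul_of_nonneg_left h5 (by (clear * - hn; positivity))
        _ = ρ * ‖e χ‖ ^ 2 := by field_simp
  have h6 : (Nat.card {x : T // x ∈ E ∧ x * z ∈ E} : ℝ) * Nat.card T =
      ∑ χ : IrrCharacter T, (e χ * conj (e χ) / (χ : T → ℂ) 1 * (χ : T → ℂ) z).re := by
    rw [← Complex.re_sum, ← h1, ← Complex.ofReal_natCast, ← Complex.ofReal_natCast, ← Complex.ofReal_mul,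
      Complex.ofReal_re, mul_comm]
  rw [h6]
  refine (Finset.sum_le_sum fun χ _ => h4 χ).trans ?_
  have hone : IsIrrCharacter T (1 : T → ℂ) := isIrr_one
  let χ0 : IrrCharacter T := ⟨1, hone⟩
  rw [← Finset.add_sum_erase Finset.univ _ (Finset.mem_univ χ0)]
  have h7 : ∑ χ ∈ Finset.univ.erase χ0, (if (χ : T → ℂ) = 1 then (Nat.card E : ℝ) ^ 2 else ρ * ‖e χ‖ ^ 2) ≤
      ρ * (Nat.card E : ℝ) * Nat.card T := by
    calc _ = ∑ χ ∈ Finset.univ.erase χ0, ρ * ‖e χ‖ ^ 2 := by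
          refine Finset.sum_congr rfl fun χ hχ => ?_
          rw [if_neg]
          intro h
          exact (Finset.mem_erase.1 hχ).1 (Subtype.ext h)
      _ ≤ ∑ χ, ρ * ‖e χ‖ ^ 2 :=
          Finset.sum_le_sum_of_subset_of_nonneg (Finset.erase_subset _ _) fun χ _ _ => by (clear * - hρ; positivity)
      _ = _ := by rw [← Finset.mul_sum, h3]; ring
  have h8 : (if (χ0 : T → ℂ) = 1 then (Nat.card E : ℝ) ^ 2 else ρ * ‖e χ0‖ ^ 2) = (Nat.card E : ℝ) ^ 2 := if_pos rfl
  rw [h8]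
  linarith only [h7]

end Cfsg.Agent.H98.Rg
end

-- part: H219/Rg/OrdLe
section
/-!
# S5714, [X2] : the number of elements of small order (helper219)
-/

set_option autoImplicit false
set_option linter.unusedSectionVars false

namespace Cfsg.Agent.H219.Rg

open Cfsg Cfsg.Agent.H141.Rg

universe u

section

open scoped Classical in
/-- the indicator function -/
noncomputable def ind {T : Type u} (E : Set T) (g : T) : ℝ := if g ∈ E then 1 else 0

variable {T : Type u} [Group T]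

theorem ind_sq (E : Set T) (g : T) : ind E g * ind E g = ind E g := by
  unfold ind
  split_ifs <;> norm_num

variable [Fintype T]

theorem sum_ind (E : Set T) : ∑ g, ind E g = (Nat.card E : ℝ) := by
  classical
  unfold ind
  rw [Finset.sum_ite, Finset.sum_const_zero, add_zero, Finset.sum_const, nsmul_eq_mul, mul_one, Nat.card_eq_fintype_card,
    Fintype.card_subtype]

theorem sum_mulRight (f : T → ℝ) (a : T) : ∑ g, f (g * a) = ∑ g, f g :=
  Equiv.sum_comp (Equiv.mulRight a) f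

theorem sum_pair (E : Set T) (a b : T) : ∑ g, ind E (g * a) * ind E (g * b) =
    (Nat.card {y : T // y ∈ E ∧ y * (a⁻¹ * b) ∈ E} : ℝ) := by
  classical
  rw [← sum_mulRight (fun g => ind E (g * a) * ind E (g * b)) a⁻¹]
  have h1 : ∀ g : T, ind E (g * a⁻¹ * a) * ind E (g * a⁻¹ * b) = if g ∈ E ∧ g * (a⁻¹ * b) ∈ E then 1 else 0 := by
    intro g
    rw [inv_mul_cancel_right, mul_assoc]
    unfold ind
    by_cases h1 : g ∈ E <;> by_cases h2 : g * (a⁻¹ * b) ∈ E <;> simp only [h1, h2, ↓ _root_.reduceIte, _root_.mul_one, _root_.and_self, _root_.MulZeroClass.mul_zero, _root_.and_false, _root_.and_true]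
  rw [Finset.sum_congr rfl fun g _ => h1 g, Finset.sum_ite, Finset.sum_const_zero, add_zero, Finset.sum_const,
    nsmul_eq_mul, mul_one, Nat.card_eq_fintype_card, Fintype.card_subtype]

/-- **the second moment** -/
theorem variance {E : Set T} (hE : CInv E) {ρ : ℝ} (hρ0 : 0 ≤ ρ) (hρ : ∀ z : T, z ≠ 1 → Rat ρ z) {F : Type} [Fintype F]
    (x : F → T) (hx : Function.Injective x) :
    ∑ g, (∑ t, ind E (g * x t) - (Nat.card F : ℝ) * Nat.card E / Nat.card T) ^ 2 ≤
      (Nat.card F : ℝ) * Nat.card E + (Nat.card F : ℝ) ^ 2 * (ρ * Nat.card E) := by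
  classical
  set a : ℝ := (Nat.card E : ℝ) with ha
  set n : ℝ := (Nat.card T : ℝ) with hn
  set q : ℝ := (Nat.card F : ℝ) with hq
  have hn0 : 0 < n := by rw [hn]; exact_mod_cast Nat.card_pos
  have ha0 : 0 ≤ a := by rw [ha]; positivity
  have hcq : (Fintype.card F : ℝ) = q := by rw [hq, Nat.card_eq_fintype_card]
  have hcn : (Fintype.card T : ℝ) = n := by rw [hn, Nat.card_eq_fintype_card]
  have h1 : ∑ g, ∑ t, ind E (g * x t) = q * a := by
    rw [Finset.sum_comm, Finset.sum_congr rfl fun t _ => (sum_mulRight (ind E) (x t)).trans (sum_ind E),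
      Finset.sum_const, Finset.card_univ, nsmul_eq_mul, hcq]
  have h2 : ∑ g, (∑ t, ind E (g * x t)) ^ 2 ≤ q * a + q ^ 2 * (a ^ 2 / n + ρ * a) := by
    have e1 : ∑ g, (∑ t, ind E (g * x t)) ^ 2 = ∑ t, ∑ t', ∑ g, ind E (g * x t) * ind E (g * x t') := by
      have e2 : ∀ g, (∑ t, ind E (g * x t)) ^ 2 = ∑ t, ∑ t', ind E (g * x t) * ind E (g * x t') := by
        intro g
        rw [sq, Finset.sum_mul_sum]
      rw [Finset.sum_congr rfl fun g _ => e2 g, Finset.sum_comm]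
      refine Finset.sum_congr rfl fun t _ => ?_
      rw [Finset.sum_comm]
    rw [e1]
    have e3 : ∀ t t' : F, ∑ g, ind E (g * x t) * ind E (g * x t') ≤ (if t = t' then a else 0) + (a ^ 2 / n + ρ * a) := by
      intro t t'
      have hpos : 0 ≤ a ^ 2 / n + ρ * a := by (clear * - hρ0 hn0; positivity)
      by_cases htt : t = t'
      · subst htt
        rw [if_pos rfl, Finset.sum_congr rfl fun g _ => ind_sq E (g * x t), sum_mulRight (ind E) (x t), sum_ind]
        linarith only [hpos]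
      · rw [if_neg htt, zero_add, sum_pair]
        have hz : (x t)⁻¹ * x t' ≠ 1 := by
          intro h
          exact htt (hx (inv_mul_eq_one.1 h))
        have h3 := H98.Rg.pair_count hE hρ0 (hρ _ hz)
        rw [← ha, ← hn] at h3
        rw [← sub_nonneg] at h3 ⊢
        have h4 : a ^ 2 / n + ρ * a - (Nat.card {y : T // y ∈ E ∧ y * ((x t)⁻¹ * x t') ∈ E} : ℝ) =
            (a ^ 2 + ρ * a * n - (Nat.card {y : T // y ∈ E ∧ y * ((x t)⁻¹ * x t') ∈ E} : ℝ) * n) / n := by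
          field_simp
        rw [h4]
        exact div_nonneg h3 hn0.le
    refine (Finset.sum_le_sum fun t _ => Finset.sum_le_sum fun t' _ => e3 t t').trans (le_of_eq ?_)
    have e4 : ∀ t : F, ∑ t', ((if t = t' then a else 0) + (a ^ 2 / n + ρ * a)) = a + q * (a ^ 2 / n + ρ * a) := by
      intro t
      rw [Finset.sum_add_distrib, Finset.sum_ite_eq, if_pos (Finset.mem_univ t), Finset.sum_const, Finset.card_univ,
        nsmul_eq_mul, hcq]
    rw [Finset.sum_congr rfl fun t _ => e4 t, Finset.sum_const, Finset.card_univ, nsmul_eq_mul, hcq]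
    ring
  have h3 : ∑ g, (∑ t, ind E (g * x t) - q * a / n) ^ 2 =
      ∑ g, (∑ t, ind E (g * x t)) ^ 2 - 2 * (q * a / n) * ∑ g, ∑ t, ind E (g * x t) + n * (q * a / n) ^ 2 := by
    rw [Finset.mul_sum, ← Finset.sum_sub_distrib]
    have : n * (q * a / n) ^ 2 = ∑ _g : T, (q * a / n) ^ 2 := by
      rw [Finset.sum_const, Finset.card_univ, nsmul_eq_mul, hcn]
    rw [this, ← Finset.sum_add_distrib]
    exact Finset.sum_congr rfl fun g _ => by ring
  rw [h3, h1]
  have h4 : n * (q * a / n) ^ 2 = q ^ 2 * (a ^ 2 / n) := by field_simp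
  have h5 : 2 * (q * a / n) * (q * a) = 2 * (q ^ 2 * (a ^ 2 / n)) := by ring
  rw [h4, h5]
  linarith only [h2]

end

/-- the elements of small order -/
def small (T : Type u) [Group T] (k : ℕ) : Set T := {y | ∃ m : ℕ, 1 ≤ m ∧ (m : ℝ) ≤ k ∧ y ^ m = 1}

theorem small_cinv (T : Type u) [Group T] (k : ℕ) : CInv (small T k) := by
  rintro y ⟨m, h1, h2, h3⟩ g
  exact ⟨m, h1, h2, by rw [conj_pow, h3, mul_one, mul_inv_cancel]⟩

/-- few solutions for `g ∈ S` -/
theorem sum_le {T : Type u} [Group T] [Fintype T] {F : Type} [Fintype F] (x : F → T) {D k : ℕ} {g : T}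
    (hD : ∀ m, 1 ≤ m → m ≤ k → Nat.card {t : F // (g * x t) ^ m = 1} ≤ D * m) :
    ∑ t, ind (small T k) (g * x t) ≤ D * k ^ 2 := by
  classical
  have h1 : ∀ t, ind (small T k) (g * x t) ≤ ∑ m ∈ Finset.Icc 1 k, if (g * x t) ^ m = 1 then (1 : ℝ) else 0 := by
    intro t
    unfold ind
    split_ifs with h
    · obtain ⟨m, h1, h2, h3⟩ := h
      have h4 : m ∈ Finset.Icc 1 k := Finset.mem_Icc.2 ⟨h1, by exact_mod_cast h2⟩
      refine le_trans (le_of_eq ?_) (Finset.single_le_sum (f := fun m => if (g * x t) ^ m = 1 then (1 : ℝ) else 0)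
        (fun m _ => by split_ifs <;> norm_num) h4)
      rw [if_pos h3]
    · exact Finset.sum_nonneg fun m _ => by split_ifs <;> norm_num
  refine (Finset.sum_le_sum fun t _ => h1 t).trans ?_
  rw [Finset.sum_comm]
  have h2 : ∀ m ∈ Finset.Icc 1 k, ∑ t : F, (if (g * x t) ^ m = 1 then (1 : ℝ) else 0) ≤ D * k := by
    intro m hm
    rw [Finset.mem_Icc] at hm
    have h3 : ∑ t : F, (if (g * x t) ^ m = 1 then (1 : ℝ) else 0) = (Nat.card {t : F // (g * x t) ^ m = 1} : ℝ) := by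
      rw [Finset.sum_ite, Finset.sum_const_zero, add_zero, Finset.sum_const, nsmul_eq_mul, mul_one,
        Nat.card_eq_fintype_card, Fintype.card_subtype]
    rw [h3]
    calc (Nat.card {t : F // (g * x t) ^ m = 1} : ℝ) ≤ ((D * m : ℕ) : ℝ) := by exact_mod_cast hD m hm.1 hm.2
      _ ≤ ((D * k : ℕ) : ℝ) := by exact_mod_cast Nat.mul_le_mul_left D hm.2
      _ = D * k := by push_cast; ring
  refine (Finset.sum_le_sum h2).trans (le_of_eq ?_)
  rw [Finset.sum_const, Nat.card_Icc, nsmul_eq_mul, Nat.add_sub_cancel]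
  ring

/-- with `0 ≤ ρ` -/
theorem ordLe_of_rat' {T : Type u} [Group T] [Finite T] {ρ : ℝ} (hρ0 : 0 ≤ ρ) (hρ : ∀ z : T, z ≠ 1 → Rat ρ z)
    {F : Type} [Finite F] [Nonempty F] (x : F → T) (hx : Function.Injective x) {c : ℝ} (hc : 0 < c) (S : Set T)
    (hS : c * (Nat.card T : ℝ) ≤ Nat.card S) {D k : ℕ} (hk : 1 ≤ k)
    (hD : ∀ g ∈ S, ∀ m, 1 ≤ m → m ≤ k → Nat.card {t : F // (g * x t) ^ m = 1} ≤ D * m) :
    (ordLe T k : ℝ) ≤ max (2 * D * k ^ 2 / (Nat.card F : ℝ)) (4 * (1 / (Nat.card F : ℝ) + ρ) / c) * Nat.card T := by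
  classical
  have := Fintype.ofFinite T
  have := Fintype.ofFinite F
  have hcE : (ordLe T k : ℝ) = Nat.card (small T k) := rfl
  have hV := variance (small_cinv T k) hρ0 hρ x hx
  have hq0 : (0 : ℝ) < Nat.card F := by exact_mod_cast Nat.card_pos
  have hn0 : (0 : ℝ) < Nat.card T := by exact_mod_cast Nat.card_pos
  rw [hcE]
  have ha0 : (0 : ℝ) < Nat.card (small T k) := by
    have : Nonempty (small T k) := ⟨⟨1, 1, le_rfl, by exact_mod_cast hk, one_pow 1⟩⟩
    exact_mod_cast Nat.card_pos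
  set a : ℝ := (Nat.card (small T k) : ℝ) with ha
  set n : ℝ := (Nat.card T : ℝ) with hn
  set q : ℝ := (Nat.card F : ℝ) with hq
  rw [← div_le_iff₀ hn0, le_max_iff]
  by_contra hcon
  push Not at hcon
  obtain ⟨h1, h2⟩ := hcon
  have h3 : 2 * (D * (k : ℝ) ^ 2) < q * a / n := by
    rw [div_lt_iff₀ hq0] at h1
    calc 2 * (D * (k : ℝ) ^ 2) = 2 * D * (k : ℝ) ^ 2 := by ring
      _ < a / n * q := h1
      _ = q * a / n := by ring
  -- the elements of `S`
  have h4 : ∀ g ∈ S, (q * a / n / 2) ^ 2 ≤ (∑ t, ind (small T k) (g * x t) - q * a / n) ^ 2 := by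
    intro g hg
    have h5 := sum_le x (D := D) (k := k) (g := g) (hD g hg)
    have h6 : q * a / n / 2 ≤ q * a / n - ∑ t, ind (small T k) (g * x t) := by linarith only [h3, h5]
    have h7 : 0 ≤ q * a / n / 2 := by (clear * -; positivity)
    calc (q * a / n / 2) ^ 2 ≤ (q * a / n - ∑ t, ind (small T k) (g * x t)) ^ 2 := by gcongr
      _ = _ := by ring
  have h5 : (Nat.card S : ℝ) * (q * a / n / 2) ^ 2 ≤ q * a + q ^ 2 * (ρ * a) := by
    refine le_trans ?_ hV
    rw [← sum_ind S, Finset.sum_mul]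
    refine Finset.sum_le_sum fun g _ => ?_
    unfold ind
    split_ifs with hg
    · rw [one_mul]
      have := h4 g hg
      unfold ind at this
      exact this
    · rw [zero_mul]; (clear * -; positivity)
  have h6 : c * n * (q * a / n / 2) ^ 2 ≤ q * a + q ^ 2 * (ρ * a) :=
    (mul_le_mul_of_nonneg_right hS (by (clear * - ha0; positivity))).trans h5
  have h7 : c * n * (q * a / n / 2) ^ 2 = (c * (a / n) / 4) * (q ^ 2 * a) := by
    field_simp
    ring
  have h8 : q * a + q ^ 2 * (ρ * a) = (1 / q + ρ) * (q ^ 2 * a) := by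
    field_simp
  rw [h7, h8] at h6
  have h9 : c * (a / n) / 4 ≤ 1 / q + ρ := le_of_mul_le_mul_right h6 (by (clear * - ha0 hq0; positivity))
  rw [div_lt_iff₀ hc] at h2
  linarith only [h2, h9]

/-- a nontrivial group has a nontrivial irreducible character -/
theorem exists_irr {T : Type u} [Group T] [Finite T] [Nontrivial T] : ∃ χ : IrrCharacter T, ∃ g, (χ : T → ℂ) g ≠ 1 := by
  have hft : Fintype T := Fintype.ofFinite _
  have hfin : Finite (IrrCharacter T) := Characters.Core.finite_irr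
  have hft' : Fintype (IrrCharacter T) := Fintype.ofFinite _
  by_contra hcon
  push Not at hcon
  have h1 := H686.CharKit.sum_normSq (G := T) 1
  have h2 : Nat.card (Subgroup.centralizer ({1} : Set T)) = Nat.card T := by
    rw [show Subgroup.centralizer ({1} : Set T) = ⊤ by
      ext g
      simp [Subgroup.mem_centralizer_singleton_iff], Subgroup.card_top]
  rw [h2] at h1
  have h3 : ∑ χ : IrrCharacter T, Complex.normSq ((χ : T → ℂ) 1) ≤ 1 := by
    have h4 : Subsingleton (IrrCharacter T) := by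
      refine ⟨fun χ ψ => Subtype.ext ?_⟩
      funext g
      rw [show χ.1 g = 1 from hcon χ g, show ψ.1 g = 1 from hcon ψ g]
    calc ∑ χ : IrrCharacter T, Complex.normSq ((χ : T → ℂ) 1) = ∑ χ : IrrCharacter T, (1 : ℝ) :=
          Finset.sum_congr rfl fun χ _ => by rw [hcon χ 1, Complex.normSq_one]
      _ = Fintype.card (IrrCharacter T) := by simp only [_root_.Finset.sum_const, _root_.Finset.card_univ, _root_.nsmul_eq_mul, _root_.mul_one]
      _ ≤ 1 := by exact_mod_cast Fintype.card_le_one_iff_subsingleton.2 h4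
  rw [h1] at h3
  have h4 : 1 < Nat.card T := Finite.one_lt_card
  have h5 : (1 : ℝ) < Nat.card T := by exact_mod_cast h4
  linarith

/-- **[X2]** -/
theorem ordLe_of_rat {T : Type u} [Group T] [Finite T] {ρ : ℝ} (hρ : ∀ z : T, z ≠ 1 → Rat ρ z)
    {F : Type} [Finite F] [Nonempty F] (x : F → T) (hx : Function.Injective x) {c : ℝ} (hc : 0 < c) (S : Set T)
    (hS : c * (Nat.card T : ℝ) ≤ Nat.card S) {D k : ℕ} (hk : 1 ≤ k)
    (hD : ∀ g ∈ S, ∀ m, 1 ≤ m → m ≤ k → Nat.card {t : F // (g * x t) ^ m = 1} ≤ D * m) :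
    (ordLe T k : ℝ) ≤ max (2 * D * k ^ 2 / (Nat.card F : ℝ)) (4 * (1 / (Nat.card F : ℝ) + ρ) / c) * Nat.card T := by
  rcases subsingleton_or_nontrivial T with hT | hT
  · -- the trivial group
    have hF : Nat.card F = 1 := by
      have h1 : Nat.card F ≤ Nat.card T := Nat.card_le_card_of_injective x hx
      rw [Nat.card_eq_one_iff_unique.2 ⟨hT, ⟨1⟩⟩] at h1
      have h2 : 0 < Nat.card F := Nat.card_pos
      omega
    have hn : Nat.card T = 1 := Nat.card_eq_one_iff_unique.2 ⟨hT, ⟨1⟩⟩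
    have h1 : ordLe T k ≤ 1 := by
      rw [← hn]
      exact Nat.card_le_card_of_injective (fun y => y.1) Subtype.val_injective
    have h1S : (1 : T) ∈ S := by
      by_contra h2
      have h3 : Nat.card S = 0 := by
        have : IsEmpty S := ⟨fun y => h2 (by rw [Subsingleton.elim (1 : T) y.1]; exact y.2)⟩
        exact Nat.card_of_isEmpty
      rw [h3, hn] at hS
      simp only [Nat.cast_one, mul_one, CharP.cast_eq_zero] at hS
      linarith only [hc, hS]
    have hD1 : 1 ≤ D := by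
      obtain ⟨t⟩ := ‹Nonempty F›
      have h2 := hD 1 h1S 1 le_rfl hk
      have h3 : 0 < Nat.card {t : F // (1 * x t) ^ 1 = 1} := by
        have : Nonempty {t : F // (1 * x t) ^ 1 = 1} := ⟨⟨t, Subsingleton.elim _ _⟩⟩
        exact Nat.card_pos
      omega
    rw [hF, hn]
    simp only [Nat.cast_one, div_one, mul_one]
    refine le_trans ?_ (le_max_left _ _)
    have h2 : (1 : ℝ) ≤ D := by exact_mod_cast hD1
    have h3 : (1 : ℝ) ≤ k := by exact_mod_cast hk
    have h4 : (ordLe T k : ℝ) ≤ 1 := by exact_mod_cast h1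
    nlinarith only [h2, h4, one_le_pow₀ h3 (n := 2)]
  · have hρ0 : 0 ≤ ρ := by
      obtain ⟨χ, hχ⟩ := exists_irr (T := T)
      obtain ⟨z, hz⟩ := exists_ne (1 : T)
      have h1 := hρ z hz χ χ.2 hχ
      have h2 : 0 < ((χ : T → ℂ) 1).re := by
        obtain ⟨m, hm, hχm⟩ := Characters.Core.isIrr_apply_one χ.2
        rw [hχm, Complex.natCast_re]
        exact_mod_cast hm
      by_contra hcon
      push Not at hcon
      have h3 := norm_nonneg ((χ : T → ℂ) z)
      nlinarith only [h1, h2, hcon, h3]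
    exact ordLe_of_rat' hρ0 hρ x hx hc S hS hk hD

end Cfsg.Agent.H219.Rg
end

-- part: H716/Rg/ExcFin
section
/-!
# S5714 (TEAM RG, helper716): `FamP` for the exceptional groups
-/

set_option autoImplicit false

namespace Cfsg.Agent.H716.Rg

open Cfsg Cfsg.Agent.OrdDiv Cfsg.Agent.H436 Cfsg.Agent.H141.Rg

/-- **`FamP` for the exceptional groups of Lie type.** -/
theorem famP_exc : FamP (fun g => H268.Seven.IsExc g) :=
  famP_exc_of' H274.Rg.lrg_chev fun hρ _ _ _ x hx _ hc S hS _ _ hk hD => H219.Rg.ordLe_of_rat hρ x hx hc S hS hk hD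

end Cfsg.Agent.H716.Rg
end

private theorem dce_ea42368057a6 : _root_.True := by
  try have : _root_.True := by simp only [_root_.Cfsg.Agent.H559.Rg.N.congr_simp]
  try have : _root_.True := by simp only [_root_.Cfsg.Agent.H141.Rg.gp.eq_1]
  try have : _root_.True := by simp only [_root_.Cfsg.Agent.H559.Rg.prs.congr_simp]
  exact _root_.True.intro
end
end
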